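/-
Numeric codes for the direct product of a group of order two and the alternating group of degree five.
-/
import Mathlib

set_option autoImplicit false

namespace CfsgLib.JankoOne

/-- The centraliser of an involution in the smallest Janko group. -/
abbrev K := Multiplicative (ZMod 2) × alternatingGroup (Fin 5)

/-- An octal digit. -/
def dig (n i : ℕ) : ℕ := (n >>> (3 * i)) % 8

/-- Product of codes. -/
def mulC (a b : ℕ) : ℕ :=
  dig a (dig b 0) + 8 * dig a (dig b 1) + 64 * dig a (dig b 2) + 512 * dig a (dig b 3) +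
    4096 * dig a (dig b 4) + 32768 * ((a / 32768 + b / 32768) % 2)

/-- The code of the identity. -/
def oneC : ℕ := 18056

/-- Powers of codes. -/
def powC : ℕ → ℕ → ℕ
  | _, 0 => oneC
  | a, n + 1 => mulC a (powC a n)

/-- The code of an element. -/
def enc (k : K) : ℕ :=
  (k.2.1 0 : ℕ) + 8 * (k.2.1 1 : ℕ) + 64 * (k.2.1 2 : ℕ) + 512 * (k.2.1 3 : ℕ) + 4096 * (k.2.1 4 : ℕ) +
    32768 * (Multiplicative.toAdd k.1).val

/-- All codes. -/
def kList : List ℕ := [18056, 10440, 13576, 14416, 17104, 5904, 17496, 6296, 8984, 9824, 12960, 5344, 14465, 17601, 9985, 17937, 2257, 12561, 10265, 16537, 1305, 13345, 1697, 8417, 17986, 6338, 13058, 14346, 16586, 1802, 16922, 2138, 4378, 5666, 12386, 738, 10307, 17027, 5379, 17419, 2187, 8459, 6163, 16467, 787, 8739, 1123, 4259, 13380, 5764, 8900, 9740, 12428, 1228, 12820, 1620, 4308, 5148, 8284, 668, 50824, 43208, 46344, 47184, 49872, 38672, 50264, 39064, 41752, 42592, 45728, 38112, 47233, 50369, 42753, 50705, 35025, 45329, 43033, 49305, 34073, 46113, 34465, 41185, 50754, 39106, 45826,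 47114, 49354, 34570, 49690, 34906, 37146, 38434, 45154, 33506, 43075, 49795, 38147, 50187, 34955, 41227, 38931, 49235, 33555, 41507, 33891, 37027, 46148, 38532, 41668, 42508, 45196, 33996, 45588, 34388, 37076, 37916, 41052, 33436]

theorem enc_mem : ∀ k : K, enc k ∈ kList := by decide +kernel

theorem card_K : Fintype.card K = 120 := by decide +kernel

theorem nodup_kList : kList.Nodup := by decide +kernel

theorem digits (k : K) : (∀ i : Fin 5, dig (enc k) i = (k.2.1 i : ℕ)) ∧
    enc k / 32768 = (Multiplicative.toAdd k.1).val := by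
  have h0 := (k.2.1 0).isLt
  have h1 := (k.2.1 1).isLt
  have h2 := (k.2.1 2).isLt
  have h3 := (k.2.1 3).isLt
  have h4 := (k.2.1 4).isLt
  have hb := ZMod.val_lt (Multiplicative.toAdd k.1)
  refine ⟨fun i => ?_, ?_⟩
  · match i with
    | 0 => show dig (enc k) 0 = _; simp only [dig, enc, Nat.shiftRight_eq_div_pow]; norm_num; omega
    | 1 => show dig (enc k) 1 = _; simp only [dig, enc, Nat.shiftRight_eq_div_pow]; norm_num; omega
    | 2 => show dig (enc k) 2 = _; simp only [dig, enc, Nat.shiftRight_eq_div_pow]; norm_num; omega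
    | 3 => show dig (enc k) 3 = _; simp only [dig, enc, Nat.shiftRight_eq_div_pow]; norm_num; omega
    | 4 => show dig (enc k) 4 = _; simp only [dig, enc, Nat.shiftRight_eq_div_pow]; norm_num; omega
  · simp only [enc]; omega

theorem enc_mul (x y : K) : enc (x * y) = mulC (enc x) (enc y) := by
  obtain ⟨dx, bx⟩ := digits x
  obtain ⟨dy, bar⟩ := digits y
  have e0 := dy 0
  have e1 := dy 1
  have e2 := dy 2
  have e3 := dy 3
  have e4 := dy 4
  simp only [Fin.val_zero, Fin.val_one, Fin.val_two] at e0 e1 e2
  simp only [show ((3 : Fin 5) : ℕ) = 3 from rfl, show ((4 : Fin 5) : ℕ) = 4 from rfl] at e3 e4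
  rw [mulC, e0, e1, e2, e3, e4, dx, dx, dx, dx, dx, bx, bar]
  have hz : (Multiplicative.toAdd (x * y).1).val =
      ((Multiplicative.toAdd x.1).val + (Multiplicative.toAdd y.1).val) % 2 := by
    rw [Prod.fst_mul, toAdd_mul, ZMod.val_add]
  rw [enc, hz]
  rfl

theorem enc_injective : Function.Injective enc := by
  intro x y h
  obtain ⟨dx, bx⟩ := digits x
  obtain ⟨dy, bar⟩ := digits y
  refine Prod.ext ?_ (Subtype.ext (Equiv.ext fun i => Fin.ext ?_))
  · rw [← Multiplicative.toAdd.injective.eq_iff]
    exact ZMod.val_injective _ (by rw [← bx, ← bar, h])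
  · rw [← dx i, ← dy i, h]

theorem enc_one : enc 1 = oneC := by decide +kernel

theorem enc_pow (x : K) : ∀ n : ℕ, enc (x ^ n) = powC (enc x) n
  | 0 => by rw [pow_zero]; exact enc_one
  | n + 1 => by rw [pow_succ', enc_mul, enc_pow x n]; rfl

theorem eq_iff {x y : K} : x = y ↔ enc x = enc y := enc_injective.eq_iff.symm

theorem image_enc : Finset.univ.image enc = kList.toFinset := by
  refine Finset.eq_of_subset_of_card_le (fun n hn => ?_) ?_
  · obtain ⟨k, -, rfl⟩ := Finset.mem_image.mp hn
    exact List.mem_toFinset.mpr (enc_mem k)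
  · rw [List.toFinset_card_of_nodup nodup_kList, Finset.card_image_of_injective _ enc_injective,
      Finset.card_univ, card_K]
    decide +kernel

theorem card_filter_enc (P : ℕ → Bool) :
    (Finset.univ.filter fun k : K => P (enc k) = true).card = (kList.filter P).length := by
  rw [← Finset.card_image_of_injective _ enc_injective,
    ← Finset.filter_image (f := enc) (p := fun n => P n = true), image_enc,
    ← List.toFinset_filter, List.toFinset_card_of_nodup (nodup_kList.filter _)]

theorem exists_enc {n : ℕ} (hn : n ∈ kList) : ∃ k : K, enc k = n := by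
  have : n ∈ Finset.univ.image enc := image_enc ▸ List.mem_toFinset.mpr hn
  obtain ⟨k, -, hk⟩ := Finset.mem_image.mp this
  exact ⟨k, hk⟩

theorem sum_filter_enc (P : ℕ → Bool) (f : ℕ → ℕ) :
    ∑ k ∈ Finset.univ.filter (fun k : K => P (enc k) = true), f (enc k) = ((kList.filter P).map f).sum := by
  rw [← Finset.sum_image (f := f) fun a _ b _ h => enc_injective h,
    ← Finset.filter_image (f := enc) (p := fun n => P n = true), image_enc,
    ← List.toFinset_filter, List.sum_toFinset _ (nodup_kList.filter _)]

end CfsgLib.JankoOne
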