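/-
Finite facts about the direct product of a group of order two and the alternating group of degree five.
-/
import Cfsg.Agent.Lib.JankoOne.KCode

set_option autoImplicit false

namespace CfsgLib.JankoOne

/-- The central involution. -/
def z0 : K := (Multiplicative.ofAdd 1, 1)

/-- An involution of the alternating factor. -/
def v0 : K := (1, ⟨Equiv.swap 0 1 * Equiv.swap 2 3, by rw [Equiv.Perm.mem_alternatingGroup]; decide +kernel⟩)

/-- An element of order three normalising the four group of `v0`. -/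
def c0 : K := (1, ⟨Equiv.swap 0 1 * Equiv.swap 1 2, by rw [Equiv.Perm.mem_alternatingGroup]; decide +kernel⟩)

/-- An element of order five. -/
def q0 : K := (1, ⟨Equiv.swap 0 1 * Equiv.swap 1 2 * Equiv.swap 2 3 * Equiv.swap 3 4,
  by rw [Equiv.Perm.mem_alternatingGroup]; decide +kernel⟩)

/-- The second involution of the four group. -/
def v1 : K := c0 * v0 * c0 ^ 2

theorem enc_z0 : enc z0 = 18056 + 32768 := by decide +kernel
theorem enc_v0 : enc v0 = 17601 := by decide +kernel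
theorem enc_c0 : enc c0 = 17937 := by decide +kernel
theorem enc_q0 : enc q0 = 2257 := by decide +kernel

/-- The identity code shifted by the central involution. -/
def zC : ℕ := 18056 + 32768

/-- A code for an involution. -/
def invC (n : ℕ) : Bool := mulC n n == oneC && n != oneC

theorem invC_iff (k : K) : invC (enc k) = true ↔ k * k = 1 ∧ k ≠ 1 := by
  simp [invC, eq_iff, enc_mul, enc_one]

theorem pow_thirtyC : ∀ n ∈ kList, powC n 30 = oneC := by decide +kernel

theorem pow_thirty (k : K) : k ^ 30 = 1 := by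
  rw [eq_iff, enc_pow, enc_one]; exact pow_thirtyC _ (enc_mem k)

theorem z0_sq : z0 * z0 = 1 ∧ z0 ≠ 1 := by
  simp only [ne_eq, eq_iff, enc_mul, enc_one, enc_z0]
  decide +kernel

theorem z0_centralC : ∀ n ∈ kList, mulC zC n = mulC n zC := by decide +kernel

theorem z0_central (k : K) : z0 * k = k * z0 := by
  rw [eq_iff, enc_mul, enc_mul, enc_z0]; exact z0_centralC _ (enc_mem k)

theorem center_casesC : ∀ n ∈ kList, n = oneC ∨ n = zC ∨ ∃ l ∈ kList, mulC n l ≠ mulC l n := by decide +kernel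

theorem center_cases (k : K) (h : ∀ l : K, k * l = l * k) : k = 1 ∨ k = z0 := by
  rcases center_casesC _ (enc_mem k) with e | e | ⟨l, hl, hne⟩
  · exact Or.inl (enc_injective (e.trans enc_one.symm))
  · exact Or.inr (enc_injective (e.trans enc_z0.symm))
  · obtain ⟨l', rfl⟩ := exists_enc hl
    exact absurd (by rw [← enc_mul, ← enc_mul, h]) hne

theorem odd_comm_invC : ∀ o ∈ kList, powC o 15 = oneC → o ≠ oneC → ∀ k ∈ kList, mulC k k = oneC →
    mulC k o = mulC o k → k ≠ oneC → k = zC := by decide +kernel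

/-- A non-trivial element of odd order commutes with no involution other than the central one. -/
theorem odd_comm_inv {o k : K} (h1 : o ^ 15 = 1) (h2 : o ≠ 1) (h3 : k * k = 1) (h4 : k * o = o * k)
    (h5 : k ≠ 1) : k = z0 := by
  rw [eq_iff, enc_z0]
  exact odd_comm_invC _ (enc_mem o) (by rw [← enc_pow, h1, enc_one]) (fun e => h2 (enc_injective (e.trans enc_one.symm)))
    _ (enc_mem k) (by rw [← enc_mul, h3, enc_one]) (by rw [← enc_mul, ← enc_mul, h4])
    (fun e => h5 (enc_injective (e.trans enc_one.symm)))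

theorem odd_orderC : ∀ o ∈ kList, powC o 15 = oneC → powC o 3 = oneC ∨ powC o 5 = oneC := by decide +kernel

theorem odd_order {o : K} (h : o ^ 15 = 1) : o ^ 3 = 1 ∨ o ^ 5 = 1 := by
  simp only [eq_iff, enc_pow, enc_one] at h ⊢
  exact odd_orderC _ (enc_mem o) h

theorem exists_inverterC : ∀ o ∈ kList, powC o 15 = oneC → o ≠ oneC →
    ∃ k ∈ kList, mulC k k = oneC ∧ k ≠ oneC ∧ k ≠ zC ∧ mulC (mulC (mulC k o) k) o = oneC := by decide +kernel

theorem exists_inverter {o : K} (h : o ^ 15 = 1) (h2 : o ≠ 1) :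
    ∃ k : K, k * k = 1 ∧ k ≠ 1 ∧ k ≠ z0 ∧ k * o * k = o⁻¹ := by
  simp only [ne_eq, eq_iff, enc_pow, enc_one] at h h2
  obtain ⟨k, hk, a, b, c, d⟩ := exists_inverterC _ (enc_mem o) h h2
  obtain ⟨k', rfl⟩ := exists_enc hk
  refine ⟨k', ?_, ?_, ?_, eq_inv_of_mul_eq_one_left ?_⟩ <;>
    simp only [ne_eq, eq_iff, enc_mul, enc_one, enc_z0] <;> assumption

theorem odd_centralizerC : ∀ o ∈ kList, powC o 15 = oneC → o ≠ oneC → ∀ c ∈ kList, powC c 15 = oneC →
    mulC o c = mulC c o → c = oneC ∨ c = o ∨ c = powC o 2 ∨ c = powC o 3 ∨ c = powC o 4 := by decide +kernel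

theorem odd_centralizer {o c : K} (h1 : o ^ 15 = 1) (h2 : o ≠ 1) (h3 : c ^ 15 = 1) (h4 : o * c = c * o) :
    c = 1 ∨ c = o ∨ c = o ^ 2 ∨ c = o ^ 3 ∨ c = o ^ 4 := by
  simp only [ne_eq, eq_iff, enc_pow, enc_one, enc_mul] at h1 h2 h3 h4 ⊢
  exact odd_centralizerC _ (enc_mem o) h1 h2 _ (enc_mem c) h3 h4

theorem conj_threeC : ∀ o ∈ kList, powC o 3 = oneC → o ≠ oneC →
    ∃ g ∈ kList, mulC g 17937 = mulC o g := by decide +kernel

theorem conj_three {o : K} (h : o ^ 3 = 1) (h2 : o ≠ 1) : ∃ g : K, g * c0 = o * g := by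
  simp only [ne_eq, eq_iff, enc_pow, enc_one] at h h2
  obtain ⟨g, hg, e⟩ := conj_threeC _ (enc_mem o) h h2
  obtain ⟨g', rfl⟩ := exists_enc hg
  exact ⟨g', by rw [eq_iff, enc_mul, enc_mul, enc_c0, e]⟩

theorem conj_fiveC : ∀ o ∈ kList, powC o 5 = oneC → o ≠ oneC →
    ∃ g ∈ kList, mulC g 2257 = mulC o g ∨ mulC g (powC 2257 2) = mulC o g := by decide +kernel

theorem conj_five {o : K} (h : o ^ 5 = 1) (h2 : o ≠ 1) :
    ∃ g : K, g * q0 = o * g ∨ g * q0 ^ 2 = o * g := by
  simp only [ne_eq, eq_iff, enc_pow, enc_one] at h h2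
  obtain ⟨g, hg, e⟩ := conj_fiveC _ (enc_mem o) h h2
  obtain ⟨g', rfl⟩ := exists_enc hg
  exact ⟨g', by simpa only [eq_iff, enc_mul, enc_pow, enc_q0] using e⟩

theorem gens_props : c0 ^ 3 = 1 ∧ c0 ≠ 1 ∧ q0 ^ 5 = 1 ∧ q0 ≠ 1 ∧ v0 * v0 = 1 ∧ v0 ≠ 1 ∧ v0 ≠ z0 ∧ v1 * v1 = 1 ∧
    v1 ≠ 1 ∧ v0 * v1 = v1 * v0 ∧ c0 * v1 * c0 ^ 2 = v0 * v1 ∧ v0 ≠ v1 := by
  simp only [ne_eq, eq_iff, enc_mul, enc_pow, enc_one, v1, enc_c0, enc_v0, enc_q0, enc_z0]
  decide +kernel

theorem inv_centralizerC : ∀ k ∈ kList, mulC k k = oneC → k ≠ oneC → k ≠ zC → ∀ l ∈ kList,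
    mulC k l = mulC l k → mulC l l = oneC := by decide +kernel

/-- Centralisers of involutions other than the central one have exponent two. -/
theorem inv_centralizer {k l : K} (h1 : k * k = 1) (h2 : k ≠ 1) (h3 : k ≠ z0) (h4 : k * l = l * k) :
    l * l = 1 := by
  simp only [ne_eq, eq_iff, enc_mul, enc_one, enc_z0] at h1 h2 h3 h4 ⊢
  exact inv_centralizerC _ (enc_mem k) h1 h2 h3 _ (enc_mem l) h4

theorem inv_centralizer_cardC : ∀ k ∈ kList, mulC k k = oneC → k ≠ oneC → k ≠ zC →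
    (kList.filter fun l => mulC k l == mulC l k).length = 8 := by decide +kernel

theorem inv_centralizer_card {k : K} (h1 : k * k = 1) (h2 : k ≠ 1) (h3 : k ≠ z0) :
    Nat.card {l : K // k * l = l * k} = 8 := by
  simp only [ne_eq, eq_iff, enc_mul, enc_one, enc_z0] at h1 h2 h3
  rw [Nat.card_eq_fintype_card, Fintype.card_subtype, ← inv_centralizer_cardC _ (enc_mem k) h1 h2 h3,
    ← card_filter_enc]
  exact congrArg Finset.card (Finset.filter_congr fun l _ => by simp [eq_iff, enc_mul])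

theorem four_cent_orbitsC : ∀ s ∈ kList, mulC s 17601 = mulC 17601 s →
    mulC s (mulC (mulC 17937 17601) (powC 17937 2)) = mulC (mulC (mulC 17937 17601) (powC 17937 2)) s →
    s = oneC ∨ s = zC ∨ ∃ i < 3, ∃ b < 2,
      s = mulC (powC zC b) (mulC (mulC (powC 17937 i) 17601) (powC 17937 (2 * i))) := by decide +kernel

/-- The centraliser of the four group meets two classes outside the centre. -/
theorem four_cent_orbits {s : K} (h1 : s * v0 = v0 * s) (h2 : s * v1 = v1 * s) (h3 : s ≠ 1) (h4 : s ≠ z0) :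
    ∃ i b : ℕ, b < 2 ∧ s = z0 ^ b * (c0 ^ i * v0 * c0 ^ (2 * i)) := by
  simp only [ne_eq, v1, eq_iff, enc_mul, enc_pow, enc_one, enc_z0, enc_v0, enc_c0] at h1 h2 h3 h4
  rcases four_cent_orbitsC _ (enc_mem s) h1 h2 with e | e | ⟨i, -, b, hb, e⟩
  · exact absurd e h3
  · exact absurd e h4
  · exact ⟨i, b, hb, by simpa only [zC, eq_iff, enc_mul, enc_pow, enc_z0, enc_v0, enc_c0] using e⟩

theorem sum_invertersC :
    ((kList.filter fun n => powC n 15 == zC).map fun n =>
      (kList.filter fun s => invC s && invC (mulC s n)).length).sum = 390 := by decide +kernel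

/-- The pairs of involutions whose product has a power equal to the central involution. -/
theorem sum_inverters :
    ∑ k ∈ Finset.univ.filter (fun k : K => k ^ 15 = z0),
      (Finset.univ.filter fun s : K => (s * s = 1 ∧ s ≠ 1) ∧ (s * k * (s * k) = 1 ∧ s * k ≠ 1)).card = 390 := by
  rw [← sum_invertersC, ← sum_filter_enc]
  refine Finset.sum_congr (Finset.filter_congr fun k _ => by simp [eq_iff, enc_pow, enc_z0, zC]) fun k _ => ?_
  rw [← card_filter_enc]
  refine congrArg Finset.card (Finset.filter_congr fun s _ => ?_)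
  rw [Bool.and_eq_true, ← enc_mul, invC_iff, invC_iff]

end CfsgLib.JankoOne
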