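/-
Involutions of a simple group with an involution centraliser of type two times alternating of degree five.
-/
import Cfsg.Agent.Lib.JankoOne.KFacts
import Cfsg.Agent.Lib.AbelianSylowInvolutions
import Cfsg.Agent.Lib.Involutions
import Cfsg.Prelude.Def_SporadicB

set_option autoImplicit false
set_option linter.unusedSectionVars false

namespace CfsgLib.JankoOne

open Subgroup

/-- An involution centraliser of type two times alternating of degree five. -/
structure Hyp {G : Type*} [Group G] (t : G) (φ : K →* G) : Prop where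
  inj : Function.Injective φ
  range : ∀ x : G, x * t = t * x ↔ ∃ k, φ k = x
  image : φ z0 = t
  noIndexTwo : ∀ H : Subgroup G, H.index ≠ 2
  two : ∀ x : G, (∃ n : ℕ, x ^ 2 ^ n = 1) → x * x = 1
  sylow : ∀ P : Sylow 2 G, Nat.card (P : Subgroup G) = 8

theorem eq_one_of_coprime_pows {M : Type*} [Monoid M] {x : M} {a b : ℕ} (ha : x ^ a = 1) (hb : x ^ b = 1)
    (h : Nat.Coprime a b) : x = 1 :=
  orderOf_eq_one_iff.mp (Nat.eq_one_of_dvd_coprimes h (orderOf_dvd_of_pow_eq_one ha) (orderOf_dvd_of_pow_eq_one hb))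

theorem fin_two_eq : ∀ a b : Fin 2, ¬ a = 1 - b → a = b := by decide

theorem K_two {k : K} (h : ∃ n : ℕ, k ^ 2 ^ n = 1) : k * k = 1 := by
  obtain ⟨n, hn⟩ := h
  have h2 : (k * k) ^ 2 ^ n = 1 := by rw [← sq, ← pow_mul, mul_comm, pow_mul, hn, one_pow]
  have h15 : (k * k) ^ 15 = 1 := by rw [← sq, ← pow_mul]; exact pow_thirty k
  exact eq_one_of_coprime_pows h2 h15 (Nat.Coprime.pow_left n (by norm_num))

/-- The subgroup centralising the four group. -/
def fourCent : Subgroup K := Subgroup.centralizer {v0, v1}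

theorem mem_fourCent {s : K} : s ∈ fourCent ↔ s * v0 = v0 * s ∧ s * v1 = v1 * s := by
  rw [fourCent, Subgroup.mem_centralizer_iff]
  simp [eq_comm]

theorem fourCent_sq {s : K} (hs : s ∈ fourCent) : s * s = 1 :=
  inv_centralizer gens_props.2.2.2.2.1 gens_props.2.2.2.2.2.1 gens_props.2.2.2.2.2.2.1 (mem_fourCent.mp hs).1.symm

theorem card_fourCent : Nat.card fourCent = 8 := by
  rw [← inv_centralizer_card gens_props.2.2.2.2.1 gens_props.2.2.2.2.2.1 gens_props.2.2.2.2.2.2.1]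
  refine Nat.card_congr (Equiv.subtypeEquivRight fun s => ?_)
  rw [mem_fourCent]
  refine ⟨fun h => h.1.symm, fun h => ⟨h.symm, ?_⟩⟩
  have hs : s * s = 1 := inv_centralizer gens_props.2.2.2.2.1 gens_props.2.2.2.2.2.1 gens_props.2.2.2.2.2.2.1 h
  have hv : v0 * v1 = v1 * v0 := gens_props.2.2.2.2.2.2.2.2.2.1
  -- the centraliser of an involution has exponent two, hence is commutative
  have h2 : v0 * (s * v1) = (s * v1) * v0 := by rw [← mul_assoc, h, mul_assoc, hv, ← mul_assoc]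
  have h3 : s * v1 * (s * v1) = 1 :=
    inv_centralizer gens_props.2.2.2.2.1 gens_props.2.2.2.2.2.1 gens_props.2.2.2.2.2.2.1 h2
  have h4 : v1 * v1 = 1 := gens_props.2.2.2.2.2.2.2.1
  calc s * v1 = (s * v1)⁻¹ := eq_inv_of_mul_eq_one_left h3
    _ = v1⁻¹ * s⁻¹ := mul_inv_rev _ _
    _ = v1 * s := by rw [inv_eq_of_mul_eq_one_right h4, inv_eq_of_mul_eq_one_right hs]

variable {G : Type*} [Group G] [Finite G]

theorem exists_hyp [IsSimpleGroup G] (t : G) (ht : Cfsg.IsTwoCentralInvolution t)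
    (e : Subgroup.centralizer ({t} : Set G) ≃* K) : ∃ φ : K →* G, Hyp t φ := by
  classical
  haveI : Fact (Nat.Prime 2) := ⟨Nat.prime_two⟩
  let φ : K →* G := (Subgroup.centralizer ({t} : Set G)).subtype.comp e.symm.toMonoidHom
  have hinj : Function.Injective φ :=
    (Subgroup.centralizer ({t} : Set G)).subtype_injective.comp e.symm.injective
  have hrange : ∀ x : G, x * t = t * x ↔ ∃ k, φ k = x := fun x =>
    ⟨fun h => ⟨e ⟨x, mem_centralizer_singleton_iff.mpr h⟩,
      congrArg Subtype.val (e.symm_apply_apply ⟨x, mem_centralizer_singleton_iff.mpr h⟩)⟩,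
      fun ⟨k, hk⟩ => hk ▸ mem_centralizer_singleton_iff.mp (e.symm k).2⟩
  obtain ⟨k, hk⟩ := (hrange t).mp rfl
  have himg : φ z0 = t := by
    rcases center_cases k (fun l => hinj (by
      rw [map_mul, map_mul, hk]; exact ((hrange _).mpr ⟨l, rfl⟩).symm)) with e' | e'
    · rw [e', map_one] at hk
      exact absurd ht.1 (by rw [← hk, orderOf_one]; norm_num)
    · rw [← e', hk]
  obtain ⟨ho, P, hP, hPt⟩ := ht
  have hPK : ∀ x ∈ (P : Subgroup G), x * x = 1 := by
    intro x hx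
    obtain ⟨l, hl⟩ := (hrange x).mp (hPt x hx)
    obtain ⟨n, hn⟩ := P.2 ⟨x, hx⟩
    rw [← hl, ← map_mul, K_two ⟨n, hinj (by
      rw [map_pow, hl, map_one]; exact congrArg Subtype.val hn)⟩, map_one]
  have htwo : ∀ x : G, (∃ n : ℕ, x ^ 2 ^ n = 1) → x * x = 1 := by
    intro x hx
    obtain ⟨n, hn⟩ := hx
    have hp : IsPGroup 2 (Subgroup.zpowers x) := by
      rintro ⟨_, i, rfl⟩
      exact ⟨n, Subtype.ext (by
        show (x ^ i) ^ 2 ^ n = 1
        rw [← zpow_natCast (x ^ i), ← zpow_mul, mul_comm, zpow_mul, zpow_natCast, hn, one_zpow])⟩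
    obtain ⟨Q, hQ⟩ := hp.exists_le_sylow
    obtain ⟨g, hg⟩ := MulAction.exists_smul_eq G Q P
    have hmem : g * x * g⁻¹ ∈ (P : Subgroup G) := by
      rw [← hg, Sylow.coe_subgroup_smul]
      exact Subgroup.mem_map.mpr ⟨x, hQ (Subgroup.mem_zpowers x), by simp⟩
    have := hPK _ hmem
    rw [conj_mul, conj_eq_one_iff] at this
    exact this
  have h8 : ∀ Q : Sylow 2 G, Nat.card (Q : Subgroup G) = 8 := by
    intro Q
    rw [Sylow.card_eq_multiplicity]
    rw [← P.card_eq_multiplicity]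
    obtain ⟨n, hn⟩ := IsPGroup.iff_card.mp P.2
    have hdvd : Nat.card (P : Subgroup G) ∣ 120 := by
      have := Subgroup.card_dvd_of_le (show (P : Subgroup G) ≤ Subgroup.centralizer {t} from
        fun x hx => mem_centralizer_singleton_iff.mpr (hPt x hx))
      rwa [Nat.card_congr e.toEquiv, Nat.card_eq_fintype_card (α := K), card_K] at this
    have hS : 8 ∣ Nat.card G := by
      have := Subgroup.card_subgroup_dvd_card (fourCent.map φ)
      rwa [Subgroup.card_map_of_injective hinj, card_fourCent] at this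
    have h3 : 2 ^ 3 ∣ Nat.card (P : Subgroup G) := P.pow_dvd_card_of_pow_dvd_card (by exact hS)
    rw [hn] at hdvd h3 ⊢
    have hle : 3 ≤ n := (Nat.pow_dvd_pow_iff_le_right (by norm_num)).mp h3
    by_contra hne
    have : 2 ^ 4 ∣ 2 ^ n := pow_dvd_pow 2 (by
      by_contra h
      exact hne (by rw [show n = 3 by omega]; rfl))
    exact absurd (this.trans hdvd) (by norm_num)
  refine ⟨φ, hinj, hrange, himg, fun H hH => ?_, htwo, h8⟩
  haveI := Subgroup.normal_of_index_eq_two hH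
  rcases Subgroup.Normal.eq_bot_or_eq_top (H := H) inferInstance with rfl | rfl
  · rw [Subgroup.index_bot] at hH
    have := Subgroup.card_le_card_group (Subgroup.centralizer ({t} : Set G))
    rw [Nat.card_congr e.toEquiv, Nat.card_eq_fintype_card (α := K), card_K, hH] at this
    norm_num at this
  · simp at hH

variable {t : G} {φ : K →* G}

theorem Hyp.t_sq (h : Hyp t φ) : t * t = 1 := by rw [← h.image, ← map_mul, z0_sq.1, map_one]

theorem Hyp.t_ne (h : Hyp t φ) : t ≠ 1 := fun e => z0_sq.2 (h.inj (h.image.trans (e.trans (map_one φ).symm)))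

theorem Hyp.comm (h : Hyp t φ) (k : K) : φ k * t = t * φ k := (h.range _).mpr ⟨k, rfl⟩

theorem Hyp.card_centralizer (h : Hyp t φ) : Nat.card (Subgroup.centralizer ({t} : Set G)) = 120 := by
  rw [← card_K, ← Nat.card_eq_fintype_card]
  refine (Nat.card_congr (Equiv.ofBijective
    (fun k : K => (⟨φ k, mem_centralizer_singleton_iff.mpr (h.comm k)⟩ : Subgroup.centralizer ({t} : Set G)))
    ⟨fun a b e => h.inj (congrArg Subtype.val e), fun ⟨x, hx⟩ => ?_⟩)).symm
  obtain ⟨k, hk⟩ := (h.range x).mp (mem_centralizer_singleton_iff.mp hx)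
  exact ⟨k, Subtype.ext hk⟩

/-- The distinguished Sylow subgroup. -/
theorem Hyp.exists_sylow (h : Hyp t φ) : ∃ S : Sylow 2 G, (S : Subgroup G) = fourCent.map φ := by
  haveI : Fact (Nat.Prime 2) := ⟨Nat.prime_two⟩
  have hc : Nat.card (fourCent.map φ) = 8 := by rw [Subgroup.card_map_of_injective h.inj, card_fourCent]
  obtain ⟨S, hS⟩ := (IsPGroup.of_card (n := 3) hc : IsPGroup 2 (fourCent.map φ)).exists_le_sylow
  exact ⟨S, (Subgroup.eq_of_le_of_card_ge hS (by rw [hc, h.sylow S])).symm⟩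

theorem c0_four : ∀ s ∈ fourCent, c0 * s * c0⁻¹ ∈ fourCent := by
  intro s hs
  obtain ⟨h3, -, -, -, -, -, -, -, -, hv, hc, -⟩ := gens_props
  have hi : c0⁻¹ = c0 ^ 2 := inv_eq_of_mul_eq_one_right (by rw [← pow_succ', h3])
  obtain ⟨h1, h2⟩ := mem_fourCent.mp hs
  have e1 : c0 * v0 * c0⁻¹ = v1 := by rw [hi]; rfl
  have e2 : c0 * v1 * c0⁻¹ = v0 * v1 := by rw [hi]; exact hc
  have hA : c0 * s * c0⁻¹ * v1 = v1 * (c0 * s * c0⁻¹) := by
    rw [← e1, conj_mul, conj_mul, h1]
  have hB : c0 * s * c0⁻¹ * (v0 * v1) = v0 * v1 * (c0 * s * c0⁻¹) := by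
    rw [← e2, conj_mul, conj_mul, h2]
  refine mem_fourCent.mpr ⟨?_, hA⟩
  have h4 : v1 * v1 = 1 := gens_props.2.2.2.2.2.2.2.1
  have e3 : v0 = v0 * v1 * v1 := by rw [mul_assoc, h4, mul_one]
  rw [e3, ← mul_assoc, hB, mul_assoc, hA]
  simp [mul_assoc]

/-- The orbit representatives. -/
def orbRep : Option (Fin 3 × Fin 2) → K
  | none => z0
  | some (i, b) => z0 ^ (b : ℕ) * (c0 ^ (i : ℕ) * v0 * c0 ^ (2 * (i : ℕ)))

theorem orbRep_injective : Function.Injective orbRep := by
  intro a b h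
  have key : ∀ a b, enc (orbRep a) = enc (orbRep b) → a = b := by decide +kernel
  exact key a b (congrArg enc h)

theorem orbRep_shift (i b : ℕ) : ∃ j : Fin 3,
    z0 ^ b * (c0 ^ i * v0 * c0 ^ (2 * i)) = z0 ^ b * (c0 ^ (j : ℕ) * v0 * c0 ^ (2 * (j : ℕ))) := by
  refine ⟨⟨i % 3, Nat.mod_lt _ (by norm_num)⟩, ?_⟩
  rw [pow_eq_pow_mod i gens_props.1, pow_eq_pow_mod (2 * i) gens_props.1,
    pow_eq_pow_mod (2 * (i % 3)) gens_props.1, Nat.mul_mod 2 (i % 3), Nat.mod_mod, ← Nat.mul_mod]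

theorem Hyp.involution_conj_and_seven (h : Hyp t φ) :
    (∀ s : G, s * s = 1 → s ≠ 1 → ∃ g : G, g * t * g⁻¹ = s) ∧ 7 ∣ Nat.card G := by
  classical
  haveI : Fact (Nat.Prime 2) := ⟨Nat.prime_two⟩
  obtain ⟨S, hS⟩ := h.exists_sylow
  have hsq : ∀ x ∈ (S : Subgroup G), x * x = 1 := fun x hx => by
    obtain ⟨n, hn⟩ := S.2 ⟨x, hx⟩
    exact h.two x ⟨n, congrArg Subtype.val hn⟩
  haveI : IsMulCommutative (S : Subgroup G) := ⟨⟨fun a b => Subtype.ext (by
    have ha : (a : G)⁻¹ = a := inv_eq_of_mul_eq_one_right (hsq a a.2)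
    have hb : (b : G)⁻¹ = b := inv_eq_of_mul_eq_one_right (hsq b b.2)
    have hab : ((a : G) * b)⁻¹ = a * b := inv_eq_of_mul_eq_one_right (hsq _ (mul_mem a.2 b.2))
    rw [mul_inv_rev, ha, hb] at hab
    exact hab.symm)⟩⟩
  set N := Subgroup.normalizer ((S : Subgroup G) : Set G) with hN
  have htS : t ∈ (S : Subgroup G) := hS ▸ ⟨z0, mem_fourCent.mpr ⟨z0_central v0, z0_central v1⟩, h.image⟩
  letI : MulAction N G := MulAction.compHom G ((ConjAct.toConjAct : G ≃* ConjAct G).toMonoidHom.comp N.subtype)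
  have hsmul : ∀ (n : N) (x : G), n • x = (n : G) * x * (n : G)⁻¹ := fun n x => ConjAct.smul_def _ _
  set O := MulAction.orbit N t with hO
  have hodd : Odd (Nat.card O) := by
    rw [Nat.card_congr (MulAction.orbitEquivQuotientStabilizer N t), ← Subgroup.index_eq_card]
    have h1 : (S : Subgroup G).subgroupOf N ≤ MulAction.stabilizer N t := fun n hn => by
      rw [MulAction.mem_stabilizer_iff, hsmul, Subgroup.mul_comm_of_mem_isMulCommutative (S : Subgroup G)
        (show (n : G) ∈ (S : Subgroup G) from hn) htS, mul_inv_cancel_right]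
    have h2 : ¬ 2 ∣ ((S : Subgroup G).subgroupOf N).index := fun hd => S.not_dvd_index
      (hd.trans (Dvd.intro _ (Subgroup.relIndex_mul_index (Subgroup.le_normalizer : (S : Subgroup G) ≤ N))))
    exact Nat.odd_iff.mpr (Nat.two_dvd_ne_zero.mp fun hd => h2 (hd.trans (Subgroup.index_dvd_of_le h1)))
  have hcN : φ c0 ∈ N := by
    refine Subgroup.mem_normalizer_fintype (S := ((S : Subgroup G) : Set G)) (fun x hx => ?_)
    rw [hS] at hx ⊢
    obtain ⟨l, hl, rfl⟩ := hx
    exact ⟨c0 * l * c0⁻¹, c0_four l hl, by simp⟩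
  have hmove : ∀ (i : ℕ) (l : K), φ l ∈ O → φ (c0 ^ i * l * c0 ^ (2 * i)) ∈ O := by
    intro i l hl
    rw [hO, ← MulAction.orbit_eq_iff.mpr hl]
    refine ⟨⟨φ c0, hcN⟩ ^ i, ?_⟩
    show (⟨φ c0, hcN⟩ : N) ^ i • φ l = _
    rw [hsmul, SubmonoidClass.coe_pow, map_mul, map_mul, map_pow, map_pow]
    congr 1
    refine inv_eq_of_mul_eq_one_right ?_
    rw [← pow_add, show i + 2 * i = 3 * i by ring, pow_mul, ← map_pow, gens_props.1, map_one, one_pow]
  have hform : ∀ x ∈ O, ∃ o, φ (orbRep o) = x := by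
    intro x hx
    obtain ⟨n, rfl⟩ := hx
    have hxS : n • t ∈ (S : Subgroup G) := by
      rw [hsmul]; exact (Subgroup.mem_normalizer_iff.mp n.2 t).mp htS
    have hx1 : n • t ≠ 1 := fun e => h.t_ne (by rwa [hsmul, conj_eq_one_iff] at e)
    obtain ⟨l, hl, hle⟩ := (hS ▸ hxS : n • t ∈ fourCent.map φ)
    show ∃ o, φ (orbRep o) = n • t
    rcases eq_or_ne l z0 with rfl | hne
    · exact ⟨none, hle⟩
    obtain ⟨i, b, hb, rfl⟩ := four_cent_orbits (mem_fourCent.mp hl).1 (mem_fourCent.mp hl).2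
      (fun e => hx1 (by rw [← hle, e, map_one])) hne
    obtain ⟨j, hj⟩ := orbRep_shift i b
    exact ⟨some (j, ⟨b, hb⟩), by rw [← hle, hj]; rfl⟩
  have hall : ∀ (b : Fin 2) (i j : Fin 3), φ (orbRep (some (i, b))) ∈ O → φ (orbRep (some (j, b))) ∈ O := by
    intro b i j hi
    have := hmove ((j : ℕ) + 2 * (i : ℕ)) _ hi
    convert this using 2
    have hc : ∀ (r s : K), z0 ^ (b : ℕ) * r * s = z0 ^ (b : ℕ) * (r * s) := fun r s => mul_assoc _ _ _
    have hz : ∀ r : K, r * z0 ^ (b : ℕ) = z0 ^ (b : ℕ) * r := fun r => by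
      exact (((show Commute z0 r from z0_central r).pow_left _).eq).symm
    show z0 ^ (b : ℕ) * (c0 ^ (j : ℕ) * v0 * c0 ^ (2 * (j : ℕ))) =
      c0 ^ ((j : ℕ) + 2 * (i : ℕ)) * (z0 ^ (b : ℕ) * (c0 ^ (i : ℕ) * v0 * c0 ^ (2 * (i : ℕ)))) *
        c0 ^ (2 * ((j : ℕ) + 2 * (i : ℕ)))
    rw [← mul_assoc (c0 ^ _) (z0 ^ _), hz, hc, hc]
    congr 1
    rw [pow_add c0 (j : ℕ) (2 * (i : ℕ)), show 2 * ((j : ℕ) + 2 * (i : ℕ)) = 4 * (i : ℕ) + 2 * (j : ℕ) by ring,
      pow_add c0 (4 * (i : ℕ))]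
    have e1 : c0 ^ (2 * (i : ℕ)) * c0 ^ (i : ℕ) = 1 := by
      rw [← pow_add, show 2 * (i : ℕ) + i = 3 * i by ring, pow_mul, gens_props.1, one_pow]
    have e2 : c0 ^ (2 * (i : ℕ)) * c0 ^ (4 * (i : ℕ)) = 1 := by
      rw [← pow_add, show 2 * (i : ℕ) + 4 * i = 3 * (2 * i) by ring, pow_mul, gens_props.1, one_pow]
    calc c0 ^ (j : ℕ) * v0 * c0 ^ (2 * (j : ℕ))
        = c0 ^ (j : ℕ) * (c0 ^ (2 * (i : ℕ)) * c0 ^ (i : ℕ)) * v0 *
            (c0 ^ (2 * (i : ℕ)) * c0 ^ (4 * (i : ℕ))) * c0 ^ (2 * (j : ℕ)) := by rw [e1, e2, mul_one, mul_one]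
      _ = _ := by simp only [mul_assoc]
  have htO : φ z0 ∈ O := h.image.symm ▸ MulAction.mem_orbit_self t
  have hne_all : ∀ b : Fin 2, φ (orbRep (some (0, b))) ∈ O := by
    by_contra hc
    push Not at hc
    obtain ⟨b₀, hb₀⟩ := hc
    have hnone : ∀ i, φ (orbRep (some (i, b₀))) ∉ O := fun i hi => hb₀ (hall b₀ i 0 hi)
    by_cases hb : φ (orbRep (some (0, 1 - b₀))) ∈ O
    · -- an orbit of even size
      have hset : O = ↑(Finset.univ.image fun o : Option (Fin 3) => φ (orbRep (o.map fun i => (i, 1 - b₀)))) := by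
        ext x
        simp only [Finset.coe_image, Finset.coe_univ, Set.image_univ, Set.mem_range]
        constructor
        · intro hx
          obtain ⟨_ | ⟨i, b⟩, rfl⟩ := hform x hx
          · exact ⟨none, rfl⟩
          · refine ⟨some i, ?_⟩
            have : b = 1 - b₀ := by
              by_contra hbb
              exact hnone i (fin_two_eq b b₀ hbb ▸ hx)
            subst this
            rfl
        · rintro ⟨_ | i, rfl⟩
          · exact htO
          · exact hall _ 0 i hb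
      have hcard : Nat.card O = 4 := by
        rw [hset, Nat.card_eq_card_finite_toFinset (Finset.finite_toSet _), Finset.finite_toSet_toFinset,
          Finset.card_image_of_injective _ (f := fun o : Option (Fin 3) => φ (orbRep (o.map fun i => (i, 1 - b₀))))
            (h.inj.comp (orbRep_injective.comp (Option.map_injective fun a b e => by simpa using e)))]
        simp
      rw [hcard] at hodd
      exact absurd hodd (by decide)
    · -- a fixed involution gives a subgroup of index two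
      have hfix : ∀ n ∈ N, n * t = t * n := by
        intro n hn
        have hx : (⟨n, hn⟩ : N) • t ∈ O := MulAction.mem_orbit _ _
        obtain ⟨_ | ⟨i, b⟩, he⟩ := hform _ hx
        · rw [hsmul, show φ (orbRep none) = t from h.image] at he
          exact mul_inv_eq_iff_eq_mul.mp he.symm
        · exfalso
          rw [← he] at hx
          by_cases hbb : b = b₀
          · exact hnone i (hbb ▸ hx)
          · have : b = 1 - b₀ := by
              by_contra hne'
              exact hbb (fin_two_eq b b₀ hne')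
            exact hb (hall _ i 0 (this ▸ hx))
      obtain ⟨H, hH⟩ := CfsgLib.AbelianInvolutions.exists_index_two_of_fixed S htS h.t_ne hfix
      exact h.noIndexTwo H hH
  have hmem : ∀ o, φ (orbRep o) ∈ O := by
    rintro (_ | ⟨i, b⟩)
    · exact htO
    · exact hall b 0 i (hne_all b)
  have hcard : Nat.card O = 7 := by
    rw [← Nat.card_congr (Equiv.ofBijective (fun o => (⟨φ (orbRep o), hmem o⟩ : O))
      ⟨fun a b e => orbRep_injective (h.inj (congrArg Subtype.val e)),
        fun ⟨x, hx⟩ => (hform x hx).imp fun o ho => Subtype.ext ho⟩)]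
    simp
  refine ⟨fun s hs hs1 => ?_, ?_⟩
  · have hp : IsPGroup 2 (Subgroup.zpowers s) :=
      IsPGroup.of_card (n := 1) (by
        rw [Nat.card_zpowers, pow_one]; exact orderOf_eq_prime (by rw [sq, hs]) hs1)
    obtain ⟨Q, hQ⟩ := hp.exists_le_sylow
    obtain ⟨g, hg⟩ := MulAction.exists_smul_eq G Q S
    have hmS : g * s * g⁻¹ ∈ (S : Subgroup G) := by
      rw [← hg, Sylow.coe_subgroup_smul]
      exact Subgroup.mem_map.mpr ⟨s, hQ (Subgroup.mem_zpowers s), by simp⟩
    obtain ⟨l, hl, hle⟩ := (hS ▸ hmS : g * s * g⁻¹ ∈ fourCent.map φ)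
    have hl1 : l ≠ 1 := fun e => hs1 (by rwa [e, map_one, eq_comm, conj_eq_one_iff] at hle)
    have hO' : g * s * g⁻¹ ∈ O := by
      rw [← hle]
      rcases eq_or_ne l z0 with rfl | hne
      · exact htO
      · obtain ⟨i, b, hb, rfl⟩ := four_cent_orbits (mem_fourCent.mp hl).1 (mem_fourCent.mp hl).2 hl1 hne
        obtain ⟨j, hj⟩ := orbRep_shift i b
        rw [hj]
        exact hmem (some (j, ⟨b, hb⟩))
    obtain ⟨n, hn⟩ := hO'
    refine ⟨g⁻¹ * n, ?_⟩
    have hn' : (n : G) * t * (n : G)⁻¹ = g * s * g⁻¹ := by rw [← hsmul]; exact hn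
    calc g⁻¹ * (n : G) * t * (g⁻¹ * (n : G))⁻¹ = g⁻¹ * ((n : G) * t * (n : G)⁻¹) * g := by group
      _ = s := by rw [hn']; group
  · rw [← hcard, Nat.card_congr (MulAction.orbitEquivQuotientStabilizer N t)]
    exact (Subgroup.card_quotient_dvd_card _).trans (Subgroup.card_subgroup_dvd_card N)

theorem Hyp.involution_conj (h : Hyp t φ) {s : G} (hs : s * s = 1) (hs1 : s ≠ 1) :
    ∃ g : G, g * t * g⁻¹ = s := h.involution_conj_and_seven.1 s hs hs1

theorem Hyp.seven_dvd (h : Hyp t φ) : 7 ∣ Nat.card G := h.involution_conj_and_seven.2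

/-- An element centralising an involution is conjugate into the distinguished centraliser. -/
theorem Hyp.pull (h : Hyp t φ) {s : G} (hs : s * s = 1) (hs1 : s ≠ 1) :
    ∃ g : G, g * t * g⁻¹ = s ∧ ∀ x : G, x * s = s * x → ∃ k : K, g * φ k * g⁻¹ = x := by
  obtain ⟨g, hg⟩ := h.involution_conj hs hs1
  refine ⟨g, hg, fun x hx => ?_⟩
  obtain ⟨k, hk⟩ := (h.range (g⁻¹ * x * g)).mp (by
    rw [← hg] at hx
    calc g⁻¹ * x * g * t = g⁻¹ * (x * (g * t * g⁻¹)) * g := by group
      _ = g⁻¹ * (g * t * g⁻¹ * x) * g := by rw [hx]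
      _ = _ := by group)
  exact ⟨k, by rw [hk]; group⟩

/-- An element of odd order centralising two commuting involutions is trivial. -/
theorem Hyp.two_invs (h : Hyp t φ) {s r x : G} (hs : s * s = 1) (hs1 : s ≠ 1) (hr : r * r = 1)
    (hr1 : r ≠ 1) (hsr : r * s = s * r) (hne : r ≠ s) (hx : Odd (orderOf x)) (hxs : x * s = s * x)
    (hxr : x * r = r * x) : x = 1 := by
  obtain ⟨g, hg, hp⟩ := h.pull hs hs1
  obtain ⟨a, rfl⟩ := hp x hxs
  obtain ⟨b, rfl⟩ := hp r hsr
  by_contra hx1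
  rw [conj_mul, conj_mul, mul_left_inj, mul_right_inj, ← map_mul, ← map_mul] at hxr
  rw [conj_mul, conj_eq_one_iff, ← map_mul, ← map_one φ] at hr
  have ha : a ^ 15 = 1 := by
    have hd : orderOf a ∣ 15 := by
      have h30 := orderOf_dvd_of_pow_eq_one (pow_thirty a)
      rw [show (30 : ℕ) = 15 * 2 from rfl] at h30
      refine (Nat.Coprime.dvd_of_dvd_mul_right (Nat.coprime_two_right.mpr ?_) h30)
      rwa [CfsgLib.Involutions.orderOf_conj, orderOf_injective φ h.inj] at hx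
    exact orderOf_dvd_iff_pow_eq_one.mp hd
  have := odd_comm_inv ha (fun e => hx1 (by rw [e, map_one]; group)) (h.inj hr) (h.inj hxr).symm
    (fun e => hr1 (by rw [e, map_one]; group))
  refine hne ?_
  rw [this, h.image, hg]

end CfsgLib.JankoOne
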