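/-
Centralisers of elements of order three and five.
-/
import Cfsg.Agent.Lib.JankoOne.Base
import Cfsg.Agent.Lib.RankOne.Inverted

set_option autoImplicit false
set_option linter.unusedSectionVars false

namespace CfsgLib.JankoOne

open Subgroup Cfsg
open CfsgLib.Involutions (orderOf_conj)

variable {G : Type*} [Group G] [Finite G] {t : G} {φ : K →* G}

theorem eq_one_of_inv_eq {x : G} (hx : Odd (orderOf x)) (h : x⁻¹ = x) : x = 1 := by
  refine eq_one_of_coprime_pows (a := 2) (b := orderOf x) ?_ (pow_orderOf_eq_one x) (Nat.coprime_two_left.mpr hx)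
  rw [sq]
  nth_rw 2 [← h]
  rw [mul_inv_cancel]

theorem eq_one_of_sq_eq_one {x : G} (hx : Odd (orderOf x)) (h : x * x = 1) : x = 1 :=
  eq_one_of_inv_eq hx (inv_eq_of_mul_eq_one_right h)

theorem conj_invol {u x : G} (hu : u * u = 1) : u * x * u = u * x * u⁻¹ := by
  rw [inv_eq_of_mul_eq_one_right hu]

theorem conj_conj_invol {u : G} (hu : u * u = 1) (x : G) : u * (u * x * u) * u = x := by
  rw [← mul_assoc, ← mul_assoc, hu, one_mul, mul_assoc, hu, mul_one]

theorem invol_mul_conj {u : G} (hu : u * u = 1) (x y : G) : u * (x * y) * u = (u * x * u) * (u * y * u) := by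
  calc u * (x * y) * u = u * x * (u * u) * y * u := by rw [hu]; group
    _ = _ := by group

theorem invol_conj_inv {u : G} (hu : u * u = 1) (x : G) : u * x⁻¹ * u = (u * x * u)⁻¹ := by
  rw [mul_inv_rev, mul_inv_rev, inv_eq_of_mul_eq_one_right hu, mul_assoc]

theorem commute_iff_conj {u : G} (hu : u * u = 1) (x : G) : x * u = u * x ↔ u * x * u = x := by
  constructor
  · intro h
    rw [mul_assoc, h, ← mul_assoc, hu, one_mul]
  · intro h
    calc x * u = u * x * u * u := by rw [h]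
      _ = u * x := by rw [mul_assoc _ u u, hu, mul_one]

/-- An element of prime order, an involution centralising it and a commuting involution inverting it. -/
structure Cfg (p : ℕ) (x s u : G) : Prop where
  pr : p = 3 ∨ p = 5
  ord : orderOf x = p
  s2 : s * s = 1
  s1 : s ≠ 1
  u2 : u * u = 1
  u1 : u ≠ 1
  su : u * s = s * u
  xs : x * s = s * x
  xu : u * x * u = x⁻¹

variable {p : ℕ} {x s u : G}

theorem Cfg.prime (c : Cfg p x s u) : p.Prime := by rcases c.pr with rfl | rfl <;> norm_num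

theorem Cfg.odd (c : Cfg p x s u) : Odd (orderOf x) := by
  rw [c.ord]; rcases c.pr with rfl | rfl <;> decide

theorem Cfg.x1 (c : Cfg p x s u) : x ≠ 1 := fun e => by
  have := c.ord; rw [e, orderOf_one] at this; exact c.prime.ne_one this.symm

theorem Cfg.x_not_inv (c : Cfg p x s u) : x⁻¹ ≠ x := fun e => c.x1 (eq_one_of_inv_eq c.odd e)

theorem Cfg.ne (c : Cfg p x s u) : u ≠ s := fun e => c.x_not_inv (by
  rw [← c.xu, e, ← c.xs, mul_assoc, c.s2, mul_one])

theorem Cfg.xu_ne (c : Cfg p x s u) : x * u ≠ u * x := fun e => c.x_not_inv (by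
  rw [← c.xu]; exact (commute_iff_conj c.u2 x).mp e)

theorem Cfg.third (c : Cfg p x s u) : Cfg p x s (s * u) where
  pr := c.pr
  ord := c.ord
  s2 := c.s2
  s1 := c.s1
  u2 := by rw [mul_assoc, ← mul_assoc u, c.su, mul_assoc s u, c.u2, mul_one, c.s2]
  u1 := fun e => c.ne (by
    rw [mul_eq_one_iff_eq_inv, inv_eq_of_mul_eq_one_right c.u2] at e
    exact e.symm)
  su := by rw [mul_assoc, c.su]
  xs := c.xs
  xu := by
    calc s * u * x * (s * u) = s * (u * x * (s * u)) := by group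
      _ = s * (u * x * (u * s)) := by rw [c.su]
      _ = s * ((u * x * u) * s) := by group
      _ = _ := by
        rw [c.xu, ← mul_assoc, ← (commute_iff_conj c.s2 x⁻¹).mpr]
        · rw [mul_assoc, c.s2, mul_one]
        · rw [invol_conj_inv c.s2, (commute_iff_conj c.s2 x).mp c.xs]

theorem Cfg.conj (c : Cfg p x s u) (g : G) : Cfg p (g * x * g⁻¹) (g * s * g⁻¹) (g * u * g⁻¹) where
  pr := c.pr
  ord := by rw [orderOf_conj, c.ord]
  s2 := by rw [conj_mul, c.s2, mul_one, mul_inv_cancel]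
  s1 := by rw [ne_eq, conj_eq_one_iff]; exact c.s1
  u2 := by rw [conj_mul, c.u2, mul_one, mul_inv_cancel]
  u1 := by rw [ne_eq, conj_eq_one_iff]; exact c.u1
  su := by rw [conj_mul, conj_mul, c.su]
  xs := by rw [conj_mul, conj_mul, c.xs]
  xu := by rw [conj_mul, conj_mul, c.xu, conj_inv]

theorem pow_fifteen_of_odd {k : K} (h : Odd (orderOf k)) : k ^ 15 = 1 := by
  refine orderOf_dvd_iff_pow_eq_one.mp
    ((Nat.coprime_two_right.mpr h).dvd_of_dvd_mul_right ?_)
  exact (show (15 : ℕ) * 2 = 30 from rfl) ▸ orderOf_dvd_of_pow_eq_one (pow_thirty k)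

theorem Hyp.orderOf_conj_image (h : Hyp t φ) (g : G) (k : K) : orderOf (g * φ k * g⁻¹) = orderOf k := by
  rw [orderOf_conj, orderOf_injective φ h.inj]

/-- An element of odd order commuting with an involution has order three or five. -/
theorem Hyp.exists_cfg (h : Hyp t φ) {x s : G} (hx : Odd (orderOf x)) (hx1 : x ≠ 1) (hs : s * s = 1) (hs1 : s ≠ 1)
    (hc : x * s = s * x) : ∃ p u, Cfg p x s u := by
  obtain ⟨g, hg, hp⟩ := h.pull hs hs1
  obtain ⟨k, rfl⟩ := hp x hc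
  have hk : Odd (orderOf k) := by rwa [h.orderOf_conj_image] at hx
  have h15 := pow_fifteen_of_odd hk
  have hk1 : k ≠ 1 := fun e => hx1 (by rw [e, map_one]; group)
  obtain ⟨v, hv, hv1, -, hvk⟩ := exists_inverter h15 hk1
  refine ⟨orderOf k, g * φ v * g⁻¹, ?_, h.orderOf_conj_image g k, hs, hs1, ?_, ?_, ?_, hc, ?_⟩
  · haveI : Fact (Nat.Prime 3) := ⟨by norm_num⟩
    haveI : Fact (Nat.Prime 5) := ⟨by norm_num⟩
    rcases odd_order h15 with e | e
    · exact Or.inl (orderOf_eq_prime e hk1)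
    · exact Or.inr (orderOf_eq_prime e hk1)
  · rw [conj_mul, ← map_mul, hv, map_one, mul_one, mul_inv_cancel]
  · rw [ne_eq, conj_eq_one_iff]; exact fun e => hv1 (h.inj (e.trans (map_one φ).symm))
  · rw [← hg, conj_mul, conj_mul, h.comm]
  · rw [conj_mul, conj_mul, ← map_mul, ← map_mul, hvk, map_inv, conj_inv]

/-- The elements of odd order of a centraliser. -/
def Oc (x : G) : Subgroup G := Subgroup.closure {c | c * x = x * c ∧ Odd (orderOf c)}

theorem odd_orderOf_of_mem {H : Subgroup G} (h : Odd (Nat.card H)) {c : G} (hc : c ∈ H) : Odd (orderOf c) :=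
  h.of_dvd_nat (H.orderOf_dvd_natCard hc)

theorem Hyp.Oc_spec (h : Hyp t φ) (c : Cfg p x s u) :
    (∀ d : G, d ∈ Oc x ↔ d * x = x * d ∧ Odd (orderOf d)) ∧ Odd (Nat.card (Oc x)) ∧
      Nat.card (Subgroup.centralizer ({x} : Set G)) = 2 * Nat.card (Oc x) := by
  haveI : Fact (Nat.Prime 2) := ⟨Nat.prime_two⟩
  set X := Subgroup.centralizer ({x} : Set G) with hX
  have hsX : s ∈ X := mem_centralizer_singleton_iff.mpr c.xs.symm
  let s' : X := ⟨s, hsX⟩
  have hs' : orderOf s' = 2 := by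
    rw [Subgroup.orderOf_mk]; exact orderOf_eq_prime (by rw [sq, c.s2]) c.s1
  obtain ⟨S, hS⟩ := (IsPGroup.of_card (n := 1) (by rw [Nat.card_zpowers, hs', pow_one]) :
    IsPGroup 2 (Subgroup.zpowers s')).exists_le_sylow
  have hsS : s' ∈ (S : Subgroup X) := hS (Subgroup.mem_zpowers s')
  have hsq : ∀ r ∈ (S : Subgroup X), (r : G) * r = 1 := fun r hr => by
    obtain ⟨n, hn⟩ := S.2 ⟨r, hr⟩
    exact h.two r ⟨n, congrArg Subtype.val (congrArg Subtype.val hn)⟩
  have hsmall : ∀ r ∈ (S : Subgroup X), r = 1 ∨ r = s' := fun r hr => by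
    by_contra hc'
    push Not at hc'
    refine c.x1 (h.two_invs c.s2 c.s1 (hsq r hr) (fun e => hc'.1 (Subtype.ext e)) ?_ (fun e => hc'.2 (Subtype.ext e))
      c.odd c.xs (mem_centralizer_singleton_iff.mp r.2).symm)
    have h1 := hsq (r * s') (mul_mem hr hsS)
    have h2 := inv_eq_of_mul_eq_one_right h1
    rw [Subgroup.coe_mul, mul_inv_rev, inv_eq_of_mul_eq_one_right c.s2, inv_eq_of_mul_eq_one_right (hsq r hr)] at h2
    exact h2.symm
  haveI : IsMulCommutative (S : Subgroup X) := ⟨⟨fun a b => by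
    rcases hsmall a a.2 with ha | ha <;> rcases hsmall b b.2 with hb | hb <;>
      refine Subtype.ext ?_ <;> simp [Subgroup.coe_mul, ha, hb]⟩⟩
  have hfix : ∀ n ∈ Subgroup.normalizer ((S : Subgroup X) : Set X), n * s' = s' * n := fun n hn => by
    rcases hsmall _ ((Subgroup.mem_normalizer_iff.mp hn s').mp hsS) with e | e
    · rw [conj_eq_one_iff] at e
      rw [e]; simp
    · exact mul_inv_eq_iff_eq_mul.mp e
  obtain ⟨H, hH⟩ := CfsgLib.AbelianInvolutions.exists_index_two_of_fixed S hsS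
    (fun e => c.s1 (congrArg Subtype.val e)) hfix
  have hScard : Nat.card (S : Subgroup X) = 2 := by
    refine Eq.trans ?_ ((Nat.card_zpowers s').trans hs')
    refine Nat.card_congr (Equiv.setCongr (Set.ext fun r => ⟨fun hr => ?_, fun hr => hS hr⟩))
    rcases hsmall r hr with rfl | rfl
    · exact one_mem _
    · exact Subgroup.mem_zpowers s'
  have hodd : Odd (Nat.card H) := by
    refine Nat.not_even_iff_odd.mp fun he => ?_
    have h4 : 2 ^ 2 ∣ Nat.card (S : Subgroup X) := by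
      refine S.pow_dvd_card_of_pow_dvd_card ?_
      rw [← H.card_mul_index, hH, sq]
      exact Nat.mul_dvd_mul_right he.two_dvd 2
    rw [hScard] at h4
    norm_num at h4
  have hmem : ∀ d : X, Odd (orderOf d) → d ∈ H := fun d hd => by
    obtain ⟨m, hm⟩ := CfsgLib.Involutions.exists_sqrt hd
    rw [← hm]
    exact Subgroup.mul_self_mem_of_index_two hH _
  have key : Oc x = H.map X.subtype := by
    refine le_antisymm ((Subgroup.closure_le _).mpr ?_) ?_
    · rintro d ⟨hd, ho⟩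
      exact ⟨⟨d, mem_centralizer_singleton_iff.mpr hd⟩, hmem _ (by rwa [Subgroup.orderOf_mk]), rfl⟩
    · rintro _ ⟨d, hd, rfl⟩
      refine Subgroup.subset_closure ⟨mem_centralizer_singleton_iff.mp d.2, ?_⟩
      show Odd (orderOf (d : G))
      rw [Subgroup.orderOf_coe]
      exact odd_orderOf_of_mem hodd hd
  have hcard : Nat.card (Oc x) = Nat.card H := by rw [key, Subgroup.card_map_of_injective X.subtype_injective]
  refine ⟨fun d => ⟨fun hd => ?_, fun hd => Subgroup.subset_closure hd⟩, hcard ▸ hodd, ?_⟩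
  · rw [key] at hd
    obtain ⟨d, hd, rfl⟩ := hd
    exact ⟨mem_centralizer_singleton_iff.mp d.2, by
      show Odd (orderOf (d : G))
      rw [Subgroup.orderOf_coe]; exact odd_orderOf_of_mem hodd hd⟩
  · rw [hcard, ← H.card_mul_index, hH, mul_comm]

theorem Hyp.mem_Oc (h : Hyp t φ) (c : Cfg p x s u) {d : G} : d ∈ Oc x ↔ d * x = x * d ∧ Odd (orderOf d) :=
  (h.Oc_spec c).1 d

theorem Hyp.x_mem_Oc (h : Hyp t φ) (c : Cfg p x s u) : x ∈ Oc x := (h.mem_Oc c).mpr ⟨rfl, c.odd⟩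

theorem Hyp.conj_mem_Oc (h : Hyp t φ) (c : Cfg p x s u) {d : G} (hd : d ∈ Oc x) : s * d * s ∈ Oc x := by
  obtain ⟨h1, h2⟩ := (h.mem_Oc c).mp hd
  refine (h.mem_Oc c).mpr ⟨?_, by rw [conj_invol c.s2, orderOf_conj]; exact h2⟩
  have hx := (commute_iff_conj c.s2 x).mp c.xs
  nth_rw 1 [← hx]
  rw [← invol_mul_conj c.s2, h1, invol_mul_conj c.s2, hx]

theorem Hyp.conj_mem_Oc' (h : Hyp t φ) (c : Cfg p x s u) {d : G} (hd : d ∈ Oc x) : u * d * u ∈ Oc x := by
  obtain ⟨h1, h2⟩ := (h.mem_Oc c).mp hd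
  refine (h.mem_Oc c).mpr ⟨?_, by rw [conj_invol c.u2, orderOf_conj]; exact h2⟩
  have h3 : x⁻¹ * d = d * x⁻¹ := (Commute.inv_left (show Commute x d from h1.symm)).eq
  have h4 := congrArg (fun z => u * z * u) h3
  simp only [invol_mul_conj c.u2, invol_conj_inv c.u2, c.xu, inv_inv] at h4
  exact h4.symm

/-- The fixed points of the centralising involution. -/
theorem Hyp.fixed (h : Hyp t φ) (c : Cfg p x s u) {d : G} (hd : d ∈ Oc x) (hds : d * s = s * d) :
    d ∈ Subgroup.zpowers x := by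
  obtain ⟨g, hg, hp⟩ := h.pull c.s2 c.s1
  obtain ⟨k, hk⟩ := hp x c.xs
  obtain ⟨l, hl⟩ := hp d hds
  obtain ⟨h1, h2⟩ := (h.mem_Oc c).mp hd
  have hk' : Odd (orderOf k) := by have := c.odd; rwa [← hk, h.orderOf_conj_image] at this
  have hl' : Odd (orderOf l) := by rwa [← hl, h.orderOf_conj_image] at h2
  have hkl : k * l = l * k := by
    rw [← hk, ← hl, conj_mul, conj_mul, mul_left_inj, mul_right_inj, ← map_mul, ← map_mul] at h1
    exact (h.inj h1).symm
  have hk1 : k ≠ 1 := fun e => c.x1 (by rw [← hk, e, map_one]; group)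
  have hpow : ∀ n : ℕ, l = k ^ n → d ∈ Subgroup.zpowers x := fun n e => ⟨n, by
    show x ^ (n : ℤ) = d
    rw [zpow_natCast, ← hk, ← hl, conj_pow, e, map_pow]⟩
  rcases odd_centralizer (pow_fifteen_of_odd hk') hk1 (pow_fifteen_of_odd hl') hkl with e | e | e | e | e
  · exact hpow 0 (by rw [e, pow_zero])
  · exact hpow 1 (by rw [e, pow_one])
  · exact hpow 2 e
  · exact hpow 3 e
  · exact hpow 4 e

/-- The fixed points of the inverting involution. -/
def Au (x u : G) : Subgroup G := Oc x ⊓ Subgroup.centralizer ({u} : Set G)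

theorem mem_Au {d : G} : d ∈ Au x u ↔ d ∈ Oc x ∧ d * u = u * d := by
  rw [Au, Subgroup.mem_inf, mem_centralizer_singleton_iff]

theorem Cfg.zpow_u (c : Cfg p x s u) {d : G} (hd : d ∈ Subgroup.zpowers x) : u * d * u = d⁻¹ := by
  obtain ⟨i, rfl⟩ := hd
  rw [conj_invol c.u2]
  show u * x ^ i * u⁻¹ = (x ^ i)⁻¹
  rw [← conj_zpow, ← conj_invol c.u2, c.xu, inv_zpow]

theorem Cfg.zpow_s (c : Cfg p x s u) {d : G} (hd : d ∈ Subgroup.zpowers x) : s * d * s = d := by
  obtain ⟨i, rfl⟩ := hd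
  exact (commute_iff_conj c.s2 _).mp ((Commute.zpow_left (show Commute x s from c.xs) i).eq)

/-- The decomposition with respect to the centralising involution. -/
theorem Hyp.split_s (h : Hyp t φ) (c : Cfg p x s u) {d : G} (hd : d ∈ Oc x) :
    ∃ i k, i ∈ Subgroup.zpowers x ∧ k ∈ Oc x ∧ s * k * s = k⁻¹ ∧ d = i * k ∧
      ∀ i' k', i' ∈ Subgroup.zpowers x → k' ∈ Oc x → s * k' * s = k'⁻¹ → d = i' * k' → i' = i ∧ k' = k := by
  have hnorm : ∀ z ∈ Oc x, s * z * s⁻¹ ∈ Oc x := fun z hz => by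
    rw [← conj_invol c.s2]; exact h.conj_mem_Oc c hz
  obtain ⟨⟨i, k⟩, ⟨hi, hk, e⟩, huniq⟩ :=
    CfsgLib.RankOne.Inverted.decomp (h.Oc_spec c).2.1 hnorm c.s2 hd
  obtain ⟨hi1, hi2⟩ := Subgroup.mem_inf.mp hi
  refine ⟨i, k, h.fixed c hi1 (mem_centralizer_singleton_iff.mp hi2), hk.1, ?_, e, fun i' k' hi' hk' hks e' => ?_⟩
  · rw [conj_invol c.s2]; exact hk.2
  have hi'O : i' ∈ Oc x := Subgroup.zpowers_le.mpr (h.x_mem_Oc c) hi'
  have := huniq (i', k') ⟨Subgroup.mem_inf.mpr ⟨hi'O, mem_centralizer_singleton_iff.mpr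
    ((commute_iff_conj c.s2 i').mpr (c.zpow_s hi'))⟩, ⟨hk', by rw [← conj_invol c.s2]; exact hks⟩, e'⟩
  exact ⟨congrArg Prod.fst this, congrArg Prod.snd this⟩

theorem Hyp.Au_inverted (h : Hyp t φ) (c : Cfg p x s u) {a : G} (ha : a ∈ Au x u) : s * a * s = a⁻¹ := by
  obtain ⟨haO, hau⟩ := mem_Au.mp ha
  obtain ⟨i, k, hi, hk, hks, e, huniq⟩ := h.split_s c haO
  have h1 : a = i⁻¹ * (u * k * u) := by
    rw [← (commute_iff_conj c.u2 a).mp hau, e, invol_mul_conj c.u2, c.zpow_u hi]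
  have h2 : s * (u * k * u) * s = (u * k * u)⁻¹ := by
    calc s * (u * k * u) * s = (s * u) * k * (u * s) := by group
      _ = (u * s) * k * (s * u) := by rw [c.su]
      _ = u * (s * k * s) * u := by group
      _ = _ := by rw [hks, invol_conj_inv c.u2]
  obtain ⟨h3, -⟩ := huniq i⁻¹ _ (inv_mem hi) (h.conj_mem_Oc' c hk) h2 h1
  have : i = 1 := eq_one_of_inv_eq (((h.mem_Oc c).mp (Subgroup.zpowers_le.mpr (h.x_mem_Oc c) hi)).2) h3
  rw [this, one_mul] at e
  rw [e, hks]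

theorem Hyp.Au_comm (h : Hyp t φ) (c : Cfg p x s u) {a b : G} (ha : a ∈ Au x u) (hb : b ∈ Au x u) :
    a * b = b * a := by
  have h1 := h.Au_inverted c (mul_mem ha hb)
  rw [invol_mul_conj c.s2, h.Au_inverted c ha, h.Au_inverted c hb, mul_inv_rev] at h1
  calc a * b = (b⁻¹ * a⁻¹)⁻¹ := by group
    _ = (a⁻¹ * b⁻¹)⁻¹ := by rw [h1]
    _ = b * a := by group

theorem Hyp.Au_odd (h : Hyp t φ) (c : Cfg p x s u) {a : G} (ha : a ∈ Au x u) : Odd (orderOf a) :=
  ((h.mem_Oc c).mp (mem_Au.mp ha).1).2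

theorem Hyp.Au_cfg (h : Hyp t φ) (c : Cfg p x s u) {a : G} (ha : a ∈ Au x u) (ha1 : a ≠ 1) :
    ∃ q, Cfg q a u s := by
  obtain ⟨haO, hau⟩ := mem_Au.mp ha
  obtain ⟨q, v, cq⟩ := h.exists_cfg (h.Au_odd c ha) ha1 c.u2 c.u1 hau
  exact ⟨q, cq.pr, cq.ord, c.u2, c.u1, c.s2, c.s1, c.su.symm, hau, h.Au_inverted c ha⟩

theorem Hyp.Au_eq_zpowers (h : Hyp t φ) (c : Cfg p x s u) {a : G} (ha : a ∈ Au x u) (ha1 : a ≠ 1) :
    Au x u = Subgroup.zpowers a := by
  refine le_antisymm (fun b hb => ?_) (Subgroup.zpowers_le.mpr ha)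
  obtain ⟨q, cq⟩ := h.Au_cfg c ha ha1
  exact h.fixed cq ((h.mem_Oc cq).mpr ⟨h.Au_comm c hb ha, h.Au_odd c hb⟩) (mem_Au.mp hb).2

theorem Hyp.commutator_mem (h : Hyp t φ) (c : Cfg p x s u) {a b : G} (ha : a ∈ Oc x) (hb : b ∈ Oc x)
    (hai : s * a * s = a⁻¹) (hbi : s * b * s = b⁻¹) : a * b * a⁻¹ * b⁻¹ ∈ Subgroup.zpowers x := by
  obtain ⟨i, k, hi, hk, hks, e, -⟩ := h.split_s c (mul_mem ha hb)
  have hix : ∀ d ∈ Oc x, i * d = d * i := fun d hd => by
    obtain ⟨n, rfl⟩ := hi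
    exact (Commute.zpow_left (show Commute x d from (((h.mem_Oc c).mp hd).1).symm) n).eq
  have e2 : a⁻¹ * b⁻¹ = i * k⁻¹ := by
    rw [← hai, ← hbi, ← invol_mul_conj c.s2, e, invol_mul_conj c.s2, c.zpow_s hi, hks]
  have e3 : b⁻¹ * a⁻¹ = k⁻¹ * i⁻¹ := by rw [← mul_inv_rev, e, mul_inv_rev]
  have e4 : a⁻¹ * b⁻¹ = i * i * (b⁻¹ * a⁻¹) := by
    have hc : i⁻¹ * k⁻¹ = k⁻¹ * i⁻¹ := by rw [← mul_inv_rev, ← mul_inv_rev, hix k hk]
    rw [e2, e3, ← hc]
    group
  have hab : a * b * a⁻¹ * b⁻¹ = i * i := by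
    have hc : ∀ d ∈ Oc x, d * (i * i) = i * i * d := fun d hd => by
      rw [← mul_assoc, ← hix d hd, mul_assoc, ← hix d hd, mul_assoc]
    calc a * b * a⁻¹ * b⁻¹ = a * b * (a⁻¹ * b⁻¹) := by group
      _ = a * b * (i * i * (b⁻¹ * a⁻¹)) := by rw [e4]
      _ = (a * b * (i * i)) * (b⁻¹ * a⁻¹) := by group
      _ = i * i * (a * b) * (b⁻¹ * a⁻¹) := by rw [hc _ (mul_mem ha hb)]
      _ = i * i := by group
  rw [hab]
  exact mul_mem hi hi

/-- The centraliser modulo its order two part is generated by the three fixed point groups. -/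
theorem Hyp.span (h : Hyp t φ) (c : Cfg p x s u) {d : G} (hd : d ∈ Oc x) :
    ∃ i a b, i ∈ Subgroup.zpowers x ∧ a ∈ Au x u ∧ b ∈ Au x (s * u) ∧ d = i * a * b := by
  obtain ⟨i, y, hi, hy, hys, e, -⟩ := h.split_s c hd
  have hnorm : ∀ z ∈ Oc x, u * z * u⁻¹ ∈ Oc x := fun z hz => by
    rw [← conj_invol c.u2]; exact h.conj_mem_Oc' c hz
  obtain ⟨⟨a, b'⟩, ⟨ha, hb, e'⟩, -⟩ := CfsgLib.RankOne.Inverted.decomp (h.Oc_spec c).2.1 hnorm c.u2 hy
  have ha' : a ∈ Au x u := ha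
  obtain ⟨haO, hau⟩ := mem_Au.mp ha'
  dsimp only at hb e'
  obtain ⟨j, k, hj, hk, hks, e'', huniq⟩ := h.split_s c hb.1
  have hbu : u * b' * u = b'⁻¹ := by rw [conj_invol c.u2]; exact hb.2
  have hjk : ∀ z ∈ Oc x, j * z = z * j := fun z hz => by
    obtain ⟨n, rfl⟩ := hj
    exact (Commute.zpow_left (show Commute x z from (((h.mem_Oc c).mp hz).1).symm) n).eq
  have h1 : b'⁻¹ = j⁻¹ * (u * k * u) := by rw [← hbu, e'', invol_mul_conj c.u2, c.zpow_u hj]
  have h2 : b'⁻¹ = j⁻¹ * k⁻¹ := by rw [e'', ← mul_inv_rev, hjk k hk]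
  have huk : u * k * u = k⁻¹ := mul_left_cancel (h1.symm.trans h2)
  refine ⟨i * j, a, k, mul_mem hi hj, ha', mem_Au.mpr ⟨hk, (commute_iff_conj c.third.u2 k).mpr ?_⟩, ?_⟩
  · calc s * u * k * (s * u) = s * (u * k * (s * u)) := by group
      _ = s * (u * k * (u * s)) := by rw [c.su]
      _ = s * (u * k * u) * s := by group
      _ = k := by rw [huk, invol_conj_inv c.s2, hks, inv_inv]
  · calc d = i * (a * (j * k)) := by rw [e, e', e'']
      _ = i * (a * j) * k := by group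
      _ = i * (j * a) * k := by rw [hjk a haO]
      _ = i * j * a * k := by group

end CfsgLib.JankoOne
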