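/-
No element moves an element of prime order to its partner inside the group they generate; centralisers are abelian.
-/
import Cfsg.Agent.Lib.JankoOne.Config

set_option autoImplicit false
set_option linter.unusedSectionVars false

namespace CfsgLib.JankoOne

open Subgroup
open CfsgLib.Involutions (orderOf_conj exists_conj_eq_of_odd)

variable {G : Type*} [Group G] [Finite G] {t : G} {φ : K →* G}
variable {p : ℕ} {x s u a : G}

/-- The base elements of order three and five. -/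
def baseK (p : ℕ) : K := if p = 3 then c0 else q0

theorem Hyp.conj_base (h : Hyp t φ) (c : Cfg p x s u) :
    ∃ g : G, Subgroup.zpowers x = Subgroup.zpowers (g * φ (baseK p) * g⁻¹) := by
  obtain ⟨g, -, hp⟩ := h.pull c.s2 c.s1
  obtain ⟨k, hk⟩ := hp x c.xs
  have hord : orderOf k = p := by rw [← c.ord, ← hk, h.orderOf_conj_image]
  have hk1 : k ≠ 1 := fun e => by rw [e, orderOf_one] at hord; exact c.prime.ne_one hord.symm
  have hpow : k ^ p = 1 := hord ▸ pow_orderOf_eq_one k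
  rcases c.pr with rfl | rfl
  · obtain ⟨r, hr⟩ := conj_three hpow hk1
    refine ⟨g * φ r, ?_⟩
    have : g * φ r * φ (baseK 3) * (g * φ r)⁻¹ = x := by
      rw [← hk]
      calc g * φ r * φ (baseK 3) * (g * φ r)⁻¹ = g * (φ (r * c0)) * (φ r)⁻¹ * g⁻¹ := by
            rw [map_mul, show baseK 3 = c0 from rfl]; group
        _ = _ := by rw [hr, map_mul]; group
    rw [this]
  · obtain ⟨r, hr⟩ := conj_five hpow hk1
    refine ⟨g * φ r, ?_⟩
    have key : ∀ y : K, r * y = k * r → g * φ r * φ y * (g * φ r)⁻¹ = x := fun y hy => by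
      rw [← hk]
      calc g * φ r * φ y * (g * φ r)⁻¹ = g * (φ (r * y)) * (φ r)⁻¹ * g⁻¹ := by rw [map_mul]; group
        _ = _ := by rw [hy, map_mul]; group
    rw [show baseK 5 = q0 from rfl]
    rcases hr with hr | hr
    · rw [key q0 hr]
    · rw [← key _ hr, map_pow, ← conj_pow]
      refine le_antisymm (Subgroup.zpowers_le.mpr (pow_mem (Subgroup.mem_zpowers _) 2)) (Subgroup.zpowers_le.mpr ?_)
      have h5 : (g * φ r * φ q0 * (g * φ r)⁻¹) ^ 5 = 1 := by
        rw [conj_pow, ← map_pow, gens_props.2.2.1, map_one, mul_one, mul_inv_cancel]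
      refine Subgroup.mem_zpowers_iff.mpr ⟨3, ?_⟩
      rw [show (3 : ℤ) = ((3 : ℕ) : ℤ) from rfl, zpow_natCast, ← pow_mul, show 2 * 3 = 5 + 1 from rfl, pow_add,
        h5, one_mul, pow_one]

theorem zpowers_conj (g y : G) : ∀ z : G, z ∈ Subgroup.zpowers y → g * z * g⁻¹ ∈ Subgroup.zpowers (g * y * g⁻¹) := by
  rintro _ ⟨i, rfl⟩
  exact ⟨i, conj_zpow⟩

theorem commute_of_mem_zpowers {y z d : G} (hz : z ∈ Subgroup.zpowers y) (hd : d * y = y * d) : d * z = z * d := by
  obtain ⟨i, rfl⟩ := hz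
  exact (Commute.zpow_right (show Commute d y from hd) i).eq

/-- Any two configurations for the same prime have conjugate groups. -/
theorem Hyp.conj_cfg (h : Hyp t φ) (c : Cfg p x s u) {y s' u' : G} (c' : Cfg p y s' u') :
    ∃ g : G, g * x * g⁻¹ ∈ Subgroup.zpowers y ∧ y ∈ Subgroup.zpowers (g * x * g⁻¹) ∧
      ∀ d : G, d ∈ Oc x ↔ g * d * g⁻¹ ∈ Oc y := by
  obtain ⟨g1, h1⟩ := h.conj_base c
  obtain ⟨g2, h2⟩ := h.conj_base c'
  have hx' : g2 * g1⁻¹ * x * (g2 * g1⁻¹)⁻¹ ∈ Subgroup.zpowers y := by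
    rw [h2]
    have hm : x ∈ Subgroup.zpowers (g1 * φ (baseK p) * g1⁻¹) := h1 ▸ Subgroup.mem_zpowers x
    have := zpowers_conj (g2 * g1⁻¹) _ x hm
    rwa [show g2 * g1⁻¹ * (g1 * φ (baseK p) * g1⁻¹) * (g2 * g1⁻¹)⁻¹ = g2 * φ (baseK p) * g2⁻¹ by group] at this
  have hy' : y ∈ Subgroup.zpowers (g2 * g1⁻¹ * x * (g2 * g1⁻¹)⁻¹) := by
    have hm : g1 * φ (baseK p) * g1⁻¹ ∈ Subgroup.zpowers x := h1 ▸ Subgroup.mem_zpowers _
    have h3 := zpowers_conj (g2 * g1⁻¹) _ _ hm
    rw [show g2 * g1⁻¹ * (g1 * φ (baseK p) * g1⁻¹) * (g2 * g1⁻¹)⁻¹ = g2 * φ (baseK p) * g2⁻¹ by group] at h3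
    have hy : y ∈ Subgroup.zpowers (g2 * φ (baseK p) * g2⁻¹) := h2 ▸ Subgroup.mem_zpowers y
    exact Subgroup.zpowers_le.mpr h3 hy
  refine ⟨g2 * g1⁻¹, hx', hy', fun d => ?_⟩
  rw [h.mem_Oc c, h.mem_Oc c', orderOf_conj]
  refine and_congr_left' ⟨fun hd => commute_of_mem_zpowers hy' (by rw [conj_mul, conj_mul, hd]), fun hd => ?_⟩
  have := commute_of_mem_zpowers hx' hd
  rw [conj_mul, conj_mul, mul_left_inj, mul_right_inj] at this
  exact this

theorem Hyp.card_Oc_eq (h : Hyp t φ) (c : Cfg p x s u) {y s' u' : G} (c' : Cfg p y s' u') :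
    Nat.card (Oc x) = Nat.card (Oc y) := by
  obtain ⟨g, -, -, hg⟩ := h.conj_cfg c c'
  exact Nat.card_congr (Equiv.subtypeEquiv (MulAut.conj g).toEquiv fun d => hg d)

theorem Hyp.centralizer_two_invs (h : Hyp t φ) {r v d : G} (hr : r * r = 1) (hr1 : r ≠ 1) (hv : v * v = 1)
    (hv1 : v ≠ 1) (hne : v ≠ r) (hvr : v * r = r * v) (hdr : d * r = r * d) (hdv : d * v = v * d) :
    d * d = 1 := by
  obtain ⟨g, hg, hp⟩ := h.pull hr hr1
  obtain ⟨k, rfl⟩ := hp v hvr
  obtain ⟨l, rfl⟩ := hp d hdr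
  rw [conj_mul, conj_eq_one_iff, ← map_mul, ← map_one φ] at hv
  rw [conj_mul, conj_mul, mul_left_inj, mul_right_inj, ← map_mul, ← map_mul] at hdv
  have := inv_centralizer (h.inj hv) (fun e => hv1 (by rw [e, map_one]; group))
    (fun e => hne (by rw [e, h.image, hg])) (h.inj hdv).symm
  rw [conj_mul, ← map_mul, this, map_one, mul_one, mul_inv_cancel]

/-- No element interchanges two commuting involutions. -/
theorem Hyp.no_swap (h : Hyp t φ) {g r v : G} (hr : r * r = 1) (hv : v * v = 1) (hne : v ≠ r)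
    (hvr : v * r = r * v) (h1 : g * r * g⁻¹ = v) (h2 : g * v * g⁻¹ = r) : False := by
  obtain ⟨k, m, hm, hn⟩ := Nat.exists_eq_pow_mul_and_not_dvd (orderOf_pos g).ne' 2 (by norm_num)
  obtain ⟨j, hj⟩ := Nat.odd_iff.mpr (Nat.two_dvd_ne_zero.mp hm)
  have hcomm : ∀ y : G, g * g * y * (g * g)⁻¹ = g * (g * y * g⁻¹) * g⁻¹ := fun y => by group
  have hpow : ∀ (i : ℕ) (y : G), g * g * y * (g * g)⁻¹ = y → (g * g) ^ i * y * ((g * g) ^ i)⁻¹ = y := by
    intro i y hy
    induction i with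
    | zero => simp
    | succ i ih =>
      calc (g * g) ^ (i + 1) * y * ((g * g) ^ (i + 1))⁻¹
          = (g * g) ^ i * (g * g * y * (g * g)⁻¹) * ((g * g) ^ i)⁻¹ := by rw [pow_succ]; group
        _ = y := by rw [hy, ih]
  set e := g ^ m with he
  have e1 : e * r * e⁻¹ = v := by
    rw [he, hj, pow_succ, pow_mul, sq]
    calc (g * g) ^ j * g * r * ((g * g) ^ j * g)⁻¹ = (g * g) ^ j * (g * r * g⁻¹) * ((g * g) ^ j)⁻¹ := by group
      _ = v := by rw [h1, hpow j v (by rw [hcomm, h2, h1])]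
  have e2 : e * e = 1 := h.two e ⟨k, by rw [he, ← pow_mul, mul_comm, ← hn, pow_orderOf_eq_one]⟩
  have e3 : (e * r) * (e * r) = v * r := by
    calc (e * r) * (e * r) = (e * r * e) * r := by group
      _ = v * r := by rw [← e1, inv_eq_of_mul_eq_one_right e2]
  have e4 : ((e * r) * (e * r)) = 1 := h.two (e * r) ⟨2, by
    rw [show (2 : ℕ) ^ 2 = 2 * 2 from rfl, pow_mul, sq (e * r), e3, sq]
    calc v * r * (v * r) = v * (r * v) * r := by group
      _ = v * (v * r) * r := by rw [hvr]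
      _ = 1 := by rw [← mul_assoc, hv, one_mul, hr]⟩
  rw [e3, mul_eq_one_iff_eq_inv, inv_eq_of_mul_eq_one_right hr] at e4
  exact hne e4

/-- Elements of the form `i b` with `i` a power of `x` and `b` a power of `a`. -/
def pairSub {M : Type*} [Group M] (x a : M) (hxa : Commute x a) : Subgroup M where
  carrier := {v | ∃ i b, i ∈ Subgroup.zpowers x ∧ b ∈ Subgroup.zpowers a ∧ v = i * b}
  one_mem' := ⟨1, 1, one_mem _, one_mem _, (mul_one 1).symm⟩
  mul_mem' := by
    rintro _ _ ⟨i, b, hi, hb, rfl⟩ ⟨i', b', hi', hb', rfl⟩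
    refine ⟨i * i', b * b', mul_mem hi hi', mul_mem hb hb', ?_⟩
    obtain ⟨n, rfl⟩ := hi'
    obtain ⟨m, rfl⟩ := hb
    exact Commute.mul_mul_mul_comm ((hxa.zpow_zpow n m).symm) _ _
  inv_mem' := by
    rintro _ ⟨i, b, hi, hb, rfl⟩
    refine ⟨i⁻¹, b⁻¹, inv_mem hi, inv_mem hb, ?_⟩
    obtain ⟨n, rfl⟩ := hi
    obtain ⟨m, rfl⟩ := hb
    rw [mul_inv_rev]
    exact ((hxa.zpow_zpow n m).inv_inv).eq.symm

theorem Hyp.Au_commute (h : Hyp t φ) (c : Cfg p x s u) (ha : a ∈ Au x u) : Commute x a :=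
  ((h.mem_Oc c).mp (mem_Au.mp ha).1).1.symm

theorem pairSub_le {M : Type*} [Group M] {x a : M} {hxa : Commute x a} {E : Subgroup M} (hx : x ∈ E)
    (ha : a ∈ E) : pairSub x a hxa ≤ E := by
  rintro _ ⟨i, b, hi, hb, rfl⟩
  exact mul_mem (Subgroup.zpowers_le.mpr hx hi) (Subgroup.zpowers_le.mpr ha hb)

theorem conj_mem_pairSub {M : Type*} [Group M] {x a : M} {hxa : Commute x a} {g : M}
    (hx : g * x * g⁻¹ ∈ pairSub x a hxa) (ha : g * a * g⁻¹ ∈ pairSub x a hxa) :
    ∀ v ∈ pairSub x a hxa, g * v * g⁻¹ ∈ pairSub x a hxa := fun v hv => by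
  have := pairSub_le (E := (pairSub x a hxa).comap (MulAut.conj g).toMonoidHom)
    (Subgroup.mem_comap.mpr hx) (Subgroup.mem_comap.mpr ha) hv
  exact Subgroup.mem_comap.mp this

/-- The elements normalising a subgroup. -/
theorem Hyp.align (h : Hyp t φ) (c : Cfg p x s u) (ca : Cfg p a u s) (E : Subgroup G)
    (hs : ∀ v ∈ E, s * v * s⁻¹ ∈ E) (hu : ∀ v ∈ E, u * v * u⁻¹ ∈ E) (haE : a ∈ E)
    {g : G} (hgE : ∀ v ∈ E, g * v * g⁻¹ ∈ E) (hgx : g * x * g⁻¹ ∈ Subgroup.zpowers a) :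
    ∃ g' : G, (∀ v ∈ E, g' * v * g'⁻¹ ∈ E) ∧ g' * s * g'⁻¹ = u ∧
      (g' * u * g'⁻¹ = s ∨ g' * u * g'⁻¹ = s * u) ∧ g' * x * g'⁻¹ ∈ Subgroup.zpowers a := by
  haveI : Fact (Nat.Prime p) := ⟨c.prime⟩
  set N := Subgroup.normalizer (E : Set G) with hN
  have memN : ∀ {y : G}, (∀ v ∈ E, y * v * y⁻¹ ∈ E) → y ∈ N := fun hy => Subgroup.mem_normalizer_fintype hy
  have hgen : a ∈ Subgroup.zpowers (g * x * g⁻¹) := by
    obtain ⟨i, hi⟩ := mem_zpowers_of_prime_card (G := Subgroup.zpowers a) (by rw [Nat.card_zpowers, ca.ord])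
      (g := ⟨_, hgx⟩) (g' := ⟨a, Subgroup.mem_zpowers a⟩)
      (fun e => c.x1 (conj_eq_one_iff.mp (congrArg Subtype.val e)))
    exact ⟨i, by simpa using congrArg Subtype.val hi⟩
  set s' := g * s * g⁻¹ with hs'
  have hs'2 : s' * s' = 1 := by rw [hs', conj_mul, c.s2, mul_one, mul_inv_cancel]
  have hs'a : s' * a = a * s' := commute_of_mem_zpowers hgen (by rw [hs', conj_mul, conj_mul, c.xs])
  have hs'1 : s' ≠ 1 := by rw [hs', ne_eq, conj_eq_one_iff]; exact c.s1
  have hodd : Odd (orderOf (s' * u)) := by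
    rw [← Nat.not_even_iff_odd]
    intro he
    obtain ⟨hz1, hz2⟩ := CfsgLib.Involutions.central_half hs'2 c.u2 he
    have hzo := CfsgLib.Involutions.orderOf_half (x := s') (y := u) he
    set z := (s' * u) ^ (orderOf (s' * u) / 2)
    obtain ⟨hzz, hz1'⟩ := CfsgLib.Involutions.orderOf_eq_two_iff'.mp hzo
    have hza : a * z = z * a := ((Commute.mul_right (show Commute a s' from hs'a.symm) ca.xs).pow_right _).eq
    by_cases hzu : z = u
    · by_cases hsu : s' = u
      · rw [hsu, c.u2, orderOf_one] at he; exact Nat.not_even_one he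
      · exact ca.x1 (h.two_invs c.u2 c.u1 hs'2 hs'1 (hzu ▸ hz1.eq).symm hsu ca.odd ca.xs hs'a.symm)
    · exact ca.x1 (h.two_invs c.u2 c.u1 hzz hz1' hz2.eq hzu ca.odd ca.xs hza)
  obtain ⟨d, hd, hds⟩ := exists_conj_eq_of_odd hs'2 c.u2 hodd
  have hdN : d ∈ N ⊓ Subgroup.centralizer ({a} : Set G) := by
    refine (Subgroup.closure_le _).mpr ?_ hd
    rintro _ (rfl | rfl)
    · refine ⟨?_, mem_centralizer_singleton_iff.mpr hs'a⟩
      exact N.mul_mem (N.mul_mem (memN hgE) (memN hs)) (N.inv_mem (memN hgE))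
    · exact ⟨memN hu, mem_centralizer_singleton_iff.mpr ca.xs.symm⟩
  obtain ⟨hdN1, hdN2⟩ := Subgroup.mem_inf.mp hdN
  have hda : d * a = a * d := mem_centralizer_singleton_iff.mp hdN2
  set g1 := d * g with hg1
  have e1 : g1 * s * g1⁻¹ = u := by
    calc g1 * s * g1⁻¹ = d * s' * d⁻¹ := by rw [hg1, hs']; group
      _ = u := hds
  have e1x : g1 * x * g1⁻¹ ∈ Subgroup.zpowers a := by
    have := zpowers_conj d a _ hgx
    rw [hda, mul_inv_cancel_right] at this
    rwa [show d * (g * x * g⁻¹) * d⁻¹ = g1 * x * g1⁻¹ by rw [hg1]; group] at this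
  have e1N : g1 ∈ N := mul_mem hdN1 (memN hgE)
  set u' := g1 * u * g1⁻¹ with hu'
  have hu'2 : u' * u' = 1 := by rw [hu', conj_mul, c.u2, mul_one, mul_inv_cancel]
  have hu'u : u' * u = u * u' := by rw [← e1, hu', conj_mul, conj_mul, c.su]
  have hgen1 : a ∈ Subgroup.zpowers (g1 * x * g1⁻¹) := by
    have := zpowers_conj d _ _ hgen
    rw [hda, mul_inv_cancel_right] at this
    rwa [show d * (g * x * g⁻¹) * d⁻¹ = g1 * x * g1⁻¹ by rw [hg1]; group] at this
  have hu'a : u' * a * u' = a⁻¹ := by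
    obtain ⟨i, hi⟩ := hgen1
    rw [← hi, conj_invol hu'2]
    show u' * (g1 * x * g1⁻¹) ^ i * u'⁻¹ = ((g1 * x * g1⁻¹) ^ i)⁻¹
    rw [← conj_zpow, ← inv_zpow]
    congr 1
    rw [hu', conj_inv, conj_mul, conj_mul, ← conj_invol c.u2, c.xu, conj_inv]
  -- the product of the two inverting involutions
  set y := u' * s with hy
  have hya : y * a = a * y := by
    have h1 : s * a * s = a⁻¹ := ca.xu
    calc y * a = u' * (s * a * s) * s := by rw [hy]; simp [mul_assoc, c.s2]
      _ = u' * a⁻¹ * s := by rw [h1]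
      _ = (u' * a⁻¹ * u') * (u' * s) := by simp only [mul_assoc]; rw [← mul_assoc u' u', hu'2, one_mul]
      _ = a * y := by rw [invol_conj_inv hu'2, hu'a, inv_inv]
  have hyu : y * u = u * y := by rw [hy, mul_assoc, ← c.su, ← mul_assoc, hu'u, mul_assoc]
  obtain ⟨z, hz, hzu, hyz⟩ : ∃ z, z ∈ Subgroup.zpowers a ∧ z * u = u * z ∧ (y = z ∨ y = u * z) := by
    rcases Nat.even_or_odd (orderOf y) with he | ho
    · -- the involution power is u
      obtain ⟨k, m, hm, hn⟩ := Nat.exists_eq_pow_mul_and_not_dvd (orderOf_pos y).ne' 2 (by norm_num)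
      have hk : y ^ m * y ^ m = 1 := h.two _ ⟨k, by rw [← pow_mul, mul_comm, ← hn, pow_orderOf_eq_one]⟩
      have hne : y ^ m ≠ 1 := fun e => by
        have := Nat.le_of_dvd (Nat.pos_of_ne_zero fun e0 => hm (by rw [e0]; exact dvd_zero 2)) (orderOf_dvd_of_pow_eq_one e)
        have h2 : 2 ^ k * m ≤ m := hn ▸ this
        rcases k with _ | k
        · exact hm (by rw [pow_zero, one_mul] at hn; exact hn ▸ he.two_dvd)
        · have : 2 * m ≤ 2 ^ (k + 1) * m := Nat.mul_le_mul_right m (Nat.le_self_pow (Nat.succ_ne_zero k) 2)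
          have : 0 < m := Nat.pos_of_ne_zero fun e0 => hm (by rw [e0]; exact dvd_zero 2)
          omega
      have hym : y ^ m = u := by
        by_contra hne'
        exact ca.x1 (h.two_invs c.u2 c.u1 hk hne ((show Commute y u from hyu).pow_left m).eq hne' ca.odd ca.xs
          ((show Commute a y from hya.symm).pow_right m).eq)
      have hodd' : Odd (orderOf (u * y)) := by
        obtain ⟨j, hj⟩ := Nat.odd_iff.mpr (Nat.two_dvd_ne_zero.mp hm)
        refine Odd.of_dvd_nat ⟨j, hj⟩ (orderOf_dvd_of_pow_eq_one ?_)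
        rw [(show Commute u y from hyu.symm).mul_pow, hym, hj, pow_succ, pow_mul, sq, c.u2, one_pow, one_mul, c.u2]
      refine ⟨u * y, h.fixed ca ((h.mem_Oc ca).mpr ⟨?_, hodd'⟩) ?_, ?_, Or.inr ?_⟩
      · exact (Commute.mul_left (show Commute u a from ca.xs.symm) hya).eq
      · rw [mul_assoc, hyu]
      · rw [mul_assoc, hyu]
      · rw [← mul_assoc, c.u2, one_mul]
    · exact ⟨y, h.fixed ca ((h.mem_Oc ca).mpr ⟨hya, ho⟩) hyu, hyu, Or.inl rfl⟩
  obtain ⟨m, hm⟩ := CfsgLib.Involutions.exists_sqrt (u := z)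
    (((h.mem_Oc ca).mp (Subgroup.zpowers_le.mpr (h.x_mem_Oc ca) hz)).2)
  set r := (z ^ m)⁻¹ with hr
  have hrz : r ∈ Subgroup.zpowers a := inv_mem (pow_mem hz m)
  have hru : r * u = u * r := ((show Commute z u from hzu).pow_left m).inv_left.eq
  have hrN : r ∈ N := Subgroup.le_normalizer (Subgroup.zpowers_le.mpr haE hrz)
  have hrs : s * r = r⁻¹ * s := by
    have := ca.zpow_u hrz
    rw [← this, mul_assoc (s * r) s s, c.s2, mul_one]
  have hconj : ∀ v : G, v = z * s → r * v * r⁻¹ = s := fun v hv => by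
    have hzr : r * z * r = 1 := by
      calc r * z * r = r * (z ^ m * z ^ m) * r := by rw [hm]
        _ = 1 := by rw [hr]; group
    calc r * v * r⁻¹ = r * z * (s * r⁻¹) := by rw [hv]; group
      _ = r * z * (r * s) := by
        congr 1
        calc s * r⁻¹ = r * (r⁻¹ * s) * r⁻¹ := by group
          _ = r * (s * r) * r⁻¹ := by rw [hrs]
          _ = r * s := by group
      _ = (r * z * r) * s := by group
      _ = s := by rw [hzr, one_mul]
  refine ⟨r * g1, fun v hv => ?_, ?_, ?_, ?_⟩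
  · exact (Subgroup.mem_normalizer_iff.mp (mul_mem hrN e1N) v).mp hv
  · calc r * g1 * s * (r * g1)⁻¹ = r * (g1 * s * g1⁻¹) * r⁻¹ := by group
      _ = u := by rw [e1, hru, mul_inv_cancel_right]
  · have hconj' : r * g1 * u * (r * g1)⁻¹ = r * u' * r⁻¹ := by rw [hu']; group
    have hu's : u' = y * s := by rw [hy, mul_assoc, c.s2, mul_one]
    rcases hyz with e | e
    · left; rw [hconj', hconj u' (by rw [hu's, e])]
    · right
      calc r * g1 * u * (r * g1)⁻¹ = r * (u * (z * s)) * r⁻¹ := by rw [hconj', hu's, e]; group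
        _ = (r * u) * (z * s) * r⁻¹ := by group
        _ = u * (r * (z * s) * r⁻¹) := by rw [hru]; group
        _ = s * u := by rw [hconj _ rfl, c.su]
  · have := zpowers_conj r a _ e1x
    rw [show r * a = a * r from commute_of_mem_zpowers hrz rfl |>.symm, mul_inv_cancel_right] at this
    rwa [show r * (g1 * x * g1⁻¹) * r⁻¹ = r * g1 * x * (r * g1)⁻¹ by group] at this

/-- No element normalising the group generated by `x` and `a` moves `x` into `⟨a⟩`. -/
theorem Hyp.claim (h : Hyp t φ) (c : Cfg p x s u) (ha : a ∈ Au x u) (ca : Cfg p a u s) {g : G}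
    (hgx : g * x * g⁻¹ ∈ Subgroup.zpowers a)
    (hga : g * a * g⁻¹ ∈ pairSub x a (h.Au_commute c ha)) : False := by
  set E := pairSub x a (h.Au_commute c ha) with hE
  have hxE : x ∈ E := ⟨x, 1, Subgroup.mem_zpowers x, one_mem _, (mul_one x).symm⟩
  have haE : a ∈ E := ⟨1, a, one_mem _, Subgroup.mem_zpowers a, (one_mul a).symm⟩
  have hs := conj_mem_pairSub (hxa := h.Au_commute c ha) (g := s)
    (by rw [← conj_invol c.s2, c.zpow_s (Subgroup.mem_zpowers x)]; exact hxE)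
    (by rw [← conj_invol c.s2, h.Au_inverted c ha]; exact inv_mem haE)
  have hu := conj_mem_pairSub (hxa := h.Au_commute c ha) (g := u)
    (by rw [← conj_invol c.u2, c.xu]; exact inv_mem hxE)
    (by rw [← conj_invol c.u2, (commute_iff_conj c.u2 a).mp (mem_Au.mp ha).2]; exact haE)
  have hgx' : g * x * g⁻¹ ∈ E := Subgroup.zpowers_le.mpr haE hgx
  obtain ⟨g', hg', h1, h2, -⟩ := h.align c ca E hs hu haE (conj_mem_pairSub hgx' hga) hgx
  rcases h2 with h2 | h2
  · exact h.no_swap c.s2 c.u2 c.ne c.su h1 h2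
  · obtain ⟨i, b, hi, hb, e⟩ := hg' a haE
    set v := g' * a * g'⁻¹ with hv
    have hw : (s * u) * v * (s * u) = v := by
      refine (commute_iff_conj c.third.u2 v).mp ?_
      rw [← h2, hv, conj_mul, conj_mul, (mem_Au.mp ha).2]
    have hib : Commute i b := by
      obtain ⟨n, rfl⟩ := hi
      obtain ⟨m, rfl⟩ := hb
      exact (h.Au_commute c ha).zpow_zpow n m
    have hi' := c.third.zpow_u hi
    have hb' : (s * u) * b * (s * u) = b⁻¹ := by
      calc s * u * b * (s * u) = s * (u * b * (s * u)) := by group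
        _ = s * (u * b * (u * s)) := by rw [c.su]
        _ = s * (u * b * u) * s := by group
        _ = b⁻¹ := by rw [ca.zpow_s hb, ca.zpow_u hb]
    rw [e, invol_mul_conj c.third.u2, hi', hb', ← mul_inv_rev, ← hib.eq] at hw
    have hodd : Odd (orderOf v) := by rw [hv, orderOf_conj]; exact ca.odd
    exact ca.x1 (conj_eq_one_iff.mp (hv.symm.trans (eq_one_of_inv_eq hodd (by rw [e]; exact hw))))

/-- The fixed point groups of the two inverting involutions centralise each other. -/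
theorem Hyp.fixed_commute (h : Hyp t φ) (c : Cfg p x s u) {b : G} (ha : a ∈ Au x u)
    (hb : b ∈ Au x (s * u)) : a * b = b * a := by
  haveI : Fact (Nat.Prime p) := ⟨c.prime⟩
  have coprime_case : ∀ {p : ℕ} {x s u a b : G}, Cfg p x s u → a ∈ Au x u → b ∈ Au x (s * u) →
      orderOf a ≠ p → a * b = b * a := by
    intro p x s u a b c ha hb hne
    rcases eq_or_ne a 1 with rfl | ha1
    · simp
    obtain ⟨q, cq⟩ := h.Au_cfg c ha ha1
    have hcm := h.commutator_mem c (mem_Au.mp ha).1 (mem_Au.mp hb).1 (h.Au_inverted c ha) (h.Au_inverted c.third hb)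
    set d := a * b * a⁻¹ * b⁻¹ with hd
    have hd' : a * b * a⁻¹ = d * b := by rw [hd]; group
    have hdc : Commute d a := by
      obtain ⟨n, hn⟩ := hcm
      rw [← hn]; exact (h.Au_commute c ha).zpow_left n
    have hpow : ∀ n : ℕ, a ^ n * b * (a ^ n)⁻¹ = d ^ n * b := by
      intro n
      induction n with
      | zero => simp
      | succ n ih =>
        calc a ^ (n + 1) * b * (a ^ (n + 1))⁻¹ = a * (a ^ n * b * (a ^ n)⁻¹) * a⁻¹ := by rw [pow_succ']; group
          _ = (a * d ^ n) * b * a⁻¹ := by rw [ih]; group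
          _ = d ^ n * (a * b * a⁻¹) := by rw [← (hdc.pow_left n).eq]; group
          _ = d ^ (n + 1) * b := by rw [hd', pow_succ]; group
    have h1 : d ^ orderOf a = 1 := by
      have := hpow (orderOf a)
      rw [pow_orderOf_eq_one, one_mul, inv_one, mul_one] at this
      exact mul_eq_right.mp this.symm
    have h2 : d ^ p = 1 := by
      obtain ⟨n, hn⟩ := hcm
      rw [← hn]
      show (x ^ n) ^ p = 1
      rw [← zpow_natCast, ← zpow_mul, mul_comm, zpow_mul, zpow_natCast, ← c.ord, pow_orderOf_eq_one, one_zpow]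
    have h3 : d = 1 := eq_one_of_coprime_pows h1 h2 ((Nat.coprime_primes (cq.ord ▸ cq.prime) c.prime).mpr hne)
    rw [h3, one_mul, mul_inv_eq_iff_eq_mul] at hd'
    exact hd'
  by_contra hne
  have hoa : orderOf a = p := by_contra fun hp => hne (coprime_case c ha hb hp)
  have ha1 : a ≠ 1 := fun e => hne (by simp [e])
  obtain ⟨q, cq⟩ := h.Au_cfg c ha ha1
  obtain rfl : q = p := cq.ord.symm.trans hoa
  obtain ⟨g, hgx, hgx', hg⟩ := h.conj_cfg c cq
  have hxA : x ∈ Au a s := mem_Au.mpr ⟨(h.mem_Oc cq).mpr ⟨(h.Au_commute c ha).eq, c.odd⟩, c.xs⟩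
  obtain ⟨b', hb', hb'x⟩ : ∃ b' ∈ Au a (u * s), b' * x ≠ x * b' := by
    by_contra hall
    push Not at hall
    refine hne ?_
    have habel : ∀ v w, v ∈ Oc a → w ∈ Oc a → Commute v w := by
      intro v w hv hw
      obtain ⟨i, a₁, b₁, hi, ha₁, hb₁, rfl⟩ := h.span cq hv
      obtain ⟨j, a₂, b₂, hj, ha₂, hb₂, rfl⟩ := h.span cq hw
      rw [h.Au_eq_zpowers cq hxA c.x1] at ha₁ ha₂
      have hI : ∀ i z, i ∈ Subgroup.zpowers a → z ∈ Oc a → Commute i z := by
        intro i z hi hz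
        obtain ⟨n, rfl⟩ := hi
        exact Commute.zpow_left ((h.mem_Oc cq).mp hz).1.symm n
      have hX : ∀ i z, i ∈ Subgroup.zpowers x → z ∈ Au a (u * s) → Commute i z := by
        intro i z hi hz
        obtain ⟨n, rfl⟩ := hi
        exact Commute.zpow_left (hall z hz).symm n
      have hXX : Commute a₁ a₂ := by
        obtain ⟨n, rfl⟩ := ha₁
        obtain ⟨m, rfl⟩ := ha₂
        exact (Commute.refl x).zpow_zpow n m
      have hO : ∀ {i}, i ∈ Subgroup.zpowers x → i ∈ Oc a := fun hi =>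
        Subgroup.zpowers_le.mpr (mem_Au.mp hxA).1 hi
      have hj' := fun z hz => (hI j z hj hz).symm
      have hi' := fun z hz => hI i z hi hz
      have hb1 := (mem_Au.mp hb₁).1
      have hb2 := (mem_Au.mp hb₂).1
      have hai : i ∈ Oc a := Subgroup.zpowers_le.mpr (h.x_mem_Oc cq) hi
      have haj : j ∈ Oc a := Subgroup.zpowers_le.mpr (h.x_mem_Oc cq) hj
      exact Commute.mul_left
        (Commute.mul_left
          (Commute.mul_right (Commute.mul_right (hi' j haj) (hi' a₂ (hO ha₂))) (hi' b₂ hb2))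
          (Commute.mul_right (Commute.mul_right (hj' a₁ (hO ha₁)) hXX) (hX a₁ b₂ ha₁ hb₂)))
        (Commute.mul_right (Commute.mul_right (hj' b₁ hb1) (hX a₂ b₁ ha₂ hb₁).symm)
          (h.Au_comm cq.third hb₁ hb₂))
    have := habel _ _ ((hg a).mp (mem_Au.mp ha).1) ((hg b).mp (mem_Au.mp hb).1)
    have h' := this.eq
    rw [conj_mul, conj_mul, mul_left_inj, mul_right_inj] at h'
    exact h'
  -- the two transvections
  set d := b' * x * b'⁻¹ * x⁻¹ with hd
  have hdA : d ∈ Subgroup.zpowers a := h.commutator_mem cq (mem_Au.mp hb').1 (mem_Au.mp hxA).1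
    (h.Au_inverted cq.third hb') (h.Au_inverted cq hxA)
  have hd1 : d ≠ 1 := fun e => hb'x (by
    rw [hd, mul_inv_eq_one] at e
    exact mul_inv_eq_iff_eq_mul.mp e)
  have hb'xd : b' * x * b'⁻¹ = d * x := by rw [hd]; group
  have hdAu : d ∈ Au x u := Subgroup.zpowers_le.mpr ha hdA
  set d' := b * d * b⁻¹ * d⁻¹ with hd'
  have hd'X : d' ∈ Subgroup.zpowers x := h.commutator_mem c (mem_Au.mp hb).1 (mem_Au.mp hdAu).1
    (h.Au_inverted c.third hb) (h.Au_inverted c hdAu)
  have hd'1 : d' ≠ 1 := fun e => hne (by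
    rw [hd', mul_inv_eq_one, mul_inv_eq_iff_eq_mul] at e
    exact (commute_of_mem_zpowers (show a ∈ Subgroup.zpowers d by
      have hm := mem_zpowers_of_prime_card (G := Subgroup.zpowers a) (by rw [Nat.card_zpowers, hoa])
        (g := ⟨d, hdA⟩) (g' := ⟨a, Subgroup.mem_zpowers a⟩) (fun e' => hd1 (congrArg Subtype.val e'))
      obtain ⟨i, hi⟩ := hm
      exact ⟨i, by simpa using congrArg Subtype.val hi⟩) e).symm)
  have hbd : b * d * b⁻¹ = d' * d := by rw [hd']; group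
  have hd'b : Commute b d' := by
    obtain ⟨n, hn⟩ := hd'X
    rw [← hn]; exact ((h.Au_commute c.third hb).zpow_left n).symm
  obtain ⟨n, hn⟩ : ∃ n : ℕ, d' ^ n = x⁻¹ := by
    have hm := mem_zpowers_of_prime_card (G := Subgroup.zpowers x) (by rw [Nat.card_zpowers, c.ord])
      (g := ⟨d', hd'X⟩) (g' := ⟨x⁻¹, inv_mem (Subgroup.mem_zpowers x)⟩) (fun e' => hd'1 (congrArg Subtype.val e'))
    obtain ⟨n, hn⟩ := mem_powers_iff_mem_zpowers.mpr hm
    exact ⟨n, by simpa using congrArg Subtype.val hn⟩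
  have hpow : ∀ m : ℕ, b ^ m * d * (b ^ m)⁻¹ = d' ^ m * d := by
    intro m
    induction m with
    | zero => simp
    | succ m ih =>
      calc b ^ (m + 1) * d * (b ^ (m + 1))⁻¹ = b * (b ^ m * d * (b ^ m)⁻¹) * b⁻¹ := by rw [pow_succ']; group
        _ = (b * d' ^ m) * d * b⁻¹ := by rw [ih]; group
        _ = d' ^ m * (b * d * b⁻¹) := by rw [(hd'b.pow_right m).eq]; group
        _ = d' ^ (m + 1) * d := by rw [hbd, pow_succ]; group
  have hbx : b ^ n * x * (b ^ n)⁻¹ = x := by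
    rw [((h.Au_commute c.third hb).symm.pow_left n).eq, mul_inv_cancel_right]
  refine h.claim c ha cq (g := b ^ n * b') ?_ ?_
  · have : b ^ n * b' * x * (b ^ n * b')⁻¹ = d := by
      calc b ^ n * b' * x * (b ^ n * b')⁻¹ = b ^ n * (b' * x * b'⁻¹) * (b ^ n)⁻¹ := by group
        _ = (b ^ n * d * (b ^ n)⁻¹) * (b ^ n * x * (b ^ n)⁻¹) := by rw [hb'xd]; group
        _ = d' ^ n * d * x := by rw [hpow, hbx]
        _ = d' ^ n * (x * d) := by rw [mul_assoc, (h.Au_commute c hdAu).eq]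
        _ = d := by rw [hn, inv_mul_cancel_left]
    rwa [this]
  · have hb'a : b' * a * b'⁻¹ = a := by
      rw [((h.Au_commute cq.third hb').symm).eq, mul_inv_cancel_right]
    have hcm : b ^ n * a * (b ^ n)⁻¹ * a⁻¹ ∈ Subgroup.zpowers x :=
      h.commutator_mem c (pow_mem (mem_Au.mp hb).1 n) (mem_Au.mp ha).1
        (h.Au_inverted c.third (pow_mem hb n)) (h.Au_inverted c ha)
    refine ⟨_, a, hcm, Subgroup.mem_zpowers a, ?_⟩
    calc b ^ n * b' * a * (b ^ n * b')⁻¹ = b ^ n * (b' * a * b'⁻¹) * (b ^ n)⁻¹ := by group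
      _ = _ := by rw [hb'a]; group

/-- The odd part of a centraliser is commutative. -/
theorem Hyp.Oc_comm (h : Hyp t φ) (c : Cfg p x s u) {v w : G} (hv : v ∈ Oc x) (hw : w ∈ Oc x) :
    v * w = w * v := by
  obtain ⟨i, a₁, b₁, hi, ha₁, hb₁, rfl⟩ := h.span c hv
  obtain ⟨j, a₂, b₂, hj, ha₂, hb₂, rfl⟩ := h.span c hw
  have hI : ∀ i z, i ∈ Subgroup.zpowers x → z ∈ Oc x → Commute i z := by
    intro i z hi hz
    obtain ⟨n, rfl⟩ := hi
    exact Commute.zpow_left ((h.mem_Oc c).mp hz).1.symm n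
  have hai := fun z hz => hI i z hi hz
  have haj := fun z hz => (hI j z hj hz).symm
  exact (Commute.mul_left
    (Commute.mul_left
      (Commute.mul_right (Commute.mul_right (hai j (Subgroup.zpowers_le.mpr (h.x_mem_Oc c) hj))
        (hai a₂ (mem_Au.mp ha₂).1)) (hai b₂ (mem_Au.mp hb₂).1))
      (Commute.mul_right (Commute.mul_right (haj a₁ (mem_Au.mp ha₁).1) (h.Au_comm c ha₁ ha₂))
        (h.fixed_commute c ha₁ hb₂)))
    (Commute.mul_right (Commute.mul_right (haj b₁ (mem_Au.mp hb₁).1) (h.fixed_commute c ha₂ hb₁).symm)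
      (h.Au_comm c.third hb₁ hb₂))).eq

end CfsgLib.JankoOne
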