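/-
The fixed point group of an inverting involution has order prime to the order of the element.
-/
import Cfsg.Agent.Lib.JankoOne.Claim

set_option autoImplicit false
set_option linter.unusedSectionVars false

namespace CfsgLib.JankoOne

open Subgroup
open CfsgLib.Involutions (orderOf_conj)

variable {G : Type*} [Group G] [Finite G] {t : G} {φ : K →* G}
variable {p : ℕ} {x s u a : G}

theorem pow_zpowers_eq_one {d y : G} {n : ℕ} (hy : y ^ n = 1) (hd : d ∈ Subgroup.zpowers y) : d ^ n = 1 := by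
  obtain ⟨i, rfl⟩ := hd
  show (y ^ i) ^ n = 1
  rw [← zpow_natCast, ← zpow_mul, mul_comm, zpow_mul, zpow_natCast, hy, one_zpow]

theorem three_cases {d y : G} (hy : orderOf y = 3) (hd : d ∈ Subgroup.zpowers y) : d = 1 ∨ d = y ∨ d = y⁻¹ := by
  obtain ⟨i, rfl⟩ := hd
  show y ^ i = 1 ∨ y ^ i = y ∨ y ^ i = y⁻¹
  rw [← zpow_mod_orderOf, hy]
  have h1 := Int.emod_nonneg i (by norm_num : (3 : ℤ) ≠ 0)
  have h2 := Int.emod_lt_of_pos i (by norm_num : (0 : ℤ) < 3)
  norm_num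
  obtain e | e | e : i % 3 = 0 ∨ i % 3 = 1 ∨ i % 3 = 2 := by omega
  · exact Or.inl (by rw [e, zpow_zero])
  · exact Or.inr (Or.inl (by rw [e, zpow_one]))
  · refine Or.inr (Or.inr ?_)
    have h3 : y ^ 3 = 1 := hy ▸ pow_orderOf_eq_one y
    rw [e, show (2 : ℤ) = ((2 : ℕ) : ℤ) from rfl, zpow_natCast]
    exact eq_inv_of_mul_eq_one_left (by rw [← pow_succ, h3])

theorem Hyp.card_two_invs (h : Hyp t φ) (hs : s * s = 1) (hs1 : s ≠ 1) (hu : u * u = 1) (hu1 : u ≠ 1)
    (hne : u ≠ s) (hus : u * s = s * u) : Nat.card {d : G // d * s = s * d ∧ d * u = u * d} = 8 := by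
  obtain ⟨g, hg, hp⟩ := h.pull hs hs1
  obtain ⟨k, rfl⟩ := hp u hus
  rw [conj_mul, conj_eq_one_iff, ← map_mul, ← map_one φ] at hu
  rw [← inv_centralizer_card (h.inj hu) (fun e => hu1 (by rw [e, map_one]; group))
    (fun e => hne (by rw [e, h.image, hg]))]
  refine (Nat.card_congr (Equiv.ofBijective
    (fun l : {l : K // k * l = l * k} => (⟨g * φ l * g⁻¹, ?_, ?_⟩ : {d : G // d * s = s * d ∧
      d * (g * φ k * g⁻¹) = g * φ k * g⁻¹ * d})) ⟨?_, ?_⟩)).symm
  · rw [← hg, conj_mul, conj_mul, h.comm]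
  · rw [conj_mul, conj_mul, ← map_mul, ← map_mul, l.2]
  · intro l l' e
    have e' := congrArg Subtype.val e
    simp only [mul_left_inj, mul_right_inj] at e'
    exact Subtype.ext (h.inj e')
  · rintro ⟨d, hd1, hd2⟩
    obtain ⟨l, rfl⟩ := hp d hd1
    rw [conj_mul, conj_mul, mul_left_inj, mul_right_inj, ← map_mul, ← map_mul] at hd2
    exact ⟨⟨l, (h.inj hd2).symm⟩, rfl⟩

/-- Three commuting involutions cyclically permuted by an element give one of order three. -/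
theorem Hyp.three_cycle (h : Hyp t φ) (c : Cfg p x s u) (E : Subgroup G) {g : G}
    (hg : ∀ v ∈ E, g * v * g⁻¹ ∈ E) (h1 : g * s * g⁻¹ = u) (h2 : g * u * g⁻¹ = s * u) :
    ∃ r j : G, r ^ 3 = 1 ∧ r * s * r⁻¹ = u ∧ r * u * r⁻¹ = s * u ∧ (∀ v ∈ E, r * v * r⁻¹ ∈ E) ∧
      j * j = 1 ∧ j ≠ 1 ∧ r * j = j * r := by
  classical
  obtain ⟨k, m, hm, hn⟩ := Nat.exists_eq_pow_mul_and_not_dvd (orderOf_pos g).ne' 3 (by norm_num)
  have h3 : g * (s * u) * g⁻¹ = s := by
    calc g * (s * u) * g⁻¹ = (g * s * g⁻¹) * (g * u * g⁻¹) := by group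
      _ = s := by rw [h1, h2, ← mul_assoc, c.su, mul_assoc, c.u2, mul_one]
  have hcube : ∀ y : G, g ^ 3 * y * (g ^ 3)⁻¹ = g * (g * (g * y * g⁻¹) * g⁻¹) * g⁻¹ := fun y => by
    rw [pow_succ, sq]; group
  have hper : ∀ (i : ℕ) (y : G), g ^ 3 * y * (g ^ 3)⁻¹ = y → (g ^ 3) ^ i * y * ((g ^ 3) ^ i)⁻¹ = y := by
    intro i y hy
    induction i with
    | zero => simp
    | succ i ih =>
      calc (g ^ 3) ^ (i + 1) * y * ((g ^ 3) ^ (i + 1))⁻¹
          = (g ^ 3) ^ i * (g ^ 3 * y * (g ^ 3)⁻¹) * ((g ^ 3) ^ i)⁻¹ := by rw [pow_succ]; group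
        _ = y := by rw [hy, ih]
  have hm3 : (m * m) % 3 = 1 := by
    have : m % 3 = 1 ∨ m % 3 = 2 := by omega
    rcases this with e | e <;> simp [Nat.mul_mod, e]
  obtain ⟨i, hi⟩ : ∃ i, m * m = 3 * i + 1 := ⟨m * m / 3, by omega⟩
  set r := g ^ (m * m) with hr
  have hconj : ∀ y : G, g ^ 3 * (g * y * g⁻¹) * (g ^ 3)⁻¹ = g * y * g⁻¹ → r * y * r⁻¹ = g * y * g⁻¹ := by
    intro y hy
    calc r * y * r⁻¹ = (g ^ 3) ^ i * (g * y * g⁻¹) * ((g ^ 3) ^ i)⁻¹ := by
          rw [hr, hi, pow_succ, pow_mul]; group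
      _ = g * y * g⁻¹ := hper i _ hy
  have hrs : r * s * r⁻¹ = u := (hconj s (by rw [h1, hcube, h2, h3, h1])).trans h1
  have hru : r * u * r⁻¹ = s * u := (hconj u (by rw [h2, hcube, h3, h1, h2])).trans h2
  have hrw : r * (s * u) * r⁻¹ = s := by
    calc r * (s * u) * r⁻¹ = (r * s * r⁻¹) * (r * u * r⁻¹) := by group
      _ = s := by rw [hrs, hru, ← mul_assoc, c.su, mul_assoc, c.u2, mul_one]
  have hfix : ∀ y : G, r * (r * (r * y * r⁻¹) * r⁻¹) * r⁻¹ = r ^ 3 * y * (r ^ 3)⁻¹ := fun y => by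
    rw [pow_succ, sq]; group
  have hr3 : r ^ 3 = 1 := by
    have hs' : r ^ 3 * s = s * r ^ 3 := by
      rw [← mul_inv_eq_iff_eq_mul, ← hfix, hrs, hru, hrw]
    have hu' : r ^ 3 * u = u * r ^ 3 := by
      rw [← mul_inv_eq_iff_eq_mul, ← hfix, hru, hrw, hrs]
    refine eq_one_of_coprime_pows (a := 2) (b := 3 ^ k) (by
        rw [sq]; exact h.centralizer_two_invs c.s2 c.s1 c.u2 c.u1 c.ne c.su hs' hu') ?_ (Nat.Coprime.pow_right k (by norm_num))
    rw [← pow_mul, hr, ← pow_mul, show m * m * (3 * 3 ^ k) = (3 ^ k * m) * (3 * m) by ring, ← hn, pow_mul,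
      pow_orderOf_eq_one, one_pow]
  have hrE : ∀ v ∈ E, r * v * r⁻¹ ∈ E := by
    have hgN : g ∈ Subgroup.normalizer (E : Set G) := Subgroup.mem_normalizer_fintype hg
    exact fun v hv => (Subgroup.mem_normalizer_iff.mp (pow_mem hgN (m * m)) v).mp hv
  -- a fixed involution
  let α := {d : G // (d * s = s * d ∧ d * u = u * d) ∧ d ≠ 1}
  haveI : Fintype α := Fintype.ofFinite _
  haveI : Fintype G := Fintype.ofFinite G
  have hcard : Fintype.card α = 7 := by
    have h8 := h.card_two_invs c.s2 c.s1 c.u2 c.u1 c.ne c.su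
    rw [Nat.card_eq_fintype_card, Fintype.card_subtype] at h8
    rw [Fintype.card_subtype, show (Finset.univ.filter fun d : G => (d * s = s * d ∧ d * u = u * d) ∧ d ≠ 1) =
      (Finset.univ.filter fun d : G => d * s = s * d ∧ d * u = u * d).erase 1 by
        ext d; simp [and_comm], Finset.card_erase_of_mem (by simp), h8]
  have hclosed : ∀ d : α, (r * d.1 * r⁻¹ * s = s * (r * d.1 * r⁻¹) ∧ r * d.1 * r⁻¹ * u = u * (r * d.1 * r⁻¹)) ∧
      r * d.1 * r⁻¹ ≠ 1 := by
    rintro ⟨d, ⟨hd1, hd2⟩, hd3⟩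
    refine ⟨⟨?_, ?_⟩, by rw [ne_eq, conj_eq_one_iff]; exact hd3⟩
    · have : d * (s * u) = s * u * d := (Commute.mul_right (show Commute d s from hd1) hd2).eq
      show r * d * r⁻¹ * s = s * (r * d * r⁻¹)
      rw [← hrw, conj_mul, conj_mul, this]
    · show r * d * r⁻¹ * u = u * (r * d * r⁻¹)
      rw [← hrs, conj_mul, conj_mul, hd1]
  let f : α → α := fun d => ⟨r * d.1 * r⁻¹, hclosed d⟩
  have hf : Function.Injective f := fun a b e => Subtype.ext (by
    have e' := congrArg Subtype.val e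
    simpa [f] using e')
  let σ : Equiv.Perm α := Equiv.ofBijective f (Finite.injective_iff_bijective.mp hf)
  have hσ : σ ^ 3 ^ 1 = 1 := by
    ext d
    show (f (f (f d))).1 = d.1
    show r * (r * (r * d.1 * r⁻¹) * r⁻¹) * r⁻¹ = d.1
    rw [hfix, hr3]; simp
  haveI : Fact (Nat.Prime 3) := ⟨by norm_num⟩
  obtain ⟨⟨j, ⟨hjs, hju⟩, hj1⟩, hj⟩ := Equiv.Perm.exists_fixed_point_of_prime (by rw [hcard]; norm_num) hσ
  refine ⟨r, j, hr3, hrs, hru, hrE, h.centralizer_two_invs c.s2 c.s1 c.u2 c.u1 c.ne c.su hjs hju, hj1, ?_⟩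
  exact mul_inv_eq_iff_eq_mul.mp (congrArg Subtype.val hj)

theorem Hyp.order_ne (h : Hyp t φ) (c : Cfg p x s u) (ha : a ∈ Au x u) (ha1 : a ≠ 1) : orderOf a ≠ p := by
  classical
  intro hoa
  haveI : Fact (Nat.Prime p) := ⟨c.prime⟩
  haveI : Fintype G := Fintype.ofFinite G
  obtain ⟨q, ca⟩ := h.Au_cfg c ha ha1
  obtain rfl : q = p := ca.ord.symm.trans hoa
  have hxa := h.Au_commute c ha
  obtain ⟨haO, hau⟩ := mem_Au.mp ha
  obtain ⟨g, hgx, hgx', hg⟩ := h.conj_cfg c ca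
  have hAu := h.Au_eq_zpowers c ha ha1
  have hxp : x ^ q = 1 := c.ord ▸ pow_orderOf_eq_one x
  have hap : a ^ q = 1 := hoa ▸ pow_orderOf_eq_one a
  have hsub : ∀ v ∈ Oc x, v ∈ Oc x → v * a = a * v → v ∈ Oc a := fun v hv _ hva =>
    (h.mem_Oc ca).mpr ⟨hva, ((h.mem_Oc c).mp hv).2⟩
  have htor : ∀ v ∈ Oc x, ∃ i a₁ b, i ∈ Subgroup.zpowers x ∧ a₁ ∈ Subgroup.zpowers a ∧ b ∈ Au x (s * u) ∧
      v = i * a₁ * b ∧ v ^ q = b ^ q := by
    intro v hv
    obtain ⟨i, a₁, b, hi, ha₁, hb, rfl⟩ := h.span c hv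
    rw [hAu] at ha₁
    refine ⟨i, a₁, b, hi, ha₁, hb, rfl, ?_⟩
    have h1 : Commute i a₁ :=
      h.Oc_comm c (Subgroup.zpowers_le.mpr (h.x_mem_Oc c) hi) (Subgroup.zpowers_le.mpr haO ha₁)
    have h2 : Commute (i * a₁) b := h.Oc_comm c
      (mul_mem (Subgroup.zpowers_le.mpr (h.x_mem_Oc c) hi) (Subgroup.zpowers_le.mpr haO ha₁)) (mem_Au.mp hb).1
    rw [h2.mul_pow, h1.mul_pow, pow_zpowers_eq_one hxp hi, pow_zpowers_eq_one hap ha₁, one_mul, one_mul]
  by_cases hB : ∃ b ∈ Au x (s * u), b ≠ 1 ∧ b ^ q = 1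
  · -- three equal primes
    obtain ⟨b, hb, hb1, hbp⟩ := hB
    have hexp : ∀ v ∈ Oc x, v ^ q = 1 := by
      intro v hv
      obtain ⟨i, a₁, b', -, -, hb', -, e⟩ := htor v hv
      rw [e]
      rw [h.Au_eq_zpowers c.third hb hb1] at hb'
      exact pow_zpowers_eq_one hbp hb'
    have hle : Oc x ≤ Oc a := fun v hv => hsub v hv hv (h.Oc_comm c hv haO)
    have heq : Oc x = Oc a := Subgroup.eq_of_le_of_card_ge hle (h.card_Oc_eq c ca).ge
    obtain ⟨g', hg'E, h1, h2, -⟩ := h.align c ca (Oc x)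
      (fun v hv => by rw [← conj_invol c.s2]; exact h.conj_mem_Oc c hv)
      (fun v hv => by rw [← conj_invol c.u2]; exact h.conj_mem_Oc' c hv) haO
      (fun v hv => by rw [heq]; exact (hg v).mp hv) hgx
    rcases h2 with h2 | h2
    · exact h.no_swap c.s2 c.u2 c.ne c.su h1 h2
    obtain ⟨r, j, hr3, hrs, hru, hrE, hj, hj1, hrj⟩ := h.three_cycle c (Oc x) hg'E h1 h2
    set y := r * x * r⁻¹ with hy
    set y' := r * y * r⁻¹ with hy'
    have hyO : y ∈ Oc x := hrE x (h.x_mem_Oc c)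
    have hy'O : y' ∈ Oc x := hrE y hyO
    have hyu : y ∈ Au x u := mem_Au.mpr ⟨hyO, by rw [← hrs, hy, conj_mul, conj_mul, c.xs]⟩
    have hy'w : y' ∈ Au x (s * u) := mem_Au.mpr ⟨hy'O, by
      rw [← hru, hy', conj_mul, conj_mul, (mem_Au.mp hyu).2]⟩
    have hy1 : y ≠ 1 := by rw [hy, ne_eq, conj_eq_one_iff]; exact c.x1
    have hy'1 : y' ≠ 1 := by rw [hy', ne_eq, conj_eq_one_iff]; exact hy1
    have hyc : r * y' * r⁻¹ = x := by
      calc r * y' * r⁻¹ = r ^ 3 * x * (r ^ 3)⁻¹ := by rw [hy', hy, pow_succ, sq]; group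
        _ = x := by rw [hr3]; simp
    set z := x * y * y' with hz
    have hzO : z ∈ Oc x := mul_mem (mul_mem (h.x_mem_Oc c) hyO) hy'O
    have hrz : r * z = z * r := by
      rw [← mul_inv_eq_iff_eq_mul]
      calc r * z * r⁻¹ = (r * x * r⁻¹) * (r * y * r⁻¹) * (r * y' * r⁻¹) := by rw [hz]; group
        _ = y * y' * x := by rw [hyc]
        _ = z := by rw [h.Oc_comm c (mul_mem hyO hy'O) (h.x_mem_Oc c), hz, ← mul_assoc x]
    have hrev : ∀ d e f, d ∈ Oc x → e ∈ Oc x → f ∈ Oc x → (d * e * f)⁻¹ = d⁻¹ * e⁻¹ * f⁻¹ := by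
      intro d e f hd he hf
      rw [mul_inv_rev, mul_inv_rev, h.Oc_comm c (inv_mem he) (inv_mem hd),
        h.Oc_comm c (inv_mem hf) (mul_mem (inv_mem hd) (inv_mem he))]
    have hsz : s * z * s = x * y⁻¹ * y'⁻¹ := by
      rw [hz, invol_mul_conj c.s2, invol_mul_conj c.s2, c.zpow_s (Subgroup.mem_zpowers x), h.Au_inverted c hyu,
        h.Au_inverted c.third hy'w]
    have hz1 : z ≠ 1 := by
      intro e
      apply c.x_not_inv
      have e2 : x * y⁻¹ * y'⁻¹ = 1 := by rw [← hsz, e, mul_one, c.s2]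
      have e3 : y * y' = x⁻¹ := eq_inv_of_mul_eq_one_right (by rw [← mul_assoc, ← hz, e])
      have e4 : y' * y = x := by
        rw [mul_assoc, ← mul_inv_rev, mul_inv_eq_one] at e2
        exact e2.symm
      rw [← e3, h.Oc_comm c hyO hy'O, e4]
    have hrx : r * x ≠ x * r := fun e => by
      have e' : y = x := by rw [hy, e, mul_inv_cancel_right]
      exact c.xu_ne (e' ▸ (mem_Au.mp hyu).2)
    have hr1 : r ≠ 1 := fun e => hrx (by rw [e]; simp)
    have hor : orderOf r = 3 := by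
      haveI : Fact (Nat.Prime 3) := ⟨by norm_num⟩
      exact orderOf_eq_prime hr3 hr1
    obtain ⟨q', v, cr⟩ := h.exists_cfg (by rw [hor]; decide) hr1 hj hj1 hrj
    obtain rfl : q' = 3 := cr.ord.symm.trans hor
    have hzr : z ∈ Oc r := (h.mem_Oc cr).mpr ⟨hrz.symm, ((h.mem_Oc c).mp hzO).2⟩
    rcases c.pr with hp | hp
    · subst hp
      let B : G → Prop := fun d => ∃ e, e * e = 1 ∧ e ≠ 1 ∧ d * e = e * d
      have Bconj : ∀ d g : G, B d → B (g * d * g⁻¹) := by
        rintro d g ⟨e, e1, e2, e3⟩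
        exact ⟨g * e * g⁻¹, by rw [conj_mul, e1, mul_one, mul_inv_cancel], by rw [ne_eq, conj_eq_one_iff]; exact e2,
          by rw [conj_mul, conj_mul, e3]⟩
      have Binv : ∀ d : G, B d → B d⁻¹ := by
        rintro d ⟨e, e1, e2, e3⟩
        exact ⟨e, e1, e2, (Commute.inv_left (show Commute d e from e3)).eq⟩
      have Bback : ∀ d g : G, B (g * d * g⁻¹) → B d := fun d g hd => by
        have := Bconj _ g⁻¹ hd
        rwa [show g⁻¹ * (g * d * g⁻¹) * g⁻¹⁻¹ = d by group] at this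
      have hBz : ¬ B z := by
        rintro ⟨e, e1, e2, e3⟩
        obtain ⟨q'', v', cz⟩ := h.exists_cfg ((h.mem_Oc c).mp hzO).2 hz1 e1 e2 e3
        obtain rfl : q'' = 3 := by
          have h3 : orderOf z ∣ 3 := orderOf_dvd_of_pow_eq_one (hexp z hzO)
          rw [cz.ord] at h3
          exact ((Nat.prime_dvd_prime_iff_eq cz.prime (by norm_num)).mp h3)
        have hxz : Oc x ≤ Oc z := fun d hd =>
          (h.mem_Oc cz).mpr ⟨h.Oc_comm c hd hzO, ((h.mem_Oc c).mp hd).2⟩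
        have he : Oc x = Oc z := Subgroup.eq_of_le_of_card_ge hxz (h.card_Oc_eq c cz).ge
        have : r ∈ Oc z := (h.mem_Oc cz).mpr ⟨hrz, by rw [hor]; decide⟩
        rw [← he] at this
        exact hrx (((h.mem_Oc c).mp this).1)
      have hox : orderOf y = 3 ∧ orderOf y' = 3 := by
        constructor
        · rw [hy, orderOf_conj, c.ord]
        · rw [hy', orderOf_conj, hy, orderOf_conj, c.ord]
      have hweight : ∀ i a₁ b₁, i ∈ Subgroup.zpowers x → a₁ ∈ Au x u → b₁ ∈ Au x (s * u) → i ≠ 1 → a₁ ≠ 1 →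
          b₁ ≠ 1 → ¬ B (i * a₁ * b₁) := by
        intro i a₁ b₁ hi ha₁ hb₁ hi1 ha1' hb1' hBv
        rw [h.Au_eq_zpowers c hyu hy1] at ha₁
        rw [h.Au_eq_zpowers c.third hy'w hy'1] at hb₁
        have hcomm : ∀ d e, d ∈ Oc x → e ∈ Oc x → d * e = e * d := fun d e hd he => h.Oc_comm c hd he
        have hxO := h.x_mem_Oc c
        have huu : u * z * u = x⁻¹ * y * y'⁻¹ := by
          have hwy : u * y' * u = y'⁻¹ := by
            have h1 := h.Au_inverted c.third hy'w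
            have h2 := (commute_iff_conj c.third.u2 y').mp (mem_Au.mp hy'w).2
            calc u * y' * u = u * (s * (s * y' * s) * s) * u := by rw [conj_conj_invol c.s2]
              _ = (u * s) * (y'⁻¹) * (s * u) := by rw [h1]; group
              _ = (s * u * y' * (s * u))⁻¹ := by
                rw [invol_conj_inv c.third.u2 y' |>.symm, c.su]
              _ = _ := by rw [h2]
          rw [hz, invol_mul_conj c.u2, invol_mul_conj c.u2, c.xu, (commute_iff_conj c.u2 y).mp (mem_Au.mp hyu).2,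
            hwy]
        have hww : u * (s * z * s) * u = x⁻¹ * y⁻¹ * y' := by
          rw [hsz]
          have h1 : u * (x * y * y') * u = x⁻¹ * y * y'⁻¹ := hz ▸ huu
          rw [invol_mul_conj c.u2, invol_mul_conj c.u2, c.xu] at h1 ⊢
          rw [(commute_iff_conj c.u2 y).mp (mem_Au.mp hyu).2] at h1
          rw [invol_conj_inv c.u2, invol_conj_inv c.u2, (commute_iff_conj c.u2 y).mp (mem_Au.mp hyu).2,
            mul_left_cancel h1, inv_inv]
        have n1 : ¬ B (s * z * s) := fun hd => hBz (Bback z s (by rwa [← conj_invol c.s2]))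
        have n2 : ¬ B (u * z * u) := fun hd => hBz (Bback z u (by rwa [← conj_invol c.u2]))
        have n3 : ¬ B (u * (s * z * s) * u) := fun hd => n1 (Bback _ u (by rwa [← conj_invol c.u2]))
        rw [hsz] at n1
        rw [huu] at n2
        rw [hww] at n3
        have i0 : ∀ {v}, ¬ B v → ¬ B v⁻¹ := fun hv hd => hv (by simpa using Binv _ hd)
        have m0 := i0 hBz
        have m1 := i0 n1
        have m2 := i0 n2
        have m3 := i0 n3
        rw [hz, hrev _ _ _ hxO hyO hy'O] at m0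
        rw [hrev _ _ _ hxO (inv_mem hyO) (inv_mem hy'O), inv_inv, inv_inv] at m1
        rw [hrev _ _ _ (inv_mem hxO) hyO (inv_mem hy'O), inv_inv, inv_inv] at m2
        rw [hrev _ _ _ (inv_mem hxO) (inv_mem hyO) hy'O, inv_inv, inv_inv] at m3
        rw [hz] at hBz
        rcases three_cases c.ord hi with rfl | rfl | rfl
        · exact hi1 rfl
        all_goals
          rcases three_cases hox.1 ha₁ with rfl | rfl | rfl
          · exact ha1' rfl
          all_goals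
            rcases three_cases hox.2 hb₁ with rfl | rfl | rfl
            · exact hb1' rfl
            all_goals contradiction
      obtain ⟨g₀, hg₀, -, hg₀O⟩ := h.conj_cfg cr c
      obtain ⟨g₁, hg₁x, hg₁O⟩ : ∃ g₁ : G, g₁ * r * g₁⁻¹ = x ∧ g₁ * z * g₁⁻¹ ∈ Oc x := by
        rcases three_cases c.ord hg₀ with e | e | e
        · exact absurd (conj_eq_one_iff.mp e) hr1
        · exact ⟨g₀, e, (hg₀O z).mp hzr⟩
        · refine ⟨u * g₀, ?_, ?_⟩
          · calc u * g₀ * r * (u * g₀)⁻¹ = u * (g₀ * r * g₀⁻¹) * u⁻¹ := by group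
              _ = x := by rw [e, ← conj_invol c.u2, invol_conj_inv c.u2, c.xu, inv_inv]
          · have := h.conj_mem_Oc' c ((hg₀O z).mp hzr)
            rw [conj_invol c.u2] at this
            rwa [show u * g₀ * z * (u * g₀)⁻¹ = u * (g₀ * z * g₀⁻¹) * u⁻¹ by group]
      set z' := g₁ * z * g₁⁻¹ with hz'
      have hnB : ¬ B z' := fun hd => hBz (Bback z g₁ hd)
      have hBr : B r := ⟨j, hj, hj1, hrj⟩
      have hsq : ∀ d ∈ Oc x, d * d = d⁻¹ := fun d hd =>
        eq_inv_of_mul_eq_one_left (by have := hexp d hd; rwa [pow_succ, sq] at this)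
      have hB1 : B (x * z') := by
        have e : (x * y⁻¹) * r * (x * y⁻¹)⁻¹ = z * r := by
          calc (x * y⁻¹) * r * (x * y⁻¹)⁻¹ = x * y⁻¹ * (r * y * r⁻¹) * (r * x * r⁻¹)⁻¹ * r := by group
            _ = x * (y⁻¹ * y' * y⁻¹) * r := by rw [← hy', ← hy]; group
            _ = z * r := by
              rw [mul_assoc y⁻¹, h.Oc_comm c hy'O (inv_mem hyO), ← mul_assoc y⁻¹, hsq _ (inv_mem hyO), inv_inv,
                ← mul_assoc x, hz]
        have h1 := Bconj _ g₁ (e ▸ Bconj r (x * y⁻¹) hBr)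
        rwa [show g₁ * (z * r) * g₁⁻¹ = z' * x by rw [← hg₁x, hz', conj_mul], h.Oc_comm c hg₁O (h.x_mem_Oc c)] at h1
      have hB2 : B (x * z'⁻¹) := by
        have e : (x * y⁻¹)⁻¹ * r * (x * y⁻¹) = z⁻¹ * r := by
          calc (x * y⁻¹)⁻¹ * r * (x * y⁻¹) = y * x⁻¹ * ((r * x * r⁻¹) * (r * y * r⁻¹)⁻¹) * r := by group
            _ = (y * x⁻¹ * (y * y'⁻¹)) * r := by rw [← hy', ← hy]
            _ = z⁻¹ * r := by
              congr 1
              have hxO := h.x_mem_Oc c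
              rw [hz, hrev _ _ _ hxO hyO hy'O, h.Oc_comm c hyO (inv_mem hxO), mul_assoc, ← mul_assoc y,
                hsq _ hyO, ← mul_assoc]
        have h1 := Bconj r (x * y⁻¹)⁻¹ hBr
        rw [inv_inv, e] at h1
        have h2 := Bconj _ g₁ h1
        rwa [show g₁ * (z⁻¹ * r) * g₁⁻¹ = z'⁻¹ * x by rw [← hg₁x, hz', conj_inv, conj_mul],
          h.Oc_comm c (inv_mem hg₁O) (h.x_mem_Oc c)] at h2
      obtain ⟨i, a₁, b₁, hi, ha₁, hb₁, e⟩ := h.span c hg₁O
      rcases three_cases c.ord hi with e0 | e0 | e0 <;> rw [e0] at e hi <;> clear e0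
      · rw [one_mul] at e
        by_cases ha0 : a₁ = 1
        · exact hnB ⟨s * u, c.third.u2, c.third.u1, by rw [e, ha0, one_mul]; exact (mem_Au.mp hb₁).2⟩
        by_cases hb0 : b₁ = 1
        · exact hnB ⟨u, c.u2, c.u1, by rw [e, hb0, mul_one]; exact (mem_Au.mp ha₁).2⟩
        exact hweight x a₁ b₁ (Subgroup.mem_zpowers x) ha₁ hb₁ c.x1 ha0 hb0 (by rwa [mul_assoc, ← e])
      all_goals
        have hxO := h.x_mem_Oc c
        have ha' := (mem_Au.mp ha₁).1
        have hb' := (mem_Au.mp hb₁).1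
        have hflip : ∀ d, d ∈ Subgroup.zpowers x → s * (d * a₁ * b₁) * s = d * a₁⁻¹ * b₁⁻¹ := fun d hd => by
          rw [invol_mul_conj c.s2, invol_mul_conj c.s2, c.zpow_s hd, h.Au_inverted c ha₁,
            h.Au_inverted c.third hb₁]
        have hflipB : ∀ v : G, ¬ B v → ¬ B (s * v * s) := fun v hv hd => hv (Bback v s (by rwa [← conj_invol c.s2]))
      · -- the component is `x`
        refine hflipB _ hnB ?_
        have h1 := Binv _ hB1
        rw [e] at h1 ⊢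
        rw [hflip _ hi]
        convert h1 using 1
        rw [← mul_assoc, ← mul_assoc, hsq x hxO, mul_inv_rev, mul_inv_rev, inv_inv,
          h.Oc_comm c (inv_mem ha') hxO, h.Oc_comm c (inv_mem hb') (mul_mem hxO (inv_mem ha'))]
      · -- the component is `x⁻¹`
        refine hflipB _ hnB ?_
        rw [e] at hB2 ⊢
        rw [hflip _ hi]
        convert hB2 using 1
        rw [mul_inv_rev, mul_inv_rev, inv_inv, h.Oc_comm c (inv_mem ha') hxO,
          h.Oc_comm c (inv_mem hb') (mul_mem hxO (inv_mem ha')), ← mul_assoc, ← mul_assoc, hsq x hxO]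
    · subst hp
      obtain ⟨i, a₁, b₁, hi, ha₁, hb₁, e⟩ := h.span cr hzr
      have hcomm : ∀ d e, d ∈ Oc r → e ∈ Oc r → Commute d e := fun d e hd he => h.Oc_comm cr hd he
      have hiO := Subgroup.zpowers_le.mpr (h.x_mem_Oc cr) hi
      have hi3 := pow_zpowers_eq_one hr3 hi
      have hz5 : (i * a₁ * b₁) ^ 5 = 1 := e ▸ hexp z hzO
      have hkey : ∀ {d} {v'}, Cfg 3 r j v' → d ∈ Au r v' → d ^ 5 = 1 → d = 1 := by
        intro d v' cr' hd hd5
        by_contra hd1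
        obtain ⟨q'', cd⟩ := h.Au_cfg cr' hd hd1
        obtain rfl : q'' = 5 := by
          have h5 : orderOf d ∣ 5 := orderOf_dvd_of_pow_eq_one hd5
          rw [cd.ord] at h5
          exact ((Nat.prime_dvd_prime_iff_eq cd.prime (by norm_num)).mp h5)
        obtain ⟨g₀, -, -, hg₀⟩ := h.conj_cfg cd c
        have hrd : r ∈ Oc d := (h.mem_Oc cd).mpr ⟨(h.Au_commute cr' hd).eq, by rw [hor]; decide⟩
        have h5 := hexp _ ((hg₀ r).mp hrd)
        rw [conj_pow, conj_eq_one_iff] at h5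
        exact hr1 (eq_one_of_coprime_pows hr3 h5 (by norm_num))
      have hab := hcomm a₁ b₁ (mem_Au.mp ha₁).1 (mem_Au.mp hb₁).1
      rw [mul_assoc, (hcomm i (a₁ * b₁) hiO (mul_mem (mem_Au.mp ha₁).1 (mem_Au.mp hb₁).1)).mul_pow,
        hab.mul_pow] at hz5
      -- compare with the images under the involutions
      have h1 : i ^ 5 * ((a₁⁻¹) ^ 5 * (b₁⁻¹) ^ 5) = 1 := by
        have := congrArg (fun d => j * d * j) hz5
        simp only [invol_mul_conj cr.s2, mul_one, cr.s2] at this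
        rwa [cr.zpow_s (pow_mem hi 5), show j * a₁ ^ 5 * j = (a₁⁻¹) ^ 5 by
            rw [h.Au_inverted cr (pow_mem ha₁ 5), inv_pow],
          show j * b₁ ^ 5 * j = (b₁⁻¹) ^ 5 by rw [h.Au_inverted cr.third (pow_mem hb₁ 5), inv_pow]] at this
      have hi5 : i ^ 5 = 1 := by
        have hsqi : i ^ 5 * i ^ 5 = 1 := by
          have hcc := hcomm _ _ (mul_mem (pow_mem (mem_Au.mp ha₁).1 5) (pow_mem (mem_Au.mp hb₁).1 5)) (pow_mem hiO 5)
          calc i ^ 5 * i ^ 5 = (i ^ 5 * (a₁ ^ 5 * b₁ ^ 5)) * (i ^ 5 * ((a₁⁻¹) ^ 5 * (b₁⁻¹) ^ 5)) := by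
                rw [← mul_assoc (i ^ 5 * _) (i ^ 5), mul_assoc (i ^ 5), hcc.eq, ← mul_assoc (i ^ 5) (i ^ 5),
                  inv_pow, inv_pow, mul_assoc, ← mul_inv_rev,
                  (hcomm _ _ (pow_mem (mem_Au.mp hb₁).1 5) (pow_mem (mem_Au.mp ha₁).1 5)).eq, mul_inv_cancel,
                  mul_one]
            _ = 1 := by rw [hz5, h1, one_mul]
        exact eq_one_of_sq_eq_one (((h.mem_Oc cr).mp (pow_mem hiO 5)).2) hsqi
      rw [hi5, one_mul] at hz5
      have h2 : a₁ ^ 5 = (b₁ ^ 5)⁻¹ := eq_inv_of_mul_eq_one_left hz5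
      have ha5 : a₁ ^ 5 = 1 := by
        refine eq_one_of_inv_eq ((((h.mem_Oc cr).mp (pow_mem (mem_Au.mp ha₁).1 5))).2) ?_
        have hu1 := (commute_iff_conj cr.u2 _).mp (mem_Au.mp (pow_mem ha₁ 5)).2
        have hu2 : v * (b₁ ^ 5)⁻¹ * v = b₁ ^ 5 := by
          have hb5 := pow_mem hb₁ 5
          have h1 := h.Au_inverted cr.third hb5
          have h2 := (commute_iff_conj cr.third.u2 _).mp (mem_Au.mp hb5).2
          calc v * (b₁ ^ 5)⁻¹ * v = v * (j * b₁ ^ 5 * j) * v := by rw [h1]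
            _ = (v * j) * b₁ ^ 5 * (j * v) := by group
            _ = _ := by rw [cr.su, h2]
        rw [h2] at hu1 ⊢
        rw [inv_inv]
        exact hu2.symm.trans hu1
      have hb5 : b₁ ^ 5 = 1 := by rw [ha5, one_mul] at hz5; exact hz5
      have ha0 := hkey cr ha₁ ha5
      have hb0 := hkey cr.third hb₁ hb5
      have hi0 : i = 1 := eq_one_of_coprime_pows hi3 hi5 (by norm_num)
      exact hz1 (by rw [e, ha0, hb0, hi0]; simp)
  · -- two equal primes
    push Not at hB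
    set E := pairSub x a hxa with hE
    have hEle : E ≤ Oc x := pairSub_le (h.x_mem_Oc c) haO
    have hEa : E ≤ Oc a := fun v hv => hsub v (hEle hv) (hEle hv) (h.Oc_comm c (hEle hv) haO)
    let S : G → Finset G := fun y => Finset.univ.filter fun v => v ∈ Oc y ∧ v ^ q = 1
    have hSx : ∀ v, v ∈ S x ↔ v ∈ E := by
      intro v
      simp only [S, Finset.mem_filter, Finset.mem_univ, true_and]
      constructor
      · rintro ⟨hv, hvp⟩
        obtain ⟨i, a₁, b, hi, ha₁, hb, rfl, e⟩ := htor v hv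
        rw [hvp] at e
        have hb0 : b = 1 := by_contra fun hb0 => hB b hb hb0 e.symm
        exact ⟨i, a₁, hi, ha₁, by rw [hb0, mul_one]⟩
      · rintro ⟨i, b, hi, hb, rfl⟩
        refine ⟨mul_mem (Subgroup.zpowers_le.mpr (h.x_mem_Oc c) hi) (Subgroup.zpowers_le.mpr haO hb), ?_⟩
        have hib : Commute i b := h.Oc_comm c (Subgroup.zpowers_le.mpr (h.x_mem_Oc c) hi)
          (Subgroup.zpowers_le.mpr haO hb)
        rw [hib.mul_pow, pow_zpowers_eq_one hxp hi, pow_zpowers_eq_one hap hb, one_mul]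
    have himg : (S x).image (fun v => g * v * g⁻¹) = S a := by
      ext v
      simp only [S, Finset.mem_image, Finset.mem_filter, Finset.mem_univ, true_and]
      constructor
      · rintro ⟨v, ⟨hv, hvp⟩, rfl⟩
        exact ⟨(hg v).mp hv, by rw [conj_pow, hvp, mul_one, mul_inv_cancel]⟩
      · rintro ⟨hv, hvp⟩
        have e : g * (g⁻¹ * v * g) * g⁻¹ = v := by group
        refine ⟨g⁻¹ * v * g, ⟨(hg _).mpr (by rwa [e]), ?_⟩, e⟩
        rwa [← e, conj_pow, conj_eq_one_iff] at hvp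
    have hsub' : S x ⊆ S a := fun v hv => by
      have hvE := (hSx v).mp hv
      simp only [S, Finset.mem_filter, Finset.mem_univ, true_and] at hv ⊢
      exact ⟨hEa hvE, hv.2⟩
    have heq : S x = S a := by
      refine Finset.eq_of_subset_of_card_le hsub' ?_
      rw [← himg]
      exact Finset.card_image_le
    have hgE : ∀ v ∈ E, g * v * g⁻¹ ∈ E := fun v hv => by
      refine (hSx _).mp ?_
      rw [heq, ← himg]
      exact Finset.mem_image_of_mem _ ((hSx v).mpr hv)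
    exact h.claim c ha ca hgx (hgE a ⟨1, a, one_mem _, Subgroup.mem_zpowers a, (one_mul a).symm⟩)

end CfsgLib.JankoOne
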