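/-
The odd part of the centraliser of an element of prime order is cyclic of order the prime or fifteen.
-/
import Cfsg.Agent.Lib.JankoOne.Exclude

set_option autoImplicit false
set_option linter.unusedSectionVars false

namespace CfsgLib.JankoOne

open Subgroup
open CfsgLib.Involutions (orderOf_conj)

variable {G : Type*} [Group G] [Finite G] {t : G} {φ : K →* G}
variable {p : ℕ} {x s u a : G}

theorem Hyp.Au_prime (h : Hyp t φ) (c : Cfg p x s u) (ha : a ∈ Au x u) (ha1 : a ≠ 1) :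
    orderOf a * p = 15 ∧ Cfg (orderOf a) a u s := by
  obtain ⟨q, ca⟩ := h.Au_cfg c ha ha1
  have hne := h.order_ne c ha ha1
  rw [ca.ord] at hne ⊢
  refine ⟨?_, ca⟩
  rcases c.pr with rfl | rfl <;> rcases ca.pr with rfl | rfl <;> omega

theorem Hyp.not_both (h : Hyp t φ) (c : Cfg p x s u) {b : G} (ha : a ∈ Au x u) (ha1 : a ≠ 1)
    (hb : b ∈ Au x (s * u)) (hb1 : b ≠ 1) : False := by
  obtain ⟨hoa, ca⟩ := h.Au_prime c ha ha1
  obtain ⟨hob, -⟩ := h.Au_prime c.third hb hb1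
  have hmem : b ∈ Au a (u * s) :=
    mem_Au.mpr ⟨(h.mem_Oc ca).mpr ⟨(h.Oc_comm c (mem_Au.mp hb).1 (mem_Au.mp ha).1),
      ((h.mem_Oc c).mp (mem_Au.mp hb).1).2⟩, by rw [c.su]; exact (mem_Au.mp hb).2⟩
  exact h.order_ne ca.third hmem hb1 (Nat.eq_of_mul_eq_mul_right (by rcases c.pr with rfl | rfl <;> norm_num)
    (hob.trans hoa.symm))

/-- One of the inverting involutions centralises no other element. -/
theorem Hyp.normal_form (h : Hyp t φ) (c : Cfg p x s u) :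
    ∃ u', Cfg p x s u' ∧ ∀ d ∈ Oc x, ∃ i b, i ∈ Subgroup.zpowers x ∧ b ∈ Au x u' ∧ d = i * b := by
  by_cases hA : ∃ b ∈ Au x (s * u), b ≠ 1
  · obtain ⟨b, hb, hb1⟩ := hA
    refine ⟨s * u, c.third, fun d hd => ?_⟩
    obtain ⟨i, a₁, b₁, hi, ha₁, hb₁, rfl⟩ := h.span c hd
    by_cases ha0 : a₁ = 1
    · exact ⟨i, b₁, hi, hb₁, by rw [ha0, mul_one]⟩
    · exact (h.not_both c ha₁ ha0 hb hb1).elim
  · push Not at hA
    refine ⟨u, c, fun d hd => ?_⟩
    obtain ⟨i, a₁, b₁, hi, ha₁, hb₁, rfl⟩ := h.span c hd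
    exact ⟨i, a₁, hi, ha₁, by rw [hA b₁ hb₁, mul_one]⟩

/-- An element of order fifteen arises from two commuting elements of prime order. -/
theorem Hyp.orderOf_mul (h : Hyp t φ) (c : Cfg p x s u) {i : G} (hi : i ∈ Subgroup.zpowers x) (hi1 : i ≠ 1)
    (ha : a ∈ Au x u) (ha1 : a ≠ 1) : orderOf (i * a) = 15 := by
  haveI : Fact (Nat.Prime p) := ⟨c.prime⟩
  obtain ⟨hoa, ca⟩ := h.Au_prime c ha ha1
  have hoi : orderOf i = p := orderOf_eq_prime (pow_zpowers_eq_one (c.ord ▸ pow_orderOf_eq_one x) hi) hi1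
  have hcm : Commute i a := by
    obtain ⟨n, rfl⟩ := hi
    exact (h.Au_commute c ha).zpow_left n
  have hne := h.order_ne c ha ha1
  rw [hcm.orderOf_mul_eq_mul_orderOf_of_coprime (by
    rw [hoi]; exact (Nat.coprime_primes c.prime ca.prime).mpr (Ne.symm hne)), hoi, mul_comm, hoa]

/-- An element of prime power order in the odd part is a power of the element. -/
theorem Hyp.pElement_mem (h : Hyp t φ) (c : Cfg p x s u) {d : G} (hd : d ∈ Oc x) {n : ℕ}
    (hn : d ^ p ^ n = 1) : d ∈ Subgroup.zpowers x := by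
  obtain ⟨u', c', hu'⟩ := h.normal_form c
  obtain ⟨i, b, hi, hb, rfl⟩ := hu' d hd
  by_cases hb1 : b = 1
  · rw [hb1, mul_one]; exact hi
  exfalso
  obtain ⟨hob, cb⟩ := h.Au_prime c' hb hb1
  have hdvd : orderOf b ∣ p ^ n := by
    by_cases hi1 : i = 1
    · rw [hi1, one_mul] at hn; exact orderOf_dvd_of_pow_eq_one hn
    · have := orderOf_dvd_of_pow_eq_one hn
      rw [h.orderOf_mul c' hi hi1 hb hb1, ← hob] at this
      exact (dvd_mul_right _ _).trans this
  exact h.order_ne c' hb hb1 ((Nat.prime_dvd_prime_iff_eq cb.prime c.prime).mp (cb.prime.dvd_of_dvd_pow hdvd))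

theorem Hyp.sylow_prime (h : Hyp t φ) (c : Cfg p x s u) [Fact p.Prime] (P : Sylow p G) :
    Nat.card (P : Subgroup G) = p := by
  have hpz : IsPGroup p (Subgroup.zpowers x) :=
    IsPGroup.of_card (n := 1) (by rw [Nat.card_zpowers, c.ord, pow_one])
  obtain ⟨Q, hQ⟩ := hpz.exists_le_sylow
  rw [P.card_eq_multiplicity, ← Q.card_eq_multiplicity]
  have hxQ : x ∈ (Q : Subgroup G) := hQ (Subgroup.mem_zpowers x)
  haveI : Nontrivial (Q : Subgroup G) :=
    ⟨⟨x, hxQ⟩, 1, fun e => c.x1 (congrArg Subtype.val e)⟩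
  haveI := Q.2.center_nontrivial
  obtain ⟨⟨⟨z, hzQ⟩, hzc⟩, hz1⟩ := exists_ne (1 : Subgroup.center (Q : Subgroup G))
  have hz : z ≠ 1 := fun e => hz1 (Subtype.ext (Subtype.ext e))
  have hzcomm : ∀ q ∈ (Q : Subgroup G), q * z = z * q := fun q hq =>
    congrArg Subtype.val (Subgroup.mem_center_iff.mp hzc ⟨q, hq⟩)
  have hodd : ∀ q ∈ (Q : Subgroup G), Odd (orderOf q) ∧ ∃ n, q ^ p ^ n = 1 := by
    intro q hq
    obtain ⟨n, hn⟩ := Q.2 ⟨q, hq⟩
    have hn' : q ^ p ^ n = 1 := congrArg Subtype.val hn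
    exact ⟨Odd.of_dvd_nat ((show Odd p by rcases c.pr with rfl | rfl <;> decide).pow)
      (orderOf_dvd_of_pow_eq_one hn'), n, hn'⟩
  obtain ⟨hzo, n, hn⟩ := hodd z hzQ
  have hzx : z ∈ Subgroup.zpowers x := h.pElement_mem c ((h.mem_Oc c).mpr ⟨(hzcomm x hxQ).symm, hzo⟩) hn
  have hxz : x ∈ Subgroup.zpowers z := by
    obtain ⟨i, hi⟩ := mem_zpowers_of_prime_card (G := Subgroup.zpowers x) (by rw [Nat.card_zpowers, c.ord])
      (g := ⟨z, hzx⟩) (g' := ⟨x, Subgroup.mem_zpowers x⟩) (fun e => hz (congrArg Subtype.val e))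
    exact ⟨i, by simpa using congrArg Subtype.val hi⟩
  have hle : (Q : Subgroup G) ≤ Subgroup.zpowers x := by
    intro q hq
    obtain ⟨hqo, m, hm⟩ := hodd q hq
    exact h.pElement_mem c ((h.mem_Oc c).mpr ⟨commute_of_mem_zpowers hxz (hzcomm q hq), hqo⟩) hm
  rw [le_antisymm hle (Subgroup.zpowers_le.mpr hxQ), Nat.card_zpowers, c.ord]

theorem Hyp.conj_into (h : Hyp t φ) (c : Cfg p x s u) {y : G} (hy : orderOf y = p) :
    ∃ g : G, g * y * g⁻¹ ∈ Subgroup.zpowers x := by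
  haveI : Fact (Nat.Prime p) := ⟨c.prime⟩
  have hpz : ∀ z : G, orderOf z = p → IsPGroup p (Subgroup.zpowers z) := fun z hz =>
    IsPGroup.of_card (n := 1) (by rw [Nat.card_zpowers, hz, pow_one])
  obtain ⟨P, hP⟩ := (hpz x c.ord).exists_le_sylow
  obtain ⟨Q, hQ⟩ := (hpz y hy).exists_le_sylow
  have hPe : Subgroup.zpowers x = (P : Subgroup G) :=
    Subgroup.eq_of_le_of_card_ge hP (by rw [Nat.card_zpowers, c.ord, h.sylow_prime c P])
  obtain ⟨g, hg⟩ := MulAction.exists_smul_eq G Q P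
  refine ⟨g, ?_⟩
  rw [hPe, ← hg, Sylow.coe_subgroup_smul]
  exact Subgroup.mem_map.mpr ⟨y, hQ (Subgroup.mem_zpowers y), by simp⟩

/-- Every element of the same prime order has a configuration. -/
theorem Hyp.cfg_of_order (h : Hyp t φ) (c : Cfg p x s u) {y : G} (hy : orderOf y = p) :
    ∃ s' u', Cfg p y s' u' := by
  obtain ⟨g, hg⟩ := h.conj_into c hy
  have c' : Cfg p (g * y * g⁻¹) s u :=
    { c with
      ord := by rw [orderOf_conj, hy]
      xs := (commute_iff_conj c.s2 _).mpr (c.zpow_s hg)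
      xu := c.zpow_u hg }
  have := c'.conj g⁻¹
  rw [show g⁻¹ * (g * y * g⁻¹) * g⁻¹⁻¹ = y by group] at this
  exact ⟨_, _, this⟩

theorem Hyp.exists_base_cfg (h : Hyp t φ) : (∃ u, Cfg 3 (φ c0) t u) ∧ ∃ u, Cfg 5 (φ q0) t u := by
  haveI : Fact (Nat.Prime 3) := ⟨by norm_num⟩
  haveI : Fact (Nat.Prime 5) := ⟨by norm_num⟩
  obtain ⟨h3, h3', h5, h5', -⟩ := gens_props
  have o3 : orderOf (φ c0) = 3 := by rw [orderOf_injective φ h.inj]; exact orderOf_eq_prime h3 h3'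
  have o5 : orderOf (φ q0) = 5 := by rw [orderOf_injective φ h.inj]; exact orderOf_eq_prime h5 h5'
  constructor
  · obtain ⟨p, u, c⟩ := h.exists_cfg (by rw [o3]; decide) (fun e => by simp [e] at o3) h.t_sq h.t_ne (h.comm c0)
    obtain rfl : p = 3 := c.ord.symm.trans o3
    exact ⟨u, c⟩
  · obtain ⟨p, u, c⟩ := h.exists_cfg (by rw [o5]; decide) (fun e => by simp [e] at o5) h.t_sq h.t_ne (h.comm q0)
    obtain rfl : p = 5 := c.ord.symm.trans o5
    exact ⟨u, c⟩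

theorem Hyp.cfg_of_prime (h : Hyp t φ) {y : G} (hp : p = 3 ∨ p = 5) (hy : orderOf y = p) :
    ∃ s' u', Cfg p y s' u' := by
  obtain ⟨⟨u3, c3⟩, ⟨u5, c5⟩⟩ := h.exists_base_cfg
  rcases hp with rfl | rfl
  · exact h.cfg_of_order c3 hy
  · exact h.cfg_of_order c5 hy

theorem Hyp.Oc_fifteen (h : Hyp t φ) (c : Cfg p x s u) :
    ((∃ d : G, orderOf d = 15) → Nat.card (Oc x) = 15) ∧
      ((¬ ∃ d : G, orderOf d = 15) → Oc x = Subgroup.zpowers x) := by
  obtain ⟨u', c', hu'⟩ := h.normal_form c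
  have hcase : (∀ b ∈ Au x u', b = 1) → Oc x = Subgroup.zpowers x := fun hA => by
    refine le_antisymm (fun d hd => ?_) (Subgroup.zpowers_le.mpr (h.x_mem_Oc c))
    obtain ⟨i, b, hi, hb, rfl⟩ := hu' d hd
    rwa [hA b hb, mul_one]
  constructor
  · rintro ⟨d, hd⟩
    have hy : orderOf (d ^ (15 / p)) = p := by
      rw [orderOf_pow, hd]
      rcases c.pr with rfl | rfl <;> norm_num
    obtain ⟨s', v, cy⟩ := h.cfg_of_order c hy
    have hdy : d ∈ Oc (d ^ (15 / p)) :=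
      (h.mem_Oc cy).mpr ⟨(Commute.self_pow d _).eq, by rw [hd]; decide⟩
    have hdvd := (Oc (d ^ (15 / p))).orderOf_dvd_natCard hdy
    rw [hd, ← h.card_Oc_eq c cy] at hdvd
    by_contra hne
    by_cases hA : ∀ b ∈ Au x u', b = 1
    · rw [hcase hA, Nat.card_zpowers, c.ord] at hdvd
      have := Nat.le_of_dvd c.prime.pos hdvd
      rcases c.pr with rfl | rfl <;> omega
    push Not at hA
    obtain ⟨b, hb, hb1⟩ := hA
    refine hne ?_
    have hbeq : Au x u' = Subgroup.zpowers b := h.Au_eq_zpowers c' hb hb1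
    obtain ⟨hob, cb⟩ := h.Au_prime c' hb hb1
    have hxb : orderOf (x * b) = 15 := h.orderOf_mul c' (Subgroup.mem_zpowers x) c.x1 hb hb1
    have hle : Oc x ≤ Subgroup.zpowers (x * b) := by
      have hcm : Commute x b := h.Au_commute c' hb
      have hgen : x ∈ Subgroup.zpowers (x * b) ∧ b ∈ Subgroup.zpowers (x * b) := by
        have hxp : x ^ p = 1 := c.ord ▸ pow_orderOf_eq_one x
        have hbq : b ^ orderOf b = 1 := pow_orderOf_eq_one b
        rcases c.pr with rfl | rfl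
        · have e5 : orderOf b = 5 := by omega
          rw [e5] at hbq
          refine ⟨⟨10, ?_⟩, ⟨6, ?_⟩⟩
          · show (x * b) ^ (10 : ℤ) = x
            rw [show (10 : ℤ) = ((10 : ℕ) : ℤ) from rfl, zpow_natCast, hcm.mul_pow, show (10 : ℕ) = 3 * 3 + 1 from rfl,
              pow_succ x, pow_mul, hxp, one_pow, one_mul, show 3 * 3 + 1 = 5 * 2 from rfl, pow_mul, hbq, one_pow, mul_one]
          · show (x * b) ^ (6 : ℤ) = b
            rw [show (6 : ℤ) = ((6 : ℕ) : ℤ) from rfl, zpow_natCast, hcm.mul_pow, show (6 : ℕ) = 5 + 1 from rfl,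
              pow_succ b, hbq, one_mul, show 5 + 1 = 3 * 2 from rfl, pow_mul, hxp, one_pow, one_mul]
        · have e3 : orderOf b = 3 := by omega
          rw [e3] at hbq
          refine ⟨⟨6, ?_⟩, ⟨10, ?_⟩⟩
          · show (x * b) ^ (6 : ℤ) = x
            rw [show (6 : ℤ) = ((6 : ℕ) : ℤ) from rfl, zpow_natCast, hcm.mul_pow, show (6 : ℕ) = 5 + 1 from rfl,
              pow_succ x, hxp, one_mul, show 5 + 1 = 3 * 2 from rfl, pow_mul, hbq, one_pow, mul_one]
          · show (x * b) ^ (10 : ℤ) = b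
            rw [show (10 : ℤ) = ((10 : ℕ) : ℤ) from rfl, zpow_natCast, hcm.mul_pow, show (10 : ℕ) = 3 * 3 + 1 from rfl,
              pow_succ b, pow_mul b, hbq, one_pow, one_mul, show 3 * 3 + 1 = 5 * 2 from rfl, pow_mul, hxp, one_pow,
              one_mul]
      intro e he
      obtain ⟨i, b', hi, hb', rfl⟩ := hu' e he
      exact mul_mem (Subgroup.zpowers_le.mpr hgen.1 hi) (Subgroup.zpowers_le.mpr hgen.2 (hbeq ▸ hb'))
    have hxbO : x * b ∈ Oc x := mul_mem (h.x_mem_Oc c) (mem_Au.mp hb).1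
    rw [le_antisymm hle (Subgroup.zpowers_le.mpr hxbO), Nat.card_zpowers, hxb]
  · intro hno
    exact hcase fun b hb => by_contra fun hb1 => hno ⟨_, h.orderOf_mul c' (Subgroup.mem_zpowers x) c.x1 hb hb1⟩

end CfsgLib.JankoOne
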