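/-
Inverted elements with centralisers of odd order.
-/
import Cfsg.Agent.Lib.JankoOne.Structure

set_option autoImplicit false
set_option linter.unusedSectionVars false

namespace CfsgLib.JankoOne

open Subgroup
open CfsgLib.Involutions (orderOf_conj)

variable {G : Type*} [Group G] [Finite G] {t : G} {φ : K →* G}
variable {p : ℕ} {x s u : G}

/-- No involution centralises the element. -/
def OddCent (x : G) : Prop := ∀ r : G, r * r = 1 → r ≠ 1 → x * r ≠ r * x

theorem OddCent.odd (hx : OddCent x) : Odd (Nat.card (Subgroup.centralizer ({x} : Set G))) := by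
  rw [← Nat.not_even_iff_odd]
  intro he
  haveI : Fact (Nat.Prime 2) := ⟨Nat.prime_two⟩
  obtain ⟨⟨r, hr⟩, ho⟩ := exists_prime_orderOf_dvd_card' 2 he.two_dvd
  rw [Subgroup.orderOf_mk] at ho
  obtain ⟨h1, h2⟩ := CfsgLib.Involutions.orderOf_eq_two_iff'.mp ho
  exact hx r h1 h2 (mem_centralizer_singleton_iff.mp hr).symm

theorem OddCent.odd_mem (hx : OddCent x) {c : G} (hc : c * x = x * c) : Odd (orderOf c) :=
  odd_orderOf_of_mem hx.odd (mem_centralizer_singleton_iff.mpr hc)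

theorem OddCent.odd_self (hx : OddCent x) : Odd (orderOf x) := hx.odd_mem rfl

/-- A non-trivial element of the odd part has order fifteen or centralises an involution. -/
theorem Hyp.Oc_split (h : Hyp t φ) (c : Cfg p x s u) {d : G} (hd : d ∈ Oc x) (hd15 : orderOf d ≠ 15) :
    ¬ OddCent d := by
  obtain ⟨u', c', hu'⟩ := h.normal_form c
  obtain ⟨i, b, hi, hb, rfl⟩ := hu' d hd
  intro hodd
  by_cases hb1 : b = 1
  · rw [hb1, mul_one] at hodd
    exact hodd s c.s2 c.s1 ((commute_iff_conj c.s2 i).mpr (c.zpow_s hi))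
  by_cases hi1 : i = 1
  · rw [hi1, one_mul] at hodd
    exact hodd u' c'.u2 c'.u1 (mem_Au.mp hb).2
  exact hd15 (h.orderOf_mul c' hi hi1 hb hb1)

theorem Hyp.fixed_free (h : Hyp t φ) (hx1 : x ≠ 1) (hs : s * s = 1) (hs1 : s ≠ 1) (hinv : s * x * s = x⁻¹)
    (hodd : OddCent x) {c : G} (hc : c * x = x * c) : s * c * s = c⁻¹ := by
  have hnorm : ∀ z ∈ Subgroup.centralizer ({x} : Set G), s * z * s⁻¹ ∈ Subgroup.centralizer ({x} : Set G) := by
    intro z hz
    rw [← conj_invol hs, mem_centralizer_singleton_iff]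
    have h3 : z * x⁻¹ = x⁻¹ * z := (Commute.inv_right (show Commute z x from mem_centralizer_singleton_iff.mp hz)).eq
    have h4 := congrArg (fun w => s * w * s) h3
    simp only [invol_mul_conj hs, invol_conj_inv hs, hinv, inv_inv] at h4
    exact h4
  obtain ⟨⟨f, k⟩, ⟨hf, hk, e⟩, -⟩ :=
    CfsgLib.RankOne.Inverted.decomp hodd.odd hnorm hs (mem_centralizer_singleton_iff.mpr hc)
  obtain ⟨hf1, hf2⟩ := Subgroup.mem_inf.mp hf
  rw [mem_centralizer_singleton_iff] at hf1 hf2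
  have hf0 : f = 1 := by
    by_contra hf0
    obtain ⟨q, v, cf⟩ := h.exists_cfg (hodd.odd_mem hf1) hf0 hs hs1 hf2
    have hxO : x ∈ Oc f := (h.mem_Oc cf).mpr ⟨hf1.symm, hodd.odd_self⟩
    obtain ⟨u', c', hu'⟩ := h.normal_form cf
    obtain ⟨i, b, hi, hb, e'⟩ := hu' x hxO
    have hib : i * b = b * i :=
      h.Oc_comm cf (Subgroup.zpowers_le.mpr (h.x_mem_Oc cf) hi) (mem_Au.mp hb).1
    rw [e', invol_mul_conj hs, c'.zpow_s hi, h.Au_inverted c' hb, hib, mul_inv_rev] at hinv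
    have hi' := mul_right_cancel (hinv : i * b⁻¹ = i⁻¹ * b⁻¹)
    have hi0 : i = 1 := eq_one_of_inv_eq
      ((h.mem_Oc cf).mp (Subgroup.zpowers_le.mpr (h.x_mem_Oc cf) hi)).2 hi'.symm
    exact hodd u' c'.u2 c'.u1 (by rw [e', hi0, one_mul]; exact (mem_Au.mp hb).2)
  rw [e, hf0, one_mul, conj_invol hs]
  exact hk.2

theorem Hyp.cent_comm (h : Hyp t φ) (hx1 : x ≠ 1) (hs : s * s = 1) (hs1 : s ≠ 1) (hinv : s * x * s = x⁻¹)
    (hodd : OddCent x) {a b : G} (ha : a * x = x * a) (hb : b * x = x * b) : a * b = b * a := by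
  have h1 := h.fixed_free hx1 hs hs1 hinv hodd (Commute.mul_left (show Commute a x from ha) hb).eq
  rw [invol_mul_conj hs, h.fixed_free hx1 hs hs1 hinv hodd ha, h.fixed_free hx1 hs hs1 hinv hodd hb,
    mul_inv_rev] at h1
  calc a * b = (b⁻¹ * a⁻¹)⁻¹ := by group
    _ = (a⁻¹ * b⁻¹)⁻¹ := by rw [h1]
    _ = b * a := by group

/-- A strongly real element, not of order fifteen, with centraliser of odd order. -/
structure Pure (x : G) : Prop where
  ne : x ≠ 1
  odd : OddCent x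
  ord : orderOf x ≠ 15
  inv : ∃ s : G, s * s = 1 ∧ s ≠ 1 ∧ s * x * s = x⁻¹

theorem Hyp.pure_mem (h : Hyp t φ) (hx : Pure x) {y : G} (hy : y * x = x * y) (hy1 : y ≠ 1) :
    Pure y ∧ Subgroup.centralizer ({y} : Set G) = Subgroup.centralizer ({x} : Set G) := by
  obtain ⟨s, hs, hs1, hinv⟩ := hx.inv
  have key : ∀ {q : ℕ} {d r v : G}, Cfg q d r v → d * x = x * d → False := fun cd hd =>
    h.Oc_split cd ((h.mem_Oc cd).mpr ⟨hd.symm, hx.odd.odd_self⟩) hx.ord hx.odd
  have hyodd : OddCent y := fun r hr hr1 hc => by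
    obtain ⟨q, v, cy⟩ := h.exists_cfg (hx.odd.odd_mem hy) hy1 hr hr1 hc
    exact key cy hy
  have hy15 : orderOf y ≠ 15 := fun e => by
    obtain ⟨r, v, cy⟩ := h.cfg_of_prime (Or.inl rfl) (y := y ^ 5) (by rw [orderOf_pow, e]; norm_num)
    exact key cy ((show Commute y x from hy).pow_left 5).eq
  have hyinv : s * y * s = y⁻¹ := h.fixed_free hx.ne hs hs1 hinv hx.odd hy
  refine ⟨⟨hy1, hyodd, hy15, s, hs, hs1, hyinv⟩, le_antisymm (fun d hd => ?_) (fun d hd => ?_)⟩
  · rw [mem_centralizer_singleton_iff] at hd ⊢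
    exact h.cent_comm hy1 hs hs1 hyinv hyodd hd hy.symm
  · rw [mem_centralizer_singleton_iff] at hd ⊢
    exact h.cent_comm hx.ne hs hs1 hinv hx.odd hd hy

theorem Hyp.pure_conj (hx : Pure x) (g : G) : Pure (g * x * g⁻¹) := by
  obtain ⟨s, hs, hs1, hinv⟩ := hx.inv
  refine ⟨by rw [ne_eq, conj_eq_one_iff]; exact hx.ne, fun r hr hr1 hc => ?_, by rw [orderOf_conj]; exact hx.ord,
    g * s * g⁻¹, by rw [conj_mul, hs, mul_one, mul_inv_cancel], by rw [ne_eq, conj_eq_one_iff]; exact hs1,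
    by rw [conj_mul, conj_mul, hinv, conj_inv]⟩
  refine hx.odd (g⁻¹ * r * g) ?_ ?_ ?_
  · calc g⁻¹ * r * g * (g⁻¹ * r * g) = g⁻¹ * (r * r) * g := by group
      _ = 1 := by rw [hr, mul_one, inv_mul_cancel]
  · intro e
    refine hr1 ?_
    calc r = g * (g⁻¹ * r * g) * g⁻¹ := by group
      _ = 1 := by rw [e, mul_one, mul_inv_cancel]
  · calc x * (g⁻¹ * r * g) = g⁻¹ * (g * x * g⁻¹ * r) * g := by group
      _ = g⁻¹ * (r * (g * x * g⁻¹)) * g := by rw [hc]
      _ = g⁻¹ * r * g * x := by group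

end CfsgLib.JankoOne
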