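/-
The normalisers of the self-centralising subgroups of odd order.
-/
import Cfsg.Agent.Lib.JankoOne.Pure

set_option autoImplicit false
set_option linter.unusedSectionVars false

namespace CfsgLib.JankoOne

open Subgroup
open CfsgLib.Involutions (orderOf_conj)

theorem three_five_invC : ∀ o ∈ kList, powC o 3 = oneC → o ≠ oneC → ∀ p ∈ kList, powC p 5 = oneC → p ≠ oneC →
    ∃ j < 5, invC (mulC o (powC p j)) = true ∧ mulC o (powC p j) ≠ zC := by decide +kernel

theorem three_five_inv {o p : K} (h1 : o ^ 3 = 1) (h2 : o ≠ 1) (h3 : p ^ 5 = 1) (h4 : p ≠ 1) :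
    ∃ j : ℕ, o * p ^ j * (o * p ^ j) = 1 ∧ o * p ^ j ≠ 1 ∧ o * p ^ j ≠ z0 := by
  simp only [ne_eq, eq_iff, enc_pow, enc_one] at h1 h2 h3 h4
  obtain ⟨j, -, hj, hz⟩ := three_five_invC _ (enc_mem o) h1 h2 _ (enc_mem p) h3 h4
  rw [← enc_pow, ← enc_mul, invC_iff] at hj
  rw [← enc_pow, ← enc_mul] at hz
  exact ⟨j, hj.1, hj.2, fun e => hz (by rw [e, enc_z0]; rfl)⟩

set_option synthInstance.maxSize 1000 in
theorem dvd_cases : ∀ d < (121 : ℕ), d ∣ 120 → 2 ∣ d → ¬ 4 ∣ d → ¬ (3 ∣ d ∧ 5 ∣ d) → d ∈ [2, 6, 10] := by decide +kernel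

/-- A subgroup whose only involution is the central one. -/
theorem sub_card (E : Subgroup K) (hz : z0 ∈ E) (h : ∀ r ∈ E, r * r = 1 → r ≠ 1 → r = z0) :
    Nat.card E ∈ [2, 6, 10] := by
  have hd : Nat.card E ∣ 120 := by rw [← card_K, ← Nat.card_eq_fintype_card]; exact E.card_subgroup_dvd_card
  refine dvd_cases _ (by have := Nat.le_of_dvd (by norm_num) hd; omega) hd ?_ ?_ ?_
  · have := E.orderOf_dvd_natCard hz
    rwa [CfsgLib.Involutions.orderOf_eq_two_iff'.mpr z0_sq] at this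
  · intro h4
    haveI : Fact (Nat.Prime 2) := ⟨Nat.prime_two⟩
    obtain ⟨Q, hQ⟩ := Sylow.exists_subgroup_card_pow_prime (G := E) 2 (n := 2) (by norm_num; exact h4)
    have hsq : ∀ q ∈ Q, (q : K) = 1 ∨ (q : K) = z0 := by
      intro q hq
      rcases eq_or_ne (q : K) 1 with e | e
      · exact Or.inl e
      refine Or.inr (h q q.2 (K_two ⟨2, ?_⟩) e)
      have := Q.orderOf_dvd_natCard hq
      rw [hQ, orderOf_dvd_iff_pow_eq_one] at this
      exact congrArg Subtype.val this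
    have := Nat.card_le_card_of_injective (fun q : Q => decide ((q : E) = 1)) (fun a b e => by
      simp only [decide_eq_decide] at e
      refine Subtype.ext (Subtype.ext ?_)
      rcases hsq a a.2 with ha | ha <;> rcases hsq b b.2 with hb | hb
      · rw [ha, hb]
      · have := e.mp (Subtype.ext ha)
        exact absurd (hb.symm.trans (congrArg Subtype.val this)) z0_sq.2
      · have := e.mpr (Subtype.ext hb)
        exact absurd (ha.symm.trans (congrArg Subtype.val this)) z0_sq.2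
      · rw [ha, hb])
    rw [hQ, Nat.card_eq_fintype_card (α := Bool), Fintype.card_bool] at this
    norm_num at this
  · rintro ⟨h3, h5⟩
    haveI : Fact (Nat.Prime 3) := ⟨by norm_num⟩
    haveI : Fact (Nat.Prime 5) := ⟨by norm_num⟩
    obtain ⟨o, ho⟩ := exists_prime_orderOf_dvd_card' 3 h3
    obtain ⟨p, hp⟩ := exists_prime_orderOf_dvd_card' 5 h5
    rw [← Subgroup.orderOf_coe] at ho hp
    obtain ⟨j, e1, e2, e3⟩ := three_five_inv (ho ▸ pow_orderOf_eq_one (o : K))
      (fun e => by simp [e] at ho) (hp ▸ pow_orderOf_eq_one (p : K)) (fun e => by simp [e] at hp)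
    exact e3 (h _ (mul_mem o.2 (pow_mem p.2 j)) e1 e2)

variable {G : Type*} [Group G] [Finite G] {t : G} {φ : K →* G}

/-- The centraliser of a pure element. -/
def IsPC (B : Subgroup G) : Prop := ∃ x, Pure x ∧ Subgroup.centralizer ({x} : Set G) = B

variable {B : Subgroup G}

theorem Hyp.pc_mem (h : Hyp t φ) (hB : IsPC B) {y : G} (hy : y ∈ B) (hy1 : y ≠ 1) :
    Pure y ∧ Subgroup.centralizer ({y} : Set G) = B := by
  obtain ⟨x, hx, rfl⟩ := hB
  exact h.pure_mem hx (mem_centralizer_singleton_iff.mp hy) hy1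

theorem Hyp.pc_eq (h : Hyp t φ) {B' : Subgroup G} (hB : IsPC B) (hB' : IsPC B') {y : G} (hy : y ∈ B)
    (hy' : y ∈ B') (hy1 : y ≠ 1) : B = B' := (h.pc_mem hB hy hy1).2.symm.trans (h.pc_mem hB' hy' hy1).2

theorem pc_odd (hB : IsPC B) : Odd (Nat.card B) := by
  obtain ⟨x, hx, rfl⟩ := hB
  exact hx.odd.odd

theorem pc_one_lt (hB : IsPC B) : 1 < Nat.card B := by
  obtain ⟨x, hx, rfl⟩ := hB
  haveI : Nontrivial (Subgroup.centralizer ({x} : Set G)) :=
    ⟨⟨x, mem_centralizer_singleton_iff.mpr rfl⟩, 1, fun e => hx.ne (congrArg Subtype.val e)⟩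
  exact Finite.one_lt_card

theorem Hyp.pc_coprime (h : Hyp t φ) (hB : IsPC B) : Nat.gcd (Nat.card B) 30 = 1 := by
  have key : ∀ q, (q = 3 ∨ q = 5) → ¬ q ∣ Nat.card B := by
    intro q hq hdvd
    haveI : Fact q.Prime := ⟨by rcases hq with rfl | rfl <;> norm_num⟩
    obtain ⟨y, hy⟩ := exists_prime_orderOf_dvd_card' q hdvd
    rw [← Subgroup.orderOf_coe] at hy
    obtain ⟨r, v, c⟩ := h.cfg_of_prime hq hy
    exact (h.pc_mem hB y.2 c.x1).1.odd r c.s2 c.s1 c.xs
  rw [show (30 : ℕ) = 2 * 3 * 5 from rfl]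
  exact Nat.Coprime.mul_right (Nat.Coprime.mul_right (Nat.coprime_two_right.mpr (pc_odd hB))
    ((Nat.coprime_comm).mp ((Nat.prime_three.coprime_iff_not_dvd).mpr (key 3 (Or.inl rfl)))))
    ((Nat.coprime_comm).mp ((Nat.prime_five.coprime_iff_not_dvd).mpr (key 5 (Or.inr rfl))))

theorem Hyp.pc_seven_le (h : Hyp t φ) (hB : IsPC B) : 7 ≤ Nat.card B := by
  by_contra hlt
  exact (show ∀ n < 7, 1 < n → Nat.gcd n 30 ≠ 1 by decide) _ (by omega) (pc_one_lt hB) (h.pc_coprime hB)

/-- An element normalising `B` and fixing a non-trivial element. -/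
theorem Hyp.pc_fixed (h : Hyp t φ) (hB : IsPC B) {s : G} (hs : s * s = 1) (hs1 : s ≠ 1) {f z : G}
    (hfs : f * s = s * f) (hz : z ∈ B) (hz1 : z ≠ 1) (hfz : f * z = z * f) : f = 1 := by
  obtain ⟨-, hC⟩ := h.pc_mem hB hz hz1
  by_contra hf1
  exact (h.pc_mem hB (hC ▸ mem_centralizer_singleton_iff.mpr hfz) hf1).1.odd s hs hs1 hfs

theorem Hyp.normalizer_card (h : Hyp t φ) (hB : IsPC B) :
    ∃ e ∈ [2, 6, 10], Nat.card (normalizer (B : Set G)) = Nat.card B * e ∧ (Nat.card B - 1) % e = 0 := by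
  obtain ⟨x, hx, hC⟩ := id hB
  obtain ⟨s, hs, hs1, hinv⟩ := hx.inv
  have hxB : x ∈ B := hC ▸ mem_centralizer_singleton_iff.mpr rfl
  have hall : ∀ z ∈ B, s * z * s = z⁻¹ := fun z hz =>
    h.fixed_free hx.ne hs hs1 hinv hx.odd (mem_centralizer_singleton_iff.mp (hC.symm ▸ hz))
  have hsN : s ∈ normalizer (B : Set G) :=
    Subgroup.mem_normalizer_fintype (S := (B : Set G)) fun z hz => by
      rw [← conj_invol hs, hall z hz]; exact inv_mem hz
  set N := normalizer (B : Set G) with hN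
  set E := N ⊓ Subgroup.centralizer ({s} : Set G) with hE
  have hEs : ∀ f ∈ E, f * s = s * f := fun f hf => mem_centralizer_singleton_iff.mp (Subgroup.mem_inf.mp hf).2
  have hfree : ∀ f ∈ E, ∀ z ∈ B, z ≠ 1 → f * z = z * f → f = 1 := fun f hf z hz hz1 e =>
    h.pc_fixed hB hs hs1 (hEs f hf) hz hz1 e
  have hsE : s ∈ E := Subgroup.mem_inf.mpr ⟨hsN, mem_centralizer_singleton_iff.mpr rfl⟩
  have hcard : Nat.card N = Nat.card B * Nat.card E := by
    rw [← Nat.card_prod]
    refine (Nat.card_congr (Equiv.ofBijective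
      (fun q : B × E => (⟨(q.1 : G) * q.2, mul_mem (Subgroup.le_normalizer q.1.2) (Subgroup.mem_inf.mp q.2.2).1⟩ : N))
      ⟨?_, ?_⟩)).symm
    · rintro ⟨⟨b, hb⟩, ⟨f, hf⟩⟩ ⟨⟨b', hb'⟩, ⟨f', hf'⟩⟩ e
      have e' : b * f = b' * f' := congrArg Subtype.val e
      have hq : b'⁻¹ * b = f' * f⁻¹ := by
        calc b'⁻¹ * b = b'⁻¹ * (b * f) * f⁻¹ := by group
          _ = _ := by rw [e']; group
      have hq1 : b'⁻¹ * b = 1 := by
        by_contra hne
        have hsB := hs
        exact (h.pc_mem hB (mul_mem (inv_mem hb') hb) hne).1.odd s hs hs1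
          (hq ▸ hEs _ (mul_mem hf' (inv_mem hf)))
      have hbb : b = b' := (inv_mul_eq_one.mp hq1).symm
      subst hbb
      exact Prod.ext rfl (Subtype.ext (mul_left_cancel e'))
    · rintro ⟨n, hn⟩
      have hnN : ∀ z, z ∈ B ↔ n * z * n⁻¹ ∈ B := fun z => Subgroup.mem_normalizer_iff.mp hn z
      have hnx : n⁻¹ * x * n ∈ B := (hnN _).mpr (by
        rw [show n * (n⁻¹ * x * n) * n⁻¹ = x by group]; exact hxB)
      have hs' : (n * s * n⁻¹) * x * (n * s * n⁻¹)⁻¹ = x⁻¹ := by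
        calc (n * s * n⁻¹) * x * (n * s * n⁻¹)⁻¹ = n * (s * (n⁻¹ * x * n) * s⁻¹) * n⁻¹ := by group
          _ = n * (n⁻¹ * x * n)⁻¹ * n⁻¹ := by rw [← conj_invol hs, hall _ hnx]
          _ = _ := by group
      set w := s * (n * s * n⁻¹) with hw
      have hwx : w * x = x * w := by
        refine mul_inv_eq_iff_eq_mul.mp ?_
        calc w * x * w⁻¹ = s * ((n * s * n⁻¹) * x * (n * s * n⁻¹)⁻¹) * s⁻¹ := by rw [hw]; group
          _ = x := by rw [hs', ← conj_invol hs, invol_conj_inv hs, hinv, inv_inv]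
      have hwB : w ∈ B := hC ▸ mem_centralizer_singleton_iff.mpr hwx
      obtain ⟨m, hm⟩ := pc_odd hB
      set c := w ^ (m + 1) with hc
      have hcB : c ∈ B := pow_mem hwB _
      have hcc : c * c = w := by
        have hwa : w ^ Nat.card B = 1 := congrArg Subtype.val (pow_card_eq_one' (x := (⟨w, hwB⟩ : B)))
        rw [hc, ← pow_add, show m + 1 + (m + 1) = (2 * m + 1) + 1 by omega, ← hm, pow_succ, hwa, one_mul]
      have hsc : s * c = c⁻¹ * s := by
        rw [← hall c hcB, mul_assoc, hs, mul_one]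
      have hs'' : n * s * n⁻¹ = c⁻¹ * s * c := by
        rw [← hsc, mul_assoc s c c, hcc, hw, ← mul_assoc s s, hs, one_mul]
      refine ⟨⟨⟨c⁻¹, inv_mem hcB⟩, ⟨c * n, Subgroup.mem_inf.mpr
        ⟨mul_mem (Subgroup.le_normalizer hcB) hn, mem_centralizer_singleton_iff.mpr ?_⟩⟩⟩, ?_⟩
      · calc c * n * s = c * (n * s * n⁻¹) * n := by group
          _ = s * (c * n) := by rw [hs'']; group
      · exact Subtype.ext (show c⁻¹ * (c * n) = n by group)
  have hinvol : ∀ r ∈ E, r * r = 1 → r ≠ 1 → r = s := by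
    intro r hr hr2 hr1
    have hrB : ∀ z ∈ B, r * z * r ∈ B := fun z hz => by
      rw [conj_invol hr2]; exact (Subgroup.mem_normalizer_iff.mp (Subgroup.mem_inf.mp hr).1 z).mp hz
    let f : B → B := fun z => ⟨(z : G)⁻¹ * (r * z * r), mul_mem (inv_mem z.2) (hrB z z.2)⟩
    have hf : Function.Injective f := by
      intro z w e
      have e' : (z : G)⁻¹ * (r * z * r) = (w : G)⁻¹ * (r * w * r) := congrArg Subtype.val e
      by_contra hne
      have hq : (w : G) * (z : G)⁻¹ ≠ 1 := fun e1 => hne (Subtype.ext (mul_inv_eq_one.mp e1).symm)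
      refine hr1 (hfree r hr _ (mul_mem w.2 (inv_mem z.2)) hq ((commute_iff_conj hr2 _).mpr ?_).symm)
      calc r * ((w : G) * (z : G)⁻¹) * r = r * w * r * (r * z * r)⁻¹ := by
            rw [invol_mul_conj hr2, invol_conj_inv hr2]
        _ = w * ((w : G)⁻¹ * (r * w * r)) * (r * z * r)⁻¹ := by group
        _ = w * ((z : G)⁻¹ * (r * z * r)) * (r * z * r)⁻¹ := by rw [e']
        _ = _ := by group
    obtain ⟨⟨z, hz⟩, hzx⟩ := (Finite.injective_iff_surjective.mp hf) ⟨x, hxB⟩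
    have hzx' : z⁻¹ * (r * z * r) = x := congrArg Subtype.val hzx
    have hrx : r * x * r = x⁻¹ := by
      rw [← hzx', invol_mul_conj hr2, invol_conj_inv hr2, conj_conj_invol hr2]
      group
    have hrs : r * s * x = x * (r * s) := by
      refine mul_inv_eq_iff_eq_mul.mp ?_
      calc r * s * x * (r * s)⁻¹ = r * (s * x * s⁻¹) * r⁻¹ := by group
        _ = x := by rw [← conj_invol hs, hinv, ← conj_invol hr2, invol_conj_inv hr2, hrx, inv_inv]
    have hsq : r * s * (r * s) = 1 := by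
      rw [show r * s * (r * s) = r * (s * r) * s by group, ← hEs r hr, ← mul_assoc, hr2, one_mul, hs]
    have := eq_one_of_sq_eq_one (hx.odd.odd_mem hrs) hsq
    rw [← inv_eq_of_mul_eq_one_right hs]
    exact eq_inv_of_mul_eq_one_left this
  obtain ⟨g, hg, hp⟩ := h.pull hs hs1
  let ψ : K →* G := (MulAut.conj g).toMonoidHom.comp φ
  have hψ : ∀ k, ψ k = g * φ k * g⁻¹ := fun k => rfl
  have hψinj : Function.Injective ψ := (MulAut.conj g).injective.comp h.inj
  have hEcard : Nat.card (E.comap ψ) = Nat.card E := by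
    rw [← Subgroup.card_map_of_injective hψinj, Subgroup.map_comap_eq_self]
    intro f hf
    obtain ⟨k, hk⟩ := hp f (hEs f hf)
    exact ⟨k, hk⟩
  have hψz : ψ z0 = s := by rw [hψ, h.image, hg]
  have he : Nat.card E ∈ [2, 6, 10] := by
    rw [← hEcard]
    refine sub_card _ (by show ψ z0 ∈ E; rw [hψz]; exact hsE) fun r hr hr2 hr1 => hψinj ?_
    rw [hψz]
    exact hinvol _ hr (by rw [← map_mul, hr2, map_one]) (fun e => hr1 (hψinj (e.trans (map_one ψ).symm)))
  refine ⟨Nat.card E, he, hcard, ?_⟩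
  have h2 := pc_odd hB
  have hmod : ∀ q, q.Prime → q ∣ Nat.card E → q ∣ Nat.card B - 1 := by
    intro q hq hdvd
    haveI : Fact q.Prime := ⟨hq⟩
    obtain ⟨f, hf⟩ := exists_prime_orderOf_dvd_card' q hdvd
    rw [← Subgroup.orderOf_coe] at hf
    set Y := Subgroup.zpowers (f : G) with hY
    have hYE : Y ≤ E := Subgroup.zpowers_le.mpr f.2
    letI : MulAction Y B :=
      { smul := fun y z => ⟨(y : G) * z * (y : G)⁻¹,
          (Subgroup.mem_normalizer_iff.mp (Subgroup.mem_inf.mp (hYE y.2)).1 z).mp z.2⟩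
        one_smul := fun z => Subtype.ext (show ((1 : Y) : G) * z * ((1 : Y) : G)⁻¹ = z by simp)
        mul_smul := fun y y' z => Subtype.ext (by
          show ((y * y' : Y) : G) * z * ((y * y' : Y) : G)⁻¹ = (y : G) * ((y' : G) * z * (y' : G)⁻¹) * (y : G)⁻¹
          rw [Subgroup.coe_mul]; group) }
    have hp' : IsPGroup q Y := IsPGroup.of_card (n := 1) (by rw [Nat.card_zpowers, hf, pow_one])
    have hmd := hp'.card_modEq_card_fixedPoints B
    have hfix : MulAction.fixedPoints Y B = {(1 : B)} := by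
      ext z
      simp only [Set.mem_singleton_iff, MulAction.mem_fixedPoints]
      refine ⟨fun hz => ?_, fun e y => ?_⟩
      · by_contra hne
        have hfz : (f : G) * z * (f : G)⁻¹ = z := congrArg Subtype.val (hz ⟨f, Subgroup.mem_zpowers _⟩)
        have := hfree f f.2 z z.2 (fun e => hne (Subtype.ext e)) (mul_inv_eq_iff_eq_mul.mp hfz)
        rw [this, orderOf_one] at hf
        exact hq.one_lt.ne hf
      · subst e
        exact Subtype.ext (show (y : G) * ((1 : B) : G) * (y : G)⁻¹ = ((1 : B) : G) by simp)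
    rw [hfix, Nat.card_eq_fintype_card (α := ({(1 : B)} : Set B)), Set.card_singleton] at hmd
    exact (Nat.modEq_iff_dvd' (pc_one_lt hB).le).mp hmd.symm
  refine Nat.mod_eq_zero_of_dvd ?_
  simp only [List.mem_cons, List.not_mem_nil, or_false] at he
  have hb2 : 2 ∣ Nat.card B - 1 := by obtain ⟨m, hm⟩ := h2; omega
  rcases he with e | e | e <;> rw [e] at hmod ⊢
  · exact hb2
  · exact Nat.Coprime.mul_dvd_of_dvd_of_dvd (show Nat.Coprime 2 3 by norm_num) hb2
      (hmod 3 Nat.prime_three ⟨2, rfl⟩)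
  · exact Nat.Coprime.mul_dvd_of_dvd_of_dvd (show Nat.Coprime 2 5 by norm_num) hb2
      (hmod 5 Nat.prime_five ⟨2, rfl⟩)

end CfsgLib.JankoOne
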