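/-
The numbers of involutions inverting the elements of the various kinds.
-/
import Cfsg.Agent.Lib.JankoOne.Pure

set_option autoImplicit false
set_option linter.unusedSectionVars false

namespace CfsgLib.JankoOne

open Subgroup
open CfsgLib.Involutions (orderOf_conj)

variable {G : Type*} [Group G] [Finite G] {t : G} {φ : K →* G}
variable {p : ℕ} {x s u : G}

/-- The involutions inverting `x`. -/
def invFibre (x : G) : Set G := {r | (r * r = 1 ∧ r ≠ 1) ∧ (r * x * (r * x) = 1 ∧ r * x ≠ 1)}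

/-- The number of involutions inverting `x`. -/
noncomputable def fib (x : G) : ℕ := Nat.card (invFibre x)

theorem inv_of_fibre {r : G} (hr : r ∈ invFibre x) : r * x * r = x⁻¹ := by
  have := hr.2.1
  rw [← mul_assoc] at this
  exact eq_inv_of_mul_eq_one_left this

theorem mem_fibre {r : G} (hx : x * x ≠ 1) (hr : r * r = 1) (hr1 : r ≠ 1) (hinv : r * x * r = x⁻¹) :
    r ∈ invFibre x := by
  refine ⟨⟨hr, hr1⟩, by rw [← mul_assoc, hinv, inv_mul_cancel], fun e => hx ?_⟩
  have : x = r := by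
    rw [← inv_eq_of_mul_eq_one_right hr]
    exact eq_inv_of_mul_eq_one_right e
  rw [this, hr]

theorem sq_ne_one_of_odd (hx : Odd (orderOf x)) (hx1 : x ≠ 1) : x * x ≠ 1 := fun e =>
  hx1 (eq_one_of_sq_eq_one hx e)

theorem Hyp.fib_oddCent (h : Hyp t φ) (hx1 : x ≠ 1) (hodd : OddCent x) (hs : s * s = 1) (hs1 : s ≠ 1)
    (hinv : s * x * s = x⁻¹) : fib x = Nat.card (Subgroup.centralizer ({x} : Set G)) := by
  have hsq := sq_ne_one_of_odd hodd.odd_self hx1
  refine (Nat.card_congr (Equiv.ofBijective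
    (fun c : Subgroup.centralizer ({x} : Set G) => (⟨s * c.1, ?_⟩ : invFibre x)) ⟨?_, ?_⟩)).symm
  · have hc := mem_centralizer_singleton_iff.mp c.2
    refine mem_fibre hsq ?_ (fun e => hodd s hs hs1 ?_) ?_
    · rw [← mul_assoc, h.fixed_free hx1 hs hs1 hinv hodd hc, inv_mul_cancel]
    · have : (c : G) = s := by rw [← inv_eq_of_mul_eq_one_right hs]; exact eq_inv_of_mul_eq_one_right e
      rw [← this]; exact hc.symm
    · calc s * c * x * (s * c) = s * (c * x) * s * c := by group
        _ = s * (x * c) * s * c := by rw [hc]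
        _ = (s * x * s) * ((s * c * s) * c) := by rw [invol_mul_conj hs]; group
        _ = _ := by rw [hinv, h.fixed_free hx1 hs hs1 hinv hodd hc, inv_mul_cancel, mul_one]
  · exact fun a b e => Subtype.ext (mul_left_cancel (congrArg Subtype.val e))
  · rintro ⟨r, hr⟩
    refine ⟨⟨s * r, mem_centralizer_singleton_iff.mpr ?_⟩, Subtype.ext (show s * (s * r) = r by rw [← mul_assoc, hs, one_mul])⟩
    have h1 := inv_of_fibre hr
    calc s * r * x = s * (r * x * r) * r := by simp [mul_assoc, hr.1.1]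
      _ = s * x⁻¹ * r := by rw [h1]
      _ = (s * x⁻¹ * s) * (s * r) := by simp [mul_assoc]; rw [← mul_assoc s s, hs, one_mul]
      _ = x * (s * r) := by rw [invol_conj_inv hs, hinv, inv_inv]

theorem Hyp.centralizer_cases (h : Hyp t φ) (c : Cfg p x s u) {d : G} (hd : d * x = x * d) :
    d ∈ Oc x ∨ s * d ∈ Oc x := by
  have hsX : ∀ o ∈ Oc x, s * o ∈ Subgroup.centralizer ({x} : Set G) := fun o ho =>
    mem_centralizer_singleton_iff.mpr
      (Commute.mul_left (show Commute s x from c.xs.symm) ((h.mem_Oc c).mp ho).1).eq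
  let f : Oc x ⊕ Oc x → Subgroup.centralizer ({x} : Set G) :=
    Sum.elim (fun o => ⟨o, mem_centralizer_singleton_iff.mpr ((h.mem_Oc c).mp o.2).1⟩)
      (fun o => ⟨s * o, hsX o o.2⟩)
  have hne : ∀ o o' : Oc x, (o : G) ≠ s * o' := fun o o' e => by
    have hs : s ∈ Oc x := by
      rw [show s = (o : G) * (o' : G)⁻¹ by rw [e]; group]
      exact mul_mem o.2 (inv_mem o'.2)
    exact c.s1 (eq_one_of_sq_eq_one ((h.mem_Oc c).mp hs).2 c.s2)
  have hinj : Function.Injective f := by
    rintro (o | o) (o' | o') e <;> have e' := congrArg Subtype.val e <;> simp only [f, Sum.elim_inl, Sum.elim_inr] at e'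
    · exact congrArg Sum.inl (Subtype.ext e')
    · exact absurd e' (hne o o')
    · exact absurd e'.symm (hne o' o)
    · exact congrArg Sum.inr (Subtype.ext (mul_left_cancel e'))
  have hsurj := ((Nat.bijective_iff_injective_and_card f).mpr
    ⟨hinj, by rw [Nat.card_sum, (h.Oc_spec c).2.2, two_mul]⟩).2
  obtain ⟨o | o, ho⟩ := hsurj ⟨d, mem_centralizer_singleton_iff.mpr hd⟩
  · left
    have : (o : G) = d := congrArg Subtype.val ho
    exact this ▸ o.2
  · right
    have : s * (o : G) = d := congrArg Subtype.val ho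
    rw [← this, ← mul_assoc, c.s2, one_mul]
    exact o.2

theorem Hyp.fib_cfg (h : Hyp t φ) (c : Cfg p x s u) :
    fib x = Nat.card {o : G // o ∈ Oc x ∧ u * o * u = o⁻¹} +
      Nat.card {o : G // o ∈ Oc x ∧ s * u * o * (s * u) = o⁻¹} := by
  have hsq := sq_ne_one_of_odd c.odd c.x1
  have hmk : ∀ {v : G}, Cfg p x s v → ∀ o, o ∈ Oc x → v * o * v = o⁻¹ → v * o ∈ invFibre x := by
    intro v cv o ho hi
    refine mem_fibre hsq ?_ ?_ ?_
    · rw [← mul_assoc, hi, inv_mul_cancel]
    · intro e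
      have : o = v := by rw [← inv_eq_of_mul_eq_one_right cv.u2]; exact eq_inv_of_mul_eq_one_right e
      exact cv.u1 (eq_one_of_sq_eq_one (this ▸ ((h.mem_Oc c).mp ho).2) cv.u2)
    · calc v * o * x * (v * o) = v * (o * x) * v * o := by group
        _ = v * (x * o) * v * o := by rw [((h.mem_Oc c).mp ho).1]
        _ = (v * x * v) * ((v * o * v) * o) := by rw [invol_mul_conj cv.u2]; group
        _ = _ := by rw [cv.xu, hi, inv_mul_cancel, mul_one]
  have hinvd : ∀ {v r o : G}, v * v = 1 → r * r = 1 → v * o = r → v * o * v = o⁻¹ := by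
    intro v r o hv hr e
    refine eq_inv_of_mul_eq_one_left ?_
    rw [mul_assoc, e, hr]
  rw [← Nat.card_sum]
  refine (Nat.card_congr (Equiv.ofBijective (Sum.elim
    (fun o : {o : G // o ∈ Oc x ∧ u * o * u = o⁻¹} => (⟨u * o.1, hmk c _ o.2.1 o.2.2⟩ : invFibre x))
    (fun o : {o : G // o ∈ Oc x ∧ s * u * o * (s * u) = o⁻¹} => ⟨s * u * o.1, hmk c.third _ o.2.1 o.2.2⟩))
    ⟨?_, ?_⟩)).symm
  · have hne : ∀ o o' : G, o ∈ Oc x → o' ∈ Oc x → u * o ≠ s * u * o' := fun o o' ho ho' e => by
      have hs : s ∈ Oc x := by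
        have e1 : u * (o * o'⁻¹) * u = s := by
          calc u * (o * o'⁻¹) * u = (u * o) * o'⁻¹ * u := by group
            _ = s * (u * u) := by rw [e]; group
            _ = s := by rw [c.u2, mul_one]
        rw [← e1]
        exact h.conj_mem_Oc' c (mul_mem ho (inv_mem ho'))
      exact c.s1 (eq_one_of_sq_eq_one ((h.mem_Oc c).mp hs).2 c.s2)
    rintro (o | o) (o' | o') e <;> have e' := congrArg Subtype.val e <;> simp only [Sum.elim_inl, Sum.elim_inr] at e'
    · exact congrArg Sum.inl (Subtype.ext (mul_left_cancel e'))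
    · exact absurd e' (hne _ _ o.2.1 o'.2.1)
    · exact absurd e'.symm (hne _ _ o'.2.1 o.2.1)
    · exact congrArg Sum.inr (Subtype.ext (mul_left_cancel e'))
  · rintro ⟨r, hr⟩
    have h1 := inv_of_fibre hr
    have hcm : u * r * x = x * (u * r) := by
      calc u * r * x = u * (r * x * r) * r := by simp [mul_assoc, hr.1.1]
        _ = u * x⁻¹ * r := by rw [h1]
        _ = (u * x⁻¹ * u) * (u * r) := by simp [mul_assoc]; rw [← mul_assoc u u, c.u2, one_mul]
        _ = x * (u * r) := by rw [invol_conj_inv c.u2, c.xu, inv_inv]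
    rcases h.centralizer_cases c hcm with ho | ho
    · have e : u * (u * r) = r := by rw [← mul_assoc, c.u2, one_mul]
      exact ⟨Sum.inl ⟨u * r, ho, hinvd c.u2 hr.1.1 e⟩, Subtype.ext e⟩
    · have e : s * u * (s * (u * r)) = r := by
        calc s * u * (s * (u * r)) = s * (u * s) * u * r := by group
          _ = s * (s * u) * u * r := by rw [c.su]
          _ = r := by rw [← mul_assoc, c.s2, one_mul, c.u2, one_mul]
      exact ⟨Sum.inr ⟨s * (u * r), ho, hinvd c.third.u2 hr.1.1 e⟩, Subtype.ext e⟩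

/-- The number of involutions inverting an element of prime order. -/
theorem Hyp.fib_prime (h : Hyp t φ) (c : Cfg p x s u) :
    ((∃ d : G, orderOf d = 15) → fib x = p + 15) ∧ ((¬ ∃ d : G, orderOf d = 15) → fib x = 2 * p) := by
  constructor
  · intro h15
    obtain ⟨u', c', hu'⟩ := h.normal_form c
    rw [h.fib_cfg c', ← (h.Oc_fifteen c).1 h15]
    congr 1
    · rw [← c.ord, ← Nat.card_zpowers]
      refine Nat.card_congr (Equiv.subtypeEquivRight fun o => ⟨?_, fun ho =>
        ⟨Subgroup.zpowers_le.mpr (h.x_mem_Oc c) ho, c'.zpow_u ho⟩⟩)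
      rintro ⟨ho, hi⟩
      obtain ⟨i, b, hi', hb, rfl⟩ := hu' o ho
      rw [invol_mul_conj c'.u2, c'.zpow_u hi', (commute_iff_conj c'.u2 b).mp (mem_Au.mp hb).2,
        h.Oc_comm c (Subgroup.zpowers_le.mpr (h.x_mem_Oc c) hi') (mem_Au.mp hb).1, mul_inv_rev] at hi
      have hb0 : b = 1 := eq_one_of_inv_eq ((h.mem_Oc c).mp (mem_Au.mp hb).1).2 (mul_left_cancel hi).symm
      rwa [hb0, mul_one]
    · refine Nat.card_congr (Equiv.subtypeEquivRight fun o => ⟨fun ho => ho.1, fun ho => ⟨ho, ?_⟩⟩)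
      obtain ⟨i, b, hi', hb, rfl⟩ := hu' o ho
      have hb' : s * u' * b * (s * u') = b⁻¹ := by
        calc s * u' * b * (s * u') = s * (u' * b * (s * u')) := by group
          _ = s * (u' * b * (u' * s)) := by rw [c'.su]
          _ = s * (u' * b * u') * s := by group
          _ = _ := by rw [(commute_iff_conj c'.u2 b).mp (mem_Au.mp hb).2, h.Au_inverted c' hb]
      rw [invol_mul_conj c'.third.u2, c'.third.zpow_u hi', hb', ← mul_inv_rev,
        h.Oc_comm c (mem_Au.mp hb).1 (Subgroup.zpowers_le.mpr (h.x_mem_Oc c) hi')]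
  · intro h15
    have hO := (h.Oc_fifteen c).2 h15
    rw [h.fib_cfg c, two_mul]
    congr 1 <;>
      rw [← c.ord, ← Nat.card_zpowers] <;>
      refine Nat.card_congr (Equiv.subtypeEquivRight fun o => ⟨fun ho => hO ▸ ho.1, fun ho => ⟨hO ▸ ho, ?_⟩⟩)
    · exact c.zpow_u ho
    · exact c.third.zpow_u ho

end CfsgLib.JankoOne
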