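/-
Counting the pairs of involutions.
-/
import Cfsg.Agent.Lib.JankoOne.Fibres

set_option autoImplicit false
set_option linter.unusedSectionVars false

namespace CfsgLib.JankoOne

open Subgroup Finset
open CfsgLib.Involutions (orderOf_conj)

variable {G : Type*} [Group G] [Fintype G] [DecidableEq G] {t : G} {φ : K →* G}
variable {p : ℕ} {x s u : G}

/-- The involutions. -/
def invols (G : Type*) [Group G] [Fintype G] [DecidableEq G] : Finset G :=
  Finset.univ.filter fun r => r * r = 1 ∧ r ≠ 1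

theorem card_conj_class (x : G) :
    (Finset.univ.filter fun y : G => ∃ g : G, g * x * g⁻¹ = y).card *
      Nat.card (Subgroup.centralizer ({x} : Set G)) = Nat.card G := by
  have hc : ∀ y ∈ (Finset.univ.filter fun y : G => ∃ g : G, g * x * g⁻¹ = y),
      (Finset.univ.filter fun g : G => g * x * g⁻¹ = y).card = Nat.card (Subgroup.centralizer ({x} : Set G)) := by
    intro y hy
    obtain ⟨g, rfl⟩ := (Finset.mem_filter.mp hy).2
    rw [← Fintype.card_subtype, ← Nat.card_eq_fintype_card]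
    refine (Nat.card_congr (Equiv.subtypeEquiv (Equiv.mulLeft g) fun c => ?_)).symm
    simp only [Equiv.coe_mulLeft]
    rw [mem_centralizer_singleton_iff, ← mul_inv_eq_iff_eq_mul]
    constructor
    · intro e
      calc g * c * x * (g * c)⁻¹ = g * (c * x * c⁻¹) * g⁻¹ := by group
        _ = _ := by rw [e]
    · intro e
      calc c * x * c⁻¹ = g⁻¹ * (g * c * x * (g * c)⁻¹) * g := by group
        _ = _ := by rw [e]; group
  rw [← smul_eq_mul, ← Finset.sum_const, ← Finset.sum_congr rfl hc,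
    ← Finset.card_eq_sum_card_fiberwise (s := (Finset.univ : Finset G)) (f := fun g => g * x * g⁻¹)
      (fun g _ => Finset.mem_coe.mpr (Finset.mem_filter.mpr ⟨Finset.mem_univ _, g, rfl⟩)),
    Finset.card_univ, Nat.card_eq_fintype_card]

theorem Hyp.card_eq (h : Hyp t φ) : Nat.card G = 120 * (invols G).card := by
  rw [← card_conj_class t, h.card_centralizer, mul_comm]
  congr 2
  ext r
  simp only [invols, Finset.mem_filter, Finset.mem_univ, true_and]
  refine ⟨?_, fun hr => h.involution_conj hr.1 hr.2⟩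
  rintro ⟨g, rfl⟩
  exact ⟨by rw [conj_mul, h.t_sq, mul_one, mul_inv_cancel], by rw [ne_eq, conj_eq_one_iff]; exact h.t_ne⟩

theorem sum_fib : ∑ x : G, fib x = (invols G).card * (invols G).card := by
  have hI : (invols G).card = Nat.card {r : G // r * r = 1 ∧ r ≠ 1} := by
    rw [Nat.card_eq_fintype_card, Fintype.card_subtype]; rfl
  unfold fib
  rw [← Nat.card_sigma, hI, ← Nat.card_prod]
  refine Nat.card_congr ⟨fun q => (⟨q.2.1, q.2.2.1⟩, ⟨(q.2 : G) * q.1, q.2.2.2⟩), fun q =>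
    ⟨(q.1 : G) * (q.2 : G), ⟨(q.1 : G), q.1.2, by
      have e : (q.1 : G) * ((q.1 : G) * q.2) = q.2 := by rw [← mul_assoc, q.1.2.1, one_mul]
      rw [e]; exact q.2.2⟩⟩, ?_, ?_⟩
  · rintro ⟨y, r, hr, hry⟩
    refine Sigma.subtype_ext ?_ rfl
    show r * (r * y) = y
    rw [← mul_assoc, hr.1, one_mul]
  · rintro ⟨⟨r, hr⟩, v, hv⟩
    refine Prod.ext rfl (Subtype.ext ?_)
    show r * (r * v) = v
    rw [← mul_assoc, hr.1, one_mul]

theorem fib_one : fib (1 : G) = (invols G).card := by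
  rw [fib, invols, ← Fintype.card_subtype, ← Nat.card_eq_fintype_card]
  exact Nat.card_congr (Equiv.subtypeEquivRight fun r => by simp [invFibre])

theorem fib_conj (g x : G) : fib (g * x * g⁻¹) = fib x := by
  refine (Nat.card_congr (Equiv.subtypeEquiv (MulAut.conj g).toEquiv fun r => ?_)).symm
  show r ∈ invFibre x ↔ g * r * g⁻¹ ∈ invFibre (g * x * g⁻¹)
  simp only [invFibre, Set.mem_setOf_eq, conj_mul, ne_eq, conj_eq_one_iff]

/-- The elements of even order with a given involution as power. -/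
noncomputable def evenFibre (j : G) : Finset G := Finset.univ.filter fun x => Even (orderOf x) ∧ x ^ (orderOf x / 2) = j

theorem sum_evenFibre_conj (g j : G) :
    ∑ x ∈ evenFibre (g * j * g⁻¹), fib x = ∑ x ∈ evenFibre j, fib x := by
  refine (Finset.sum_nbij' (fun x => g * x * g⁻¹) (fun x => g⁻¹ * x * g) ?_ ?_ ?_ ?_ ?_).symm
  · intro x hx
    obtain ⟨he, hp⟩ := (Finset.mem_filter.mp (Finset.mem_coe.mp hx)).2
    refine Finset.mem_coe.mpr (Finset.mem_filter.mpr ⟨Finset.mem_univ _, by rwa [orderOf_conj], ?_⟩)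
    rw [orderOf_conj, conj_pow, hp]
  · intro x hx
    obtain ⟨he, hp⟩ := (Finset.mem_filter.mp (Finset.mem_coe.mp hx)).2
    have e : g⁻¹ * x * g = g⁻¹ * x * g⁻¹⁻¹ := by group
    refine Finset.mem_coe.mpr (Finset.mem_filter.mpr ⟨Finset.mem_univ _, ?_, ?_⟩)
    · rwa [e, orderOf_conj]
    · rw [e, orderOf_conj, conj_pow, hp]; group
  · intro x _; group
  · intro x _; group
  · intro x _; exact (fib_conj g x).symm

theorem Hyp.sum_evenFibre_t (h : Hyp t φ) : ∑ x ∈ evenFibre t, fib x = 390 := by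
  classical
  rw [← sum_inverters]
  have himg : evenFibre t = (Finset.univ.filter fun k : K => k ^ 15 = z0).image φ := by
    ext x
    simp only [evenFibre, Finset.mem_filter, Finset.mem_univ, true_and, Finset.mem_image]
    constructor
    · rintro ⟨he, hp⟩
      obtain ⟨k, rfl⟩ := (h.range x).mp (by rw [← hp]; exact (Commute.self_pow x _).eq)
      refine ⟨k, ?_, rfl⟩
      rw [orderOf_injective φ h.inj] at he hp
      obtain ⟨m, hm⟩ := he
      rw [← map_pow, ← h.image] at hp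
      have hk := h.inj hp
      rw [show orderOf k / 2 = m by omega] at hk
      obtain ⟨j, hj⟩ : m ∣ 15 := by
        have := orderOf_dvd_of_pow_eq_one (pow_thirty k)
        rw [hm, ← two_mul, show (30 : ℕ) = 2 * 15 from rfl] at this
        exact Nat.dvd_of_mul_dvd_mul_left (by norm_num) this
      obtain ⟨i, rfl⟩ : Odd j := by
        refine Odd.of_dvd_nat (n := 15) (by decide) (Dvd.intro_left m hj.symm)
      rw [hj, pow_mul, hk, pow_succ, pow_mul, sq, z0_sq.1, one_pow, one_mul]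
    · rintro ⟨k, hk, rfl⟩
      rw [orderOf_injective φ h.inj, ← map_pow, ← h.image]
      have he : Even (orderOf k) := by
        rw [← Nat.not_odd_iff_even]
        exact fun ho => z0_sq.2 (hk ▸ pow_fifteen_of_odd ho)
      obtain ⟨m, hm⟩ := he
      refine ⟨⟨m, hm⟩, congrArg φ ?_⟩
      rw [show orderOf k / 2 = m by omega]
      obtain ⟨j, hj⟩ : m ∣ 15 := by
        have := orderOf_dvd_of_pow_eq_one (pow_thirty k)
        rw [hm, ← two_mul, show (30 : ℕ) = 2 * 15 from rfl] at this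
        exact Nat.dvd_of_mul_dvd_mul_left (by norm_num) this
      obtain ⟨i, rfl⟩ : Odd j := Odd.of_dvd_nat (n := 15) (by decide) (Dvd.intro_left m hj.symm)
      have h2 : k ^ m * k ^ m = 1 := by rw [← pow_add, ← hm, pow_orderOf_eq_one]
      rw [← hk, hj, pow_mul, pow_succ, pow_mul, sq, h2, one_pow, one_mul]
  rw [himg, Finset.sum_image (fun a _ b _ e => h.inj e)]
  refine Finset.sum_congr rfl fun k hk => ?_
  have hk' := (Finset.mem_filter.mp hk).2
  have hrange : ∀ r : G, r * r = 1 → r * φ k * r = (φ k)⁻¹ → ∃ l, φ l = r := by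
    intro r hr hi
    refine (h.range r).mp ((commute_iff_conj hr t).mpr ?_).symm
    have ht : φ k ^ 15 = t := by rw [← map_pow, hk', h.image]
    nth_rw 1 [← ht]
    rw [conj_invol hr, ← conj_pow, ← conj_invol hr, hi, inv_pow, ht, inv_eq_of_mul_eq_one_right h.t_sq]
  rw [fib, ← Fintype.card_subtype, ← Nat.card_eq_fintype_card]
  refine (Nat.card_congr (Equiv.ofBijective
    (fun l : {l : K // (l * l = 1 ∧ l ≠ 1) ∧ (l * k * (l * k) = 1 ∧ l * k ≠ 1)} =>
      (⟨φ l.1, ?_⟩ : invFibre (φ k))) ⟨?_, ?_⟩)).symm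
  · obtain ⟨⟨a, b⟩, c, d⟩ := l.2
    simp only [invFibre, Set.mem_setOf_eq, ne_eq, ← map_mul, map_eq_one_iff φ h.inj]
    exact ⟨⟨a, b⟩, c, d⟩
  · exact fun a b e => Subtype.ext (h.inj (congrArg Subtype.val e))
  · rintro ⟨r, hr⟩
    obtain ⟨l, rfl⟩ := hrange r hr.1.1 (inv_of_fibre hr)
    simp only [invFibre, Set.mem_setOf_eq, ne_eq, ← map_mul, map_eq_one_iff φ h.inj] at hr
    exact ⟨⟨l, hr⟩, rfl⟩

theorem Hyp.sum_even (h : Hyp t φ) :
    ∑ x ∈ Finset.univ.filter (fun x : G => Even (orderOf x)), fib x = (invols G).card * 390 := by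
  rw [← Finset.sum_fiberwise_of_maps_to (t := invols G) (g := fun x : G => x ^ (orderOf x / 2))]
  · rw [← smul_eq_mul, ← Finset.sum_const]
    refine Finset.sum_congr rfl fun j hj => ?_
    obtain ⟨g, rfl⟩ := h.involution_conj (Finset.mem_filter.mp hj).2.1 (Finset.mem_filter.mp hj).2.2
    rw [← h.sum_evenFibre_t, ← sum_evenFibre_conj g t, evenFibre, Finset.filter_filter]
  · intro x hx
    obtain ⟨m, hm⟩ := (Finset.mem_filter.mp hx).2
    have := orderOf_pos x
    refine Finset.mem_filter.mpr ⟨Finset.mem_univ _, ?_⟩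
    rw [show orderOf x / 2 = m by omega]
    refine ⟨by rw [← pow_add, ← hm, pow_orderOf_eq_one], fun e => ?_⟩
    have := Nat.le_of_dvd (by omega) (orderOf_dvd_of_pow_eq_one e)
    omega

/-- The elements of a given order. -/
noncomputable def ofOrder (G : Type*) [Group G] [Fintype G] (n : ℕ) : Finset G := Finset.univ.filter fun x => orderOf x = n

theorem mem_ofOrder {n : ℕ} {x : G} : x ∈ ofOrder G n ↔ orderOf x = n := by simp [ofOrder]

theorem Hyp.card_three (h : Hyp t φ) (c : Cfg 3 x s u) :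
    (ofOrder G 3).card * (2 * Nat.card (Oc x)) = Nat.card G := by
  rw [← (h.Oc_spec c).2.2, ← card_conj_class x]
  congr 2
  ext y
  simp only [mem_ofOrder, Finset.mem_filter, Finset.mem_univ, true_and]
  refine ⟨fun hy => ?_, ?_⟩
  · obtain ⟨g, hg⟩ := h.conj_into c hy
    rcases three_cases c.ord hg with e | e | e
    · rw [conj_eq_one_iff.mp e, orderOf_one] at hy; norm_num at hy
    · exact ⟨g⁻¹, by rw [← e]; group⟩
    · refine ⟨g⁻¹ * u, ?_⟩
      calc g⁻¹ * u * x * (g⁻¹ * u)⁻¹ = g⁻¹ * (u * x * u⁻¹) * g := by group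
        _ = y := by rw [← conj_invol c.u2, c.xu, ← e]; group
  · rintro ⟨g, rfl⟩
    rw [orderOf_conj, c.ord]

theorem five_cases {d y : G} (hy : orderOf y = 5) (hd : d ∈ Subgroup.zpowers y) :
    d = 1 ∨ d = y ∨ d = y ^ 2 ∨ d = (y ^ 2)⁻¹ ∨ d = y⁻¹ := by
  rw [← mem_powers_iff_mem_zpowers] at hd
  obtain ⟨n, rfl⟩ := hd
  show y ^ n = 1 ∨ y ^ n = y ∨ y ^ n = y ^ 2 ∨ y ^ n = (y ^ 2)⁻¹ ∨ y ^ n = y⁻¹
  rw [← pow_mod_orderOf, hy]
  have h5 : y ^ 5 = 1 := hy ▸ pow_orderOf_eq_one y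
  obtain e | e | e | e | e : n % 5 = 0 ∨ n % 5 = 1 ∨ n % 5 = 2 ∨ n % 5 = 3 ∨ n % 5 = 4 := by omega
  · exact Or.inl (by rw [e, pow_zero])
  · exact Or.inr (Or.inl (by rw [e, pow_one]))
  · exact Or.inr (Or.inr (Or.inl (by rw [e])))
  · exact Or.inr (Or.inr (Or.inr (Or.inl (by rw [e]; exact eq_inv_of_mul_eq_one_left (by rw [← pow_add, h5])))))
  · exact Or.inr (Or.inr (Or.inr (Or.inr (by rw [e]; exact eq_inv_of_mul_eq_one_left (by rw [← pow_succ, h5])))))

theorem Cfg.squared (c : Cfg 5 x s u) : Cfg 5 (x ^ 2) s u :=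
  { c with
    ord := by rw [orderOf_pow, c.ord]; norm_num
    xs := ((show Commute x s from c.xs).pow_left 2).eq
    xu := by rw [conj_invol c.u2, ← conj_pow, ← conj_invol c.u2, c.xu, inv_pow] }

theorem Hyp.not_conj_sq (h : Hyp t φ) (c : Cfg 5 x s u) (g : G) : g * x * g⁻¹ ≠ x ^ 2 := by
  intro hg
  obtain ⟨k, m, hm, hn⟩ := Nat.exists_eq_pow_mul_and_not_dvd (orderOf_pos g).ne' 2 (by norm_num)
  obtain ⟨i, hi⟩ := Nat.odd_iff.mpr (Nat.two_dvd_ne_zero.mp hm)
  have h5 : x ^ 5 = 1 := c.ord ▸ pow_orderOf_eq_one x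
  have hpow : ∀ n : ℕ, g ^ n * x * (g ^ n)⁻¹ = x ^ (2 ^ n) := by
    intro n
    induction n with
    | zero => simp
    | succ n ih =>
      calc g ^ (n + 1) * x * (g ^ (n + 1))⁻¹ = g * (g ^ n * x * (g ^ n)⁻¹) * g⁻¹ := by rw [pow_succ']; group
        _ = (g * x * g⁻¹) ^ (2 ^ n) := by rw [ih, conj_pow]
        _ = x ^ 2 ^ (n + 1) := by rw [hg, ← pow_mul, pow_succ']
  have hsq : g ^ m * g ^ m = 1 := h.two _ ⟨k, by rw [← pow_mul, mul_comm, ← hn, pow_orderOf_eq_one]⟩
  have hx := hpow (m + m)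
  rw [pow_add, hsq, one_mul, inv_one, mul_one] at hx
  refine c.x_not_inv ?_
  have h4 : 2 ^ (m + m) % 5 = 4 := by
    rw [hi, show 2 * i + 1 + (2 * i + 1) = 4 * i + 2 by ring, pow_add, pow_mul, Nat.mul_mod, Nat.pow_mod]
    norm_num
  rw [pow_eq_pow_mod (2 ^ (m + m)) h5, h4] at hx
  refine inv_eq_of_mul_eq_one_right ?_
  nth_rw 2 [hx]
  rw [← pow_succ', h5]

theorem Hyp.card_five (h : Hyp t φ) (c : Cfg 5 x s u) :
    (ofOrder G 5).card * (2 * Nat.card (Oc x)) = 2 * Nat.card G := by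
  let C : G → Finset G := fun z => Finset.univ.filter fun y : G => ∃ g : G, g * z * g⁻¹ = y
  have hU : ofOrder G 5 = C x ∪ C (x ^ 2) := by
    ext y
    simp only [C, mem_ofOrder, Finset.mem_union, Finset.mem_filter, Finset.mem_univ, true_and]
    refine ⟨fun hy => ?_, ?_⟩
    · obtain ⟨g, hg⟩ := h.conj_into c hy
      rcases five_cases c.ord hg with e | e | e | e | e
      · rw [conj_eq_one_iff.mp e, orderOf_one] at hy; norm_num at hy
      · exact Or.inl ⟨g⁻¹, by rw [← e]; group⟩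
      · exact Or.inr ⟨g⁻¹, by rw [← e]; group⟩
      · refine Or.inr ⟨g⁻¹ * u, ?_⟩
        calc g⁻¹ * u * x ^ 2 * (g⁻¹ * u)⁻¹ = g⁻¹ * (u * x ^ 2 * u⁻¹) * g := by group
          _ = y := by rw [← conj_invol c.u2, c.squared.xu, ← e]; group
      · refine Or.inl ⟨g⁻¹ * u, ?_⟩
        calc g⁻¹ * u * x * (g⁻¹ * u)⁻¹ = g⁻¹ * (u * x * u⁻¹) * g := by group
          _ = y := by rw [← conj_invol c.u2, c.xu, ← e]; group
    · rintro (⟨g, rfl⟩ | ⟨g, rfl⟩)
      · rw [orderOf_conj, c.ord]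
      · rw [orderOf_conj, c.squared.ord]
  have hdisj : Disjoint (C x) (C (x ^ 2)) := by
    rw [Finset.disjoint_left]
    intro y h1 h2
    obtain ⟨g1, rfl⟩ := (Finset.mem_filter.mp h1).2
    obtain ⟨g2, hg2⟩ := (Finset.mem_filter.mp h2).2
    exact h.not_conj_sq c (g2⁻¹ * g1) (by
      calc g2⁻¹ * g1 * x * (g2⁻¹ * g1)⁻¹ = g2⁻¹ * (g1 * x * g1⁻¹) * g2 := by group
        _ = x ^ 2 := by rw [← hg2]; group)
  have e1 : (C x).card * (2 * Nat.card (Oc x)) = Nat.card G := by
    rw [← (h.Oc_spec c).2.2]; exact card_conj_class x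
  have e2 : (C (x ^ 2)).card * (2 * Nat.card (Oc x)) = Nat.card G := by
    rw [h.card_Oc_eq c c.squared, ← (h.Oc_spec c.squared).2.2]; exact card_conj_class (x ^ 2)
  rw [hU, Finset.card_union_of_disjoint hdisj, add_mul, e1, e2, two_mul]

theorem fifteen_powers : ∀ n < 15, (Nat.gcd 15 n = 1 ∧ 10 * n % 15 = 10) ↔ n ∈ ({1, 4, 7, 13} : Finset ℕ) := by
  decide

theorem Hyp.fifteen_cent (h : Hyp t φ) {d : G} (hd : orderOf d = 15) :
    OddCent d ∧ ∃ r v, Cfg 3 (d ^ 10) r v ∧ d ∈ Oc (d ^ 10) := by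
  refine ⟨fun r hr hr1 hc => ?_, ?_⟩
  · obtain ⟨q, v, cd⟩ := h.exists_cfg (by rw [hd]; decide) (fun e => by simp [e] at hd) hr hr1 hc
    have := cd.ord.symm.trans hd
    rcases cd.pr with rfl | rfl <;> omega
  · obtain ⟨r, v, c⟩ := h.cfg_of_prime (Or.inl rfl) (y := d ^ 10) (by rw [orderOf_pow, hd]; norm_num)
    exact ⟨r, v, c, (h.mem_Oc c).mpr ⟨(Commute.self_pow d 10).eq, by rw [hd]; decide⟩⟩

theorem Hyp.fib_fifteen (h : Hyp t φ) {d : G} (hd : orderOf d = 15) : fib d = 15 := by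
  obtain ⟨hodd, r, v, c, hdO⟩ := h.fifteen_cent hd
  obtain ⟨v', c', hv⟩ := h.normal_form c
  obtain ⟨i, b, hi, hb, e⟩ := hv d hdO
  have hd1 : d ≠ 1 := fun e => by simp [e] at hd
  have hinv : r * v' * d * (r * v') = d⁻¹ := by
    have hb' : r * v' * b * (r * v') = b⁻¹ := by
      calc r * v' * b * (r * v') = r * (v' * b * (r * v')) := by group
        _ = r * (v' * b * (v' * r)) := by rw [c'.su]
        _ = r * (v' * b * v') * r := by group
        _ = _ := by rw [(commute_iff_conj c'.u2 b).mp (mem_Au.mp hb).2, h.Au_inverted c' hb]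
    rw [e, invol_mul_conj c'.third.u2, c'.third.zpow_u hi, hb', ← mul_inv_rev,
      h.Oc_comm c (mem_Au.mp hb).1 (Subgroup.zpowers_le.mpr (h.x_mem_Oc c) hi)]
  rw [h.fib_oddCent hd1 hodd c'.third.u2 c'.third.u1 hinv, ← (h.Oc_fifteen c).1 ⟨d, hd⟩]
  congr 2
  refine le_antisymm (fun z hz => ?_) (fun z hz => ?_)
  · rw [mem_centralizer_singleton_iff] at hz
    exact (h.mem_Oc c).mpr ⟨((show Commute z d from hz).pow_right 10).eq, hodd.odd_mem hz⟩
  · exact mem_centralizer_singleton_iff.mpr (h.Oc_comm c hz hdO)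

theorem Hyp.card_fifteen (h : Hyp t φ) (h15 : ∃ d : G, orderOf d = 15) :
    (ofOrder G 15).card = 4 * (ofOrder G 3).card := by
  rw [Finset.card_eq_sum_card_fiberwise (s := ofOrder G 15) (t := ofOrder G 3) (f := fun d => d ^ 10)
    (fun d hd => Finset.mem_coe.mpr (mem_ofOrder.mpr (by
      rw [orderOf_pow, mem_ofOrder.mp (Finset.mem_coe.mp hd)]; norm_num))), mul_comm, ← smul_eq_mul,
    ← Finset.sum_const]
  refine Finset.sum_congr rfl fun y hy => ?_
  obtain ⟨r, v, c⟩ := h.cfg_of_prime (Or.inl rfl) (mem_ofOrder.mp hy)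
  obtain ⟨ρ, hρ, hρy, hρO⟩ : ∃ ρ, orderOf ρ = 15 ∧ ρ ^ 10 = y ∧ Oc y = Subgroup.zpowers ρ := by
    have hcard := (h.Oc_fifteen c).1 h15
    obtain ⟨v', c', hv⟩ := h.normal_form c
    obtain ⟨b, hb, hb1⟩ : ∃ b ∈ Au y v', b ≠ 1 := by
      by_contra hA
      push Not at hA
      have hle : Oc y ≤ Subgroup.zpowers y := fun z hz => by
        obtain ⟨i, b, hi, hb, rfl⟩ := hv z hz
        rwa [hA b hb, mul_one]
      have := Subgroup.card_le_of_le hle
      rw [hcard, Nat.card_zpowers, c.ord] at this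
      omega
    have hρ := h.orderOf_mul c' (Subgroup.mem_zpowers y) c.x1 hb hb1
    have hb5 : orderOf b = 5 := by have := (h.Au_prime c' hb hb1).1; omega
    refine ⟨y * b, hρ, ?_, ?_⟩
    · have hy3 : y ^ 3 = 1 := c.ord ▸ pow_orderOf_eq_one y
      have hbp : b ^ 5 = 1 := hb5 ▸ pow_orderOf_eq_one b
      rw [(h.Au_commute c' hb).mul_pow, show (10 : ℕ) = 5 * 2 from rfl, pow_mul b, hbp, one_pow, mul_one,
        show 5 * 2 = 3 * 3 + 1 from rfl, pow_succ, pow_mul, hy3, one_pow, one_mul]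
    · have hle : Subgroup.zpowers (y * b) ≤ Oc y :=
        Subgroup.zpowers_le.mpr (mul_mem (h.x_mem_Oc c) (mem_Au.mp hb).1)
      exact (Subgroup.eq_of_le_of_card_ge hle (by rw [hcard, Nat.card_zpowers, hρ])).symm
  rw [show (ofOrder G 15).filter (fun d => d ^ 10 = y) = ({1, 4, 7, 13} : Finset ℕ).image (fun n => ρ ^ n) by
    ext d
    simp only [Finset.mem_filter, mem_ofOrder, Finset.mem_image]
    constructor
    · rintro ⟨hd, hdy⟩
      have hdO : d ∈ Oc y := (h.mem_Oc c).mpr ⟨by rw [← hdy]; exact (Commute.self_pow d 10).eq, by rw [hd]; decide⟩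
      rw [hρO, mem_zpowers_iff_mem_range_orderOf, Finset.mem_image] at hdO
      obtain ⟨n, hn, rfl⟩ := hdO
      rw [Finset.mem_range, hρ] at hn
      refine ⟨n, (fifteen_powers n hn).mp ⟨?_, ?_⟩, rfl⟩
      · rw [orderOf_pow, hρ] at hd
        have hg := Nat.gcd_dvd_left 15 n
        rw [Nat.div_eq_self] at hd
        omega
      · rw [← hρy, ← pow_mul, pow_inj_mod, hρ] at hdy
        omega
    · rintro ⟨n, hn, rfl⟩
      have hlt : n < 15 := by simp only [Finset.mem_insert, Finset.mem_singleton] at hn; omega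
      obtain ⟨h1, h2⟩ := (fifteen_powers n hlt).mpr hn
      refine ⟨by rw [orderOf_pow, hρ, h1], ?_⟩
      rw [← hρy, ← pow_mul, pow_inj_mod, hρ]
      omega]
  rw [Finset.card_image_of_injOn]
  · rfl
  · intro a ha b hb e
    simp only [Finset.coe_insert, Finset.coe_singleton, Set.mem_insert_iff, Set.mem_singleton_iff] at ha hb
    exact pow_injOn_Iio_orderOf (Set.mem_Iio.mpr (by omega)) (Set.mem_Iio.mpr (by omega)) e

/-- The strongly real elements with centraliser of odd order, not of order fifteen. -/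
noncomputable def pureSet (G : Type*) [Group G] [Fintype G] : Finset G :=
  open Classical in Finset.univ.filter fun x => Pure x

theorem mem_pureSet {x : G} : x ∈ pureSet G ↔ Pure x := by
  classical
  simp [pureSet]

theorem Hyp.split (h : Hyp t φ) (x : G) : fib x = (if x = 1 then fib x else 0) +
    (if Even (orderOf x) then fib x else 0) + (if orderOf x = 3 then fib x else 0) +
    (if orderOf x = 5 then fib x else 0) + (if orderOf x = 15 then fib x else 0) +
    (if x ∈ pureSet G then fib x else 0) := by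
  by_cases hP : x ∈ pureSet G
  · have hx := mem_pureSet.mp hP
    have hn : ∀ q, (q = 3 ∨ q = 5) → orderOf x ≠ q := fun q hq e => by
      obtain ⟨r, v, cx⟩ := h.cfg_of_prime hq e
      exact hx.odd r cx.s2 cx.s1 cx.xs
    rw [if_neg hx.ne, if_neg (Nat.not_even_iff_odd.mpr hx.odd.odd_self), if_neg (hn 3 (Or.inl rfl)),
      if_neg (hn 5 (Or.inr rfl)), if_neg hx.ord, if_pos hP]
    simp
  rw [if_neg hP]
  by_cases h1 : x = 1
  · subst h1; simp
  rw [if_neg h1]
  by_cases he : Even (orderOf x)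
  · have hne : ∀ n, Odd n → orderOf x ≠ n := fun n hn e => Nat.not_even_iff_odd.mpr hn (e ▸ he)
    rw [if_pos he, if_neg (hne 3 (by decide)), if_neg (hne 5 (by decide)), if_neg (hne 15 (by decide))]
    simp
  rw [if_neg he]
  by_cases h3 : orderOf x = 3
  · rw [if_pos h3, if_neg (by omega), if_neg (by omega)]; simp
  rw [if_neg h3]
  by_cases h5 : orderOf x = 5
  · rw [if_pos h5, if_neg (by omega)]; simp
  rw [if_neg h5]
  by_cases h15 : orderOf x = 15
  · rw [if_pos h15]; simp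
  rw [if_neg h15]
  by_contra hne
  have hpos : fib x ≠ 0 := fun e => hne (by simp [e])
  obtain ⟨⟨r, hr⟩⟩ := (Nat.card_ne_zero.mp hpos).1
  refine hP (mem_pureSet.mpr ⟨h1, fun v hv hv1 hc => ?_, h15, r, hr.1.1, hr.1.2, inv_of_fibre hr⟩)
  obtain ⟨q, w, cx⟩ := h.exists_cfg (Nat.not_even_iff_odd.mp he) h1 hv hv1 hc
  rcases cx.pr with rfl | rfl
  · exact h3 cx.ord
  · exact h5 cx.ord

/-- The basic equation. -/
theorem Hyp.equation (h : Hyp t φ) : ∃ k : ℕ, (k = 751 ∨ k = 863 ∧ ∃ d : G, orderOf d = 15) ∧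
    (invols G).card * (invols G).card =
      k * (invols G).card + ∑ x ∈ pureSet G, Nat.card (Subgroup.centralizer ({x} : Set G)) := by
  set I := (invols G).card with hI
  have hg := h.card_eq
  rw [← hI] at hg
  obtain ⟨⟨u3, c3⟩, ⟨u5, c5⟩⟩ := h.exists_base_cfg
  have hsum : I * I = I + I * 390 + ∑ x ∈ ofOrder G 3, fib x + ∑ x ∈ ofOrder G 5, fib x +
      ∑ x ∈ ofOrder G 15, fib x + ∑ x ∈ pureSet G, fib x := by
    rw [← sum_fib, Finset.sum_congr rfl fun x _ => h.split x, Finset.sum_add_distrib, Finset.sum_add_distrib,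
      Finset.sum_add_distrib, Finset.sum_add_distrib, Finset.sum_add_distrib, Finset.sum_ite_eq' Finset.univ 1,
      if_pos (Finset.mem_univ _), fib_one, ← hI]
    simp only [← Finset.sum_filter, Finset.filter_mem_eq_inter, Finset.univ_inter]
    rw [h.sum_even]
    rfl
  have hconst : ∀ q, (q = 3 ∨ q = 5) → ∀ v, ((∃ d : G, orderOf d = 15) → v = q + 15) →
      ((¬ ∃ d : G, orderOf d = 15) → v = 2 * q) → ∀ x ∈ ofOrder G q, fib x = v := by
    intro q hq v hv hv' x hx
    obtain ⟨r, w, cx⟩ := h.cfg_of_prime hq (mem_ofOrder.mp hx)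
    by_cases h15 : ∃ d : G, orderOf d = 15
    · rw [(h.fib_prime cx).1 h15, hv h15]
    · rw [(h.fib_prime cx).2 h15, hv' h15]
  have hpure : ∑ x ∈ pureSet G, fib x = ∑ x ∈ pureSet G, Nat.card (Subgroup.centralizer ({x} : Set G)) :=
    Finset.sum_congr rfl fun x hx => by
      obtain ⟨r, hr, hr1, hinv⟩ := (mem_pureSet.mp hx).inv
      exact h.fib_oddCent (mem_pureSet.mp hx).ne (mem_pureSet.mp hx).odd hr hr1 hinv
  have n3 := h.card_three c3
  have n5 := h.card_five c5
  rw [hg] at n3 n5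
  rw [hpure, Finset.sum_congr rfl (fun x hx => h.fib_fifteen (mem_ofOrder.mp hx))] at hsum
  by_cases h15 : ∃ d : G, orderOf d = 15
  · rw [Finset.sum_congr rfl (hconst 3 (Or.inl rfl) 18 (fun _ => rfl) (fun e => absurd h15 e)),
      Finset.sum_congr rfl (hconst 5 (Or.inr rfl) 20 (fun _ => rfl) (fun e => absurd h15 e))] at hsum
    simp only [Finset.sum_const, smul_eq_mul, h.card_fifteen h15] at hsum
    rw [(h.Oc_fifteen c3).1 h15] at n3
    rw [(h.Oc_fifteen c5).1 h15] at n5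
    exact ⟨863, Or.inr ⟨rfl, h15⟩, by omega⟩
  · rw [Finset.sum_congr rfl (hconst 3 (Or.inl rfl) 6 (fun e => absurd e h15) (fun _ => rfl)),
      Finset.sum_congr rfl (hconst 5 (Or.inr rfl) 10 (fun e => absurd e h15) (fun _ => rfl))] at hsum
    have h0 : (ofOrder G 15).card = 0 :=
      Finset.card_eq_zero.mpr (Finset.eq_empty_of_forall_notMem fun d hd => h15 ⟨d, mem_ofOrder.mp hd⟩)
    simp only [Finset.sum_const, smul_eq_mul, h0, zero_mul] at hsum
    rw [(h.Oc_fifteen c3).2 h15, Nat.card_zpowers, c3.ord] at n3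
    rw [(h.Oc_fifteen c5).2 h15, Nat.card_zpowers, c5.ord] at n5
    exact ⟨751, Or.inl rfl, by omega⟩

end CfsgLib.JankoOne
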