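/-
The arithmetic of the classes of self-centralising subgroups of odd order.
-/
import Mathlib

set_option autoImplicit false

namespace CfsgLib.JankoOne

/-- The conditions on one class, with `a` the order and `e` the automiser. -/
def goodC (I a e : ℕ) : Bool :=
  (7 ≤ a) && (Nat.gcd a 30 == 1) && ((a - 1) % e == 0) && (I % a == 0) && (120 / e * (I / a) % a == 1)

theorem goodC_iff {I a e : ℕ} : goodC I a e = true ↔
    7 ≤ a ∧ Nat.gcd a 30 = 1 ∧ (a - 1) % e = 0 ∧ I % a = 0 ∧ 120 / e * (I / a) % a = 1 := by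
  simp [goodC, and_assoc]

/-- The conclusion of the search. -/
def endC (I k : ℕ) : Bool := !(I % 7 == 0 && Nat.gcd I 30 == 1) || (I == 1463 && k == 863)

/-- One class. -/
def check1 (k e M : ℕ) : Bool :=
  let q := 120 / e
  let c := (k - q) / (M - q)
  let I := M * c
  !(I == k + q * (c - 1) && goodC I c e) || endC I k

/-- Two classes. -/
def check2 (k d e a M : ℕ) : Bool :=
  let q := 120 / e
  let R := k + 120 / d * (a - 1)
  let c := (R - q) / (M * a - q)
  let I := M * a * c
  !(I == R + q * (c - 1) && goodC I a d && goodC I c e) || endC I k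

/-- Three classes. -/
def check3 (k d d' e a b M : ℕ) : Bool :=
  let q := 120 / e
  let R := k + 120 / d * (a - 1) + 120 / d' * (b - 1)
  let c := (R - q) / (M * (a * b) - q)
  let I := M * (a * b) * c
  !(I == R + q * (c - 1) && goodC I a d && goodC I b d' && goodC I c e) || endC I k

theorem check1_all : ∀ k ∈ [751, 863], ∀ e ∈ [2, 6, 10], ∀ M < 184, check1 k e M = true := by decide +kernel

theorem check2_all : ∀ k ∈ [751, 863], ∀ d ∈ [2, 6, 10], ∀ e ∈ [2, 6, 10], ∀ a < 199, 7 ≤ a → Nat.gcd a 30 = 1 →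
    ∀ M < 199 / a + 1, check2 k d e a M = true := by decide +kernel

theorem check3_all : ∀ k ∈ [751, 863], ∀ d ∈ [2, 6, 10], ∀ d' ∈ [2, 6, 10], ∀ e ∈ [2, 6, 10],
    ∀ a < 16, 7 ≤ a → Nat.gcd a 30 = 1 → ∀ b < 36, a < b → Nat.gcd b 30 = 1 →
      ∀ M < 4, check3 k d d' e a b M = true := by decide +kernel

/-- The last unknown is determined by the cofactor. -/
theorem last_eq {R q M c I : ℕ} (hI : I = M * c) (he : I = R + q * (c - 1)) (hq : q < R) (hc : 1 ≤ c) :
    c = (R - q) / (M - q) := by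
  have hq' : q * (c - 1) + q = q * c := by
    rw [← Nat.mul_succ, Nat.succ_eq_add_one, Nat.sub_add_cancel hc]
  have hlt : q * c < M * c := by omega
  have hqM : q < M := Nat.lt_of_mul_lt_mul_right hlt
  have h2 : (M - q) * c = R - q := by rw [Nat.sub_mul]; omega
  rw [← h2, Nat.mul_div_cancel_left c (by omega)]

theorem q_le {e : ℕ} (h : e ∈ [2, 6, 10]) : 120 / e ≤ 60 := by
  simp only [List.mem_cons, List.not_mem_nil, or_false] at h
  rcases h with rfl | rfl | rfl <;> norm_num

theorem big_pow : ∀ n : ℕ, 4 ≤ n → 51 + 60 * n ≤ 7 ^ (n - 1) := by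
  intro n hn
  obtain ⟨m, rfl⟩ := Nat.exists_eq_add_of_le hn
  rw [show 4 + m - 1 = 3 + m by omega]
  induction m with
  | zero => norm_num
  | succ m ih =>
    rw [← Nat.add_assoc 3 m 1, pow_succ]
    have := ih (by omega)
    omega

theorem endC_spec {I k : ℕ} (h7 : 7 ∣ I) (h30 : Nat.Coprime I 30) (h : endC I k = true) : I = 1463 ∧ k = 863 := by
  simpa [endC, Nat.mod_eq_zero_of_dvd (Nat.dvd_trans (dvd_refl 7) h7), Nat.coprime_iff_gcd_eq_one.mpr h30] using h

variable {k I : ℕ}

theorem search_one (hk : k ∈ [751, 863]) (h7 : 7 ∣ I) (h30 : Nat.Coprime I 30) {a e : ℕ} (he : e ∈ [2, 6, 10])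
    (hg : goodC I a e = true) (heq : I = k + 120 / e * (a - 1)) : I = 1463 ∧ k = 863 := by
  obtain ⟨ha, -, -, hd, -⟩ := goodC_iff.mp hg
  have hkb : 751 ≤ k ∧ k ≤ 863 := by
    simp only [List.mem_cons, List.not_mem_nil, or_false] at hk; omega
  have hq := q_le he
  obtain ⟨M, hM⟩ := Nat.dvd_of_mod_eq_zero hd
  rw [Nat.mul_comm] at hM
  have hb : M < 184 := by
    have h1 : M * a ≤ 863 + 60 * a := by
      have := Nat.mul_le_mul hq (Nat.sub_le a 1)
      omega
    nlinarith
  have hc := last_eq hM heq (by omega) (by omega)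
  have := check1_all k hk e he M hb
  rw [check1, ← hc, ← hM] at this
  simp only [Bool.or_eq_true, Bool.not_eq_true', Bool.and_eq_false_imp, beq_iff_eq] at this
  rcases this with h | h
  · exact absurd hg (by simp [h heq])
  · exact endC_spec h7 h30 h

theorem search_two (hk : k ∈ [751, 863]) (h7 : 7 ∣ I) (h30 : Nat.Coprime I 30) {a b d e : ℕ} (hd : d ∈ [2, 6, 10])
    (he : e ∈ [2, 6, 10]) (hga : goodC I a d = true) (hgb : goodC I b e = true) (hab : a < b)
    (hcop : Nat.Coprime a b) (heq : I = k + 120 / d * (a - 1) + 120 / e * (b - 1)) : I = 1463 ∧ k = 863 := by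
  obtain ⟨ha, ha30, -, hda, -⟩ := goodC_iff.mp hga
  obtain ⟨hb7, hb30, -, hdb, -⟩ := goodC_iff.mp hgb
  have hkb : 751 ≤ k ∧ k ≤ 863 := by
    simp only [List.mem_cons, List.not_mem_nil, or_false] at hk; omega
  have hq := q_le he
  have hq' := q_le hd
  obtain ⟨M, hM⟩ := hcop.mul_dvd_of_dvd_of_dvd (Nat.dvd_of_mod_eq_zero hda) (Nat.dvd_of_mod_eq_zero hdb)
  have hb11 : 11 ≤ b := by
    by_contra hlt
    exact (show ∀ n < 11, 7 < n → Nat.gcd n 30 ≠ 1 by decide) b (by omega) (by omega) hb30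
  have h1 : M * a * b ≤ 863 + 120 * b := by
    have := Nat.mul_le_mul hq (Nat.sub_le b 1)
    have := Nat.mul_le_mul hq' (show a - 1 ≤ b by omega)
    have e1 : M * a * b = a * b * M := by ring
    omega
  have hMa : M * a ≤ 198 := by nlinarith
  have hM1 : 1 ≤ M := Nat.one_le_iff_ne_zero.mpr (by rintro rfl; simp at hM; omega)
  have ha2 : a < 199 := by nlinarith
  have hM2 : M < 199 / a + 1 := Nat.lt_succ_of_le ((Nat.le_div_iff_mul_le (by omega)).mpr (by omega))
  have hI : I = M * a * b := by rw [hM]; ring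
  have hc := last_eq hI heq (by omega) (by omega)
  have := check2_all k hk d hd e he a ha2 ha ha30 M hM2
  rw [check2, ← hc, ← hI] at this
  simp only [Bool.or_eq_true, Bool.not_eq_true', Bool.and_eq_false_imp, Bool.and_eq_true, beq_iff_eq] at this
  rcases this with h | h
  · exact absurd hgb (by simp [h ⟨heq, hga⟩])
  · exact endC_spec h7 h30 h

theorem search_three (hk : k ∈ [751, 863]) (h7 : 7 ∣ I) (h30 : Nat.Coprime I 30) {a b c d d' e : ℕ}
    (hd : d ∈ [2, 6, 10]) (hd' : d' ∈ [2, 6, 10]) (he : e ∈ [2, 6, 10]) (hga : goodC I a d = true)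
    (hgb : goodC I b d' = true) (hgc : goodC I c e = true) (hab : a < b) (hbc : b < c)
    (hcab : Nat.Coprime a b) (hcac : Nat.Coprime a c) (hcbc : Nat.Coprime b c)
    (heq : I = k + 120 / d * (a - 1) + 120 / d' * (b - 1) + 120 / e * (c - 1)) : I = 1463 ∧ k = 863 := by
  obtain ⟨ha, ha30, -, hda, -⟩ := goodC_iff.mp hga
  obtain ⟨-, hb30, -, hdb, -⟩ := goodC_iff.mp hgb
  obtain ⟨-, hc30, -, hdc, -⟩ := goodC_iff.mp hgc
  have hkb : 751 ≤ k ∧ k ≤ 863 := by
    simp only [List.mem_cons, List.not_mem_nil, or_false] at hk; omega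
  have hq := q_le he
  have hq1 := q_le hd
  have hq2 := q_le hd'
  obtain ⟨M, hM⟩ := (Nat.Coprime.mul_left hcac hcbc).mul_dvd_of_dvd_of_dvd
    (hcab.mul_dvd_of_dvd_of_dvd (Nat.dvd_of_mod_eq_zero hda) (Nat.dvd_of_mod_eq_zero hdb))
    (Nat.dvd_of_mod_eq_zero hdc)
  have hb11 : 11 ≤ b := by
    by_contra hlt
    exact (show ∀ n < 11, 7 < n → Nat.gcd n 30 ≠ 1 by decide) b (by omega) (by omega) hb30
  have hc13 : 13 ≤ c := by
    by_contra hlt
    exact (show ∀ n < 13, 11 < n → Nat.gcd n 30 ≠ 1 by decide) c (by omega) (by omega) hc30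
  have h1 : M * (a * b) * c ≤ 863 + 180 * c := by
    have := Nat.mul_le_mul hq (Nat.sub_le c 1)
    have := Nat.mul_le_mul hq1 (show a - 1 ≤ c by omega)
    have := Nat.mul_le_mul hq2 (show b - 1 ≤ c by omega)
    have e1 : M * (a * b) * c = a * b * c * M := by ring
    omega
  have hP : M * (a * b) ≤ 246 := by nlinarith
  have hM1 : 1 ≤ M := Nat.one_le_iff_ne_zero.mpr (by rintro rfl; simp at hM; omega)
  have hab' : a * b ≤ 246 := le_trans (Nat.le_mul_of_pos_left _ hM1) hP
  have ha2 : a < 16 := by nlinarith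
  have hb2 : b < 36 := by nlinarith
  have hM2 : M < 4 := by
    have := Nat.mul_le_mul_left M (Nat.mul_le_mul ha hb11)
    omega
  have hI : I = M * (a * b) * c := by rw [hM]; ring
  have hc := last_eq hI heq (by omega) (by omega)
  have := check3_all k hk d hd d' hd' e he a ha2 ha ha30 b hb2 hab hb30 M hM2
  rw [check3, ← hc, ← hI] at this
  simp only [Bool.or_eq_true, Bool.not_eq_true', Bool.and_eq_false_imp, Bool.and_eq_true, beq_iff_eq] at this
  rcases this with h | h
  · exact absurd hgc (by simp [h ⟨⟨heq, hga⟩, hgb⟩])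
  · exact endC_spec h7 h30 h

theorem no_four {ι : Type*} [DecidableEq ι] (C : Finset ι) (a e : ι → ℕ) (hk : k ≤ 863) (hI : 0 < I)
    (he : ∀ c ∈ C, e c ∈ [2, 6, 10]) (hg : ∀ c ∈ C, goodC I (a c) (e c) = true)
    (hcop : ∀ c ∈ C, ∀ d ∈ C, c ≠ d → Nat.Coprime (a c) (a d))
    (heq : I = k + ∑ c ∈ C, 120 / e c * (a c - 1)) : C.card ≤ 3 := by
  by_contra hn
  obtain ⟨m, hm, hmax⟩ := C.exists_max_image a (Finset.card_pos.mp (by omega))
  have hinj : Set.InjOn a C := by
    intro c hc d hd hcd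
    by_contra hne
    have := hcop c hc d hd hne
    rw [hcd, Nat.coprime_self] at this
    have := (goodC_iff.mp (hg d hd)).1
    omega
  have hm17 : 17 ≤ a m := by
    by_contra hlt
    have hsub : C.image a ⊆ {7, 11, 13} := by
      intro x hx
      obtain ⟨c, hc, rfl⟩ := Finset.mem_image.mp hx
      obtain ⟨h7, h30, -⟩ := goodC_iff.mp (hg c hc)
      have := hmax c hc
      simp only [Finset.mem_insert, Finset.mem_singleton]
      exact (show ∀ n < 17, 7 ≤ n → Nat.gcd n 30 = 1 → n = 7 ∨ n = 11 ∨ n = 13 by decide) (a c) (by omega) h7 h30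
    have := Finset.card_le_card hsub
    rw [Finset.card_image_of_injOn hinj] at this
    have := this.trans (Finset.card_insert_le _ _)
    simp at this
    omega
  have hdvd : (∏ c ∈ C, a c) ∣ I := Finset.prod_dvd_of_isRelPrime
    (fun c hc d hd hne => Nat.coprime_iff_isRelPrime.mp (hcop c hc d hd hne))
    fun c hc => Nat.dvd_of_mod_eq_zero (goodC_iff.mp (hg c hc)).2.2.2.1
  rw [← Finset.mul_prod_erase C a hm] at hdvd
  have h1 := Nat.le_of_dvd hI hdvd
  have h2 : 7 ^ (C.card - 1) ≤ ∏ c ∈ C.erase m, a c := by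
    rw [← Finset.card_erase_of_mem hm]
    exact Finset.pow_card_le_prod _ _ _ fun c hc => (goodC_iff.mp (hg c (Finset.mem_of_mem_erase hc))).1
  have h3 : ∑ c ∈ C, 120 / e c * (a c - 1) ≤ C.card * (60 * a m) :=
    (Finset.sum_le_card_nsmul _ _ _ fun c hc =>
      Nat.mul_le_mul (q_le (he c hc)) ((Nat.sub_le _ _).trans (hmax c hc))).trans (smul_eq_mul _ _).le
  have h4 := big_pow C.card (by omega)
  have h5 : a m * 7 ^ (C.card - 1) ≤ a m * ∏ c ∈ C.erase m, a c := Nat.mul_le_mul_left _ h2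
  have h6 : a m * (51 + 60 * C.card) ≤ a m * 7 ^ (C.card - 1) := Nat.mul_le_mul_left _ h4
  nlinarith

/-- The arithmetic has a unique solution. -/
theorem search {ι : Type*} [DecidableEq ι] (C : Finset ι) (a e : ι → ℕ) (hk : k = 751 ∨ k = 863)
    (h7 : 7 ∣ I) (h30 : Nat.Coprime I 30)
    (he : ∀ c ∈ C, e c ∈ [2, 6, 10]) (hg : ∀ c ∈ C, goodC I (a c) (e c) = true)
    (hcop : ∀ c ∈ C, ∀ d ∈ C, c ≠ d → Nat.Coprime (a c) (a d))
    (heq : I = k + ∑ c ∈ C, 120 / e c * (a c - 1)) : I = 1463 ∧ k = 863 := by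
  have hk' : k ∈ [751, 863] := by simpa using hk
  have hne : ∀ c ∈ C, ∀ d ∈ C, c ≠ d → a c ≠ a d := fun c hc d hd h e' => by
    have := hcop c hc d hd h
    rw [e', Nat.coprime_self] at this
    have := (goodC_iff.mp (hg d hd)).1
    omega
  have h3 := no_four C a e (by omega) (by omega) he hg hcop heq
  obtain h | h | h | h : C.card = 0 ∨ C.card = 1 ∨ C.card = 2 ∨ C.card = 3 := by omega
  · rw [Finset.card_eq_zero.mp h, Finset.sum_empty] at heq
    omega
  · obtain ⟨x, rfl⟩ := Finset.card_eq_one.mp h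
    rw [Finset.sum_singleton] at heq
    exact search_one hk' h7 h30 (he x (by simp)) (hg x (by simp)) heq
  · obtain ⟨x, y, hxy, rfl⟩ := Finset.card_eq_two.mp h
    rw [Finset.sum_pair hxy] at heq
    rcases lt_or_gt_of_ne (hne x (by simp) y (by simp) hxy) with hl | hl
    · exact search_two hk' h7 h30 (he x (by simp)) (he y (by simp)) (hg x (by simp)) (hg y (by simp)) hl
        (hcop x (by simp) y (by simp) hxy) (by omega)
    · exact search_two hk' h7 h30 (he y (by simp)) (he x (by simp)) (hg y (by simp)) (hg x (by simp)) hl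
        (hcop y (by simp) x (by simp) hxy.symm) (by omega)
  · obtain ⟨x, y, z, hxy, hxz, hyz, rfl⟩ := Finset.card_eq_three.mp h
    rw [Finset.sum_insert (by simp [hxy, hxz]), Finset.sum_pair hyz] at heq
    have key : ∀ u v w, u ∈ ({x, y, z} : Finset ι) → v ∈ ({x, y, z} : Finset ι) → w ∈ ({x, y, z} : Finset ι) →
        a u < a v → a v < a w →
        I = k + 120 / e u * (a u - 1) + 120 / e v * (a v - 1) + 120 / e w * (a w - 1) → I = 1463 ∧ k = 863 := by
      intro u v w hu hv hw huv hvw he'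
      exact search_three hk' h7 h30 (he u hu) (he v hv) (he w hw) (hg u hu) (hg v hv) (hg w hw) huv hvw
        (hcop u hu v hv (by rintro rfl; omega)) (hcop u hu w hw (by rintro rfl; omega))
        (hcop v hv w hw (by rintro rfl; omega)) he'
    have hx : x ∈ ({x, y, z} : Finset ι) := by simp
    have hy : y ∈ ({x, y, z} : Finset ι) := by simp
    have hz : z ∈ ({x, y, z} : Finset ι) := by simp
    rcases lt_or_gt_of_ne (hne x hx y hy hxy) with h1 | h1 <;>
      rcases lt_or_gt_of_ne (hne x hx z hz hxz) with h2 | h2 <;>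
      rcases lt_or_gt_of_ne (hne y hy z hz hyz) with h3 | h3
    all_goals first
      | exact key x y z hx hy hz h1 h3 (by omega)
      | exact key x z y hx hz hy h2 h3 (by omega)
      | exact key y x z hy hx hz h1 h2 (by omega)
      | exact key y z x hy hz hx h3 h2 (by omega)
      | exact key z x y hz hx hy h2 h1 (by omega)
      | exact key z y x hz hy hx h3 h1 (by omega)
      | omega

end CfsgLib.JankoOne
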