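/-
The classes of self-centralising subgroups of odd order, and the order of the group.
-/
import Cfsg.Agent.Lib.JankoOne.Automiser
import Cfsg.Agent.Lib.JankoOne.Count
import Cfsg.Agent.Lib.JankoOne.Search

set_option autoImplicit false
set_option linter.unusedSectionVars false

namespace CfsgLib.JankoOne

open Subgroup Finset
open CfsgLib.Involutions (orderOf_conj)

variable {G : Type*} [Group G] [Fintype G] [DecidableEq G] {t : G} {φ : K →* G} {B B' : Subgroup G}

/-- The conjugate of a subgroup. -/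
abbrev conjSub (g : G) (B : Subgroup G) : Subgroup G := B.map (MulAut.conj g).toMonoidHom

theorem mem_conjSub {g z : G} : z ∈ conjSub g B ↔ g⁻¹ * z * g ∈ B := by
  constructor
  · rintro ⟨w, hw, rfl⟩
    rwa [show g⁻¹ * ((MulAut.conj g).toMonoidHom w) * g = w by
      show g⁻¹ * (g * w * g⁻¹) * g = w
      group]
  · intro hz
    exact ⟨_, hz, show g * (g⁻¹ * z * g) * g⁻¹ = z by group⟩

theorem conjSub_mul (g k : G) : conjSub (g * k) B = conjSub g (conjSub k B) := by
  ext z
  simp only [mem_conjSub, mul_inv_rev, mul_assoc]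

theorem conjSub_one : conjSub 1 B = B := by
  ext z
  simp [mem_conjSub]

theorem conjSub_eq_iff {g : G} : conjSub g B = B ↔ g ∈ normalizer (B : Set G) := by
  rw [← inv_mem_iff (x := g), Subgroup.mem_normalizer_iff, SetLike.ext_iff]
  simp only [mem_conjSub, inv_inv]
  exact forall_congr' fun z => iff_comm

theorem card_conjSub (g : G) : Nat.card (conjSub g B) = Nat.card B :=
  Subgroup.card_map_of_injective (MulAut.conj g).injective

theorem IsPC.conj (hB : IsPC B) (g : G) : IsPC (conjSub g B) := by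
  obtain ⟨x, hx, rfl⟩ := hB
  refine ⟨g * x * g⁻¹, Hyp.pure_conj hx g, ?_⟩
  ext z
  rw [mem_conjSub, mem_centralizer_singleton_iff, mem_centralizer_singleton_iff]
  constructor
  · intro e
    calc g⁻¹ * z * g * x = g⁻¹ * (z * (g * x * g⁻¹)) * g := by group
      _ = x * (g⁻¹ * z * g) := by rw [e]; group
  · intro e
    calc z * (g * x * g⁻¹) = g * (g⁻¹ * z * g * x) * g⁻¹ := by group
      _ = g * x * g⁻¹ * z := by rw [e]; group

/-- The conjugacy class of a subgroup. -/
noncomputable def cls (B : Subgroup G) : Finset (Subgroup G) :=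
  open Classical in Finset.univ.image fun g => conjSub g B

theorem mem_cls : B' ∈ cls B ↔ ∃ g, conjSub g B = B' := by
  classical
  simp [cls]

theorem self_mem_cls : B ∈ cls B := mem_cls.mpr ⟨1, conjSub_one⟩

theorem cls_eq (h : B' ∈ cls B) : cls B' = cls B := by
  obtain ⟨g, rfl⟩ := mem_cls.mp h
  ext C
  rw [mem_cls, mem_cls]
  constructor
  · rintro ⟨k, rfl⟩
    exact ⟨k * g, conjSub_mul k g⟩
  · rintro ⟨k, rfl⟩
    exact ⟨k * g⁻¹, by rw [← conjSub_mul]; congr 1; group⟩

theorem card_cls (B : Subgroup G) : (cls B).card * Nat.card (normalizer (B : Set G)) = Nat.card G := by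
  classical
  have hc : ∀ C ∈ cls B,
      (Finset.univ.filter fun g : G => conjSub g B = C).card = Nat.card (normalizer (B : Set G)) := by
    intro C hC
    obtain ⟨g, rfl⟩ := mem_cls.mp hC
    rw [← Fintype.card_subtype, ← Nat.card_eq_fintype_card]
    refine (Nat.card_congr (Equiv.subtypeEquiv (Equiv.mulLeft g) fun c => ?_)).symm
    rw [Equiv.coe_mulLeft, conjSub_mul, ← conjSub_eq_iff]
    exact ⟨fun e => by rw [e], fun e => (Subgroup.map_injective (MulAut.conj g).injective) e⟩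
  rw [← smul_eq_mul, ← Finset.sum_const, ← Finset.sum_congr rfl hc,
    ← Finset.card_eq_sum_card_fiberwise (s := (Finset.univ : Finset G)) (f := fun g => conjSub g B)
      (fun g _ => Finset.mem_coe.mpr (mem_cls.mpr ⟨g, rfl⟩)),
    Finset.card_univ, Nat.card_eq_fintype_card]

theorem dvd_card_of_free {M X : Type*} [Group M] [MulAction M X] [Finite M] [Finite X]
    (free : ∀ (m : M) (x : X), m • x = x → m = 1) : Nat.card M ∣ Nat.card X := by
  classical
  haveI := Fintype.ofFinite (MulAction.orbitRel.Quotient M X)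
  rw [Nat.card_congr (MulAction.selfEquivSigmaOrbits M X), Nat.card_sigma]
  refine Finset.dvd_sum fun ω _ => dvd_of_eq ?_
  refine Nat.card_congr (Equiv.ofBijective (fun m => ⟨m • ω.out, MulAction.mem_orbit _ m⟩) ⟨?_, ?_⟩)
  · intro m m' e
    have e' : m • ω.out = m' • ω.out := congrArg Subtype.val e
    exact (inv_mul_eq_one.mp (free (m'⁻¹ * m) ω.out (by rw [mul_smul, e', inv_smul_smul]))).symm
  · rintro ⟨y, m, rfl⟩
    exact ⟨m, rfl⟩

/-- An element of `B` normalising another conjugate is trivial. -/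
theorem Hyp.free_on_cls (h : Hyp t φ) (hB : IsPC B) (hB' : B' ∈ cls B) (hne : B' ≠ B) {b : G} (hb : b ∈ B)
    (hbN : conjSub b B' = B') : b = 1 := by
  obtain ⟨g, rfl⟩ := mem_cls.mp hB'
  by_contra hb1
  obtain ⟨e, he, hcard, -⟩ := h.normalizer_card (hB.conj g)
  set N := normalizer ((conjSub g B : Subgroup G) : Set G) with hN
  have hbN' : b ∈ N := conjSub_eq_iff.mp hbN
  haveI : ((conjSub g B).subgroupOf N).Normal := Subgroup.normal_in_normalizer
  have hidx : ((conjSub g B).subgroupOf N).index = e := by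
    have := ((conjSub g B).subgroupOf N).card_mul_index
    rw [Nat.card_congr (Subgroup.subgroupOfEquivOfLe (Subgroup.le_normalizer (H := conjSub g B))).toEquiv,
      hcard] at this
    exact Nat.eq_of_mul_eq_mul_left Nat.card_pos this
  have hmem : b ^ e ∈ conjSub g B := by
    have := Subgroup.pow_index_mem ((conjSub g B).subgroupOf N) ⟨b, hbN'⟩
    rw [hidx] at this
    exact this
  refine hne (h.pc_eq (hB.conj g) hB hmem (pow_mem hb e) fun e1 => hb1 ?_)
  have he30 : e ∣ 30 := by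
    simp only [List.mem_cons, List.not_mem_nil, or_false] at he
    rcases he with rfl | rfl | rfl <;> norm_num
  refine eq_one_of_coprime_pows e1 (congrArg Subtype.val (pow_card_eq_one' (x := (⟨b, hb⟩ : B)))) ?_
  exact ((show Nat.Coprime (Nat.card B) 30 from h.pc_coprime hB).coprime_dvd_right he30).symm

theorem Hyp.cls_mod (h : Hyp t φ) (hB : IsPC B) : Nat.card B ∣ (cls B).card - 1 := by
  classical
  have hclosed : ∀ (b : B) (C : {C : Subgroup G // C ∈ cls B ∧ C ≠ B}),
      conjSub (b : G) C.1 ∈ cls B ∧ conjSub (b : G) C.1 ≠ B := by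
    rintro b ⟨C, hC, hne⟩
    obtain ⟨g, rfl⟩ := mem_cls.mp hC
    refine ⟨mem_cls.mpr ⟨b * g, conjSub_mul _ _⟩, fun e => hne ?_⟩
    have hbN : conjSub (b : G) B = B := conjSub_eq_iff.mpr (Subgroup.le_normalizer b.2)
    exact Subgroup.map_injective (MulAut.conj (b : G)).injective (e.trans hbN.symm)
  letI : MulAction B {C : Subgroup G // C ∈ cls B ∧ C ≠ B} :=
    { smul := fun b C => ⟨conjSub (b : G) C.1, hclosed b C⟩
      one_smul := fun C => Subtype.ext (show conjSub ((1 : B) : G) C.1 = C.1 by rw [Subgroup.coe_one, conjSub_one])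
      mul_smul := fun b b' C => Subtype.ext (show conjSub ((b * b' : B) : G) C.1 = conjSub (b : G) (conjSub (b' : G) C.1) by
        rw [Subgroup.coe_mul, conjSub_mul]) }
  have := dvd_card_of_free (M := B) (X := {C : Subgroup G // C ∈ cls B ∧ C ≠ B}) fun b C e =>
    Subtype.ext (h.free_on_cls hB C.2.1 C.2.2 b.2 (congrArg Subtype.val e))
  refine this.trans (dvd_of_eq ?_)
  rw [Nat.card_eq_fintype_card, Fintype.card_subtype, ← Finset.card_erase_of_mem (self_mem_cls (B := B))]
  congr 1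
  ext C
  simp [and_comm]

theorem Hyp.cls_of_common_prime (h : Hyp t φ) (hB : IsPC B) (hB' : IsPC B') {q : ℕ} (hq : q.Prime)
    (h1 : q ∣ Nat.card B) (h2 : q ∣ Nat.card B') : B' ∈ cls B := by
  haveI : Fact q.Prime := ⟨hq⟩
  have key : ∀ C : Subgroup G, IsPC C → q ∣ Nat.card C →
      ∃ P : Sylow q G, (P : Subgroup G) ≤ C ∧ ∃ y ∈ (P : Subgroup G), y ≠ 1 := by
    intro C hC hdvd
    obtain ⟨y, hy⟩ := exists_prime_orderOf_dvd_card' q hdvd
    rw [← Subgroup.orderOf_coe] at hy
    have hy1 : (y : G) ≠ 1 := fun e => hq.one_lt.ne (by rw [← hy, e, orderOf_one])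
    obtain ⟨P, hP⟩ := (IsPGroup.of_card (n := 1) (by rw [Nat.card_zpowers, hy, pow_one]) :
      IsPGroup q (Subgroup.zpowers (y : G))).exists_le_sylow
    have hyP := hP (Subgroup.mem_zpowers _)
    refine ⟨P, fun z hz => ?_, y, hyP, hy1⟩
    haveI : Nontrivial (P : Subgroup G) := ⟨⟨y, hyP⟩, 1, fun e => hy1 (congrArg Subtype.val e)⟩
    haveI := P.2.center_nontrivial
    obtain ⟨⟨⟨c, hcP⟩, hcc⟩, hc1⟩ := exists_ne (1 : Subgroup.center (P : Subgroup G))
    have hcz : ∀ w ∈ (P : Subgroup G), w * c = c * w := fun w hw =>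
      congrArg Subtype.val (Subgroup.mem_center_iff.mp hcc ⟨w, hw⟩)
    have hcC : c ∈ C := (h.pc_mem hC y.2 hy1).2 ▸ mem_centralizer_singleton_iff.mpr (hcz y hyP).symm
    exact (h.pc_mem hC hcC fun e => hc1 (Subtype.ext (Subtype.ext e))).2 ▸
      mem_centralizer_singleton_iff.mpr (hcz z hz)
  obtain ⟨P, hP, y, hy, hy1⟩ := key B hB h1
  obtain ⟨P', hP', -⟩ := key B' hB' h2
  obtain ⟨g, hg⟩ := MulAction.exists_smul_eq G P P'
  have hgy : g * y * g⁻¹ ∈ (P' : Subgroup G) := by
    rw [← hg, Sylow.coe_subgroup_smul]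
    exact Subgroup.mem_map.mpr ⟨y, hy, by simp⟩
  refine mem_cls.mpr ⟨g, h.pc_eq (hB.conj g) hB' ?_ (hP' hgy) (by rw [ne_eq, conj_eq_one_iff]; exact hy1)⟩
  rw [mem_conjSub, show g⁻¹ * (g * y * g⁻¹) * g = y by group]
  exact hP hy

theorem Hyp.invols_coprime (h : Hyp t φ) : Nat.Coprime (invols G).card 30 := by
  have hg := h.card_eq
  have key : ∀ q n, q.Prime → (∀ P : Sylow q G, Nat.card (P : Subgroup G) = q ^ n) → q ^ n ∣ 120 →
      ¬ q ∣ (invols G).card := by
    intro q n hq hcard hdvd hI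
    haveI : Fact q.Prime := ⟨hq⟩
    obtain ⟨P⟩ : Nonempty (Sylow q G) := inferInstance
    have := P.pow_dvd_card_of_pow_dvd_card (n := n + 1) (by rw [hg, pow_succ]; exact Nat.mul_dvd_mul hdvd hI)
    rw [hcard P, Nat.pow_dvd_pow_iff_le_right hq.one_lt] at this
    omega
  obtain ⟨⟨u3, c3⟩, ⟨u5, c5⟩⟩ := h.exists_base_cfg
  haveI : Fact (Nat.Prime 3) := ⟨by norm_num⟩
  haveI : Fact (Nat.Prime 5) := ⟨by norm_num⟩
  rw [show (30 : ℕ) = 2 * 3 * 5 from rfl]
  refine Nat.Coprime.mul_right (Nat.Coprime.mul_right ?_ ?_) ?_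
  · exact Nat.Coprime.symm (Nat.prime_two.coprime_iff_not_dvd.mpr
      (key 2 3 Nat.prime_two (fun P => h.sylow P) (by norm_num)))
  · exact Nat.Coprime.symm (Nat.prime_three.coprime_iff_not_dvd.mpr
      (key 3 1 Nat.prime_three (fun P => by rw [h.sylow_prime c3 P, pow_one]) (by norm_num)))
  · exact Nat.Coprime.symm (Nat.prime_five.coprime_iff_not_dvd.mpr
      (key 5 1 Nat.prime_five (fun P => by rw [h.sylow_prime c5 P, pow_one]) (by norm_num)))

theorem Hyp.class_data (h : Hyp t φ) (hB : IsPC B) : ∃ a e : ℕ, (∀ C ∈ cls B, Nat.card C = a) ∧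
    e ∈ [2, 6, 10] ∧ goodC (invols G).card a e = true ∧ (cls B).card * a = 120 / e * (invols G).card := by
  obtain ⟨e, he, hcard, hmod⟩ := h.normalizer_card hB
  set a := Nat.card B with ha
  set I := (invols G).card with hI
  refine ⟨a, e, fun C hC => ?_, he, ?_⟩
  · obtain ⟨g, rfl⟩ := mem_cls.mp hC
    exact card_conjSub g
  have hg : (cls B).card * (a * e) = 120 * I := by rw [← hcard, card_cls, h.card_eq]
  have ha30 : Nat.Coprime a 30 := h.pc_coprime hB
  have hcop : Nat.Coprime a 120 := by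
    rw [show (120 : ℕ) = 2 * 2 * 30 from rfl]
    exact (((Nat.coprime_two_right.mpr (pc_odd hB)).mul_right (Nat.coprime_two_right.mpr (pc_odd hB))).mul_right ha30)
  have haI : a ∣ I := hcop.dvd_of_dvd_mul_left ⟨(cls B).card * e, by rw [← hg]; ring⟩
  obtain ⟨m, hm⟩ := haI
  have ha7 := h.pc_seven_le hB
  have hk : (cls B).card * e = 120 * m := by
    refine Nat.eq_of_mul_eq_mul_left (by omega : 0 < a) ?_
    rw [hm] at hg
    linarith [hg]
  have hkq : (cls B).card = 120 / e * m := by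
    simp only [List.mem_cons, List.not_mem_nil, or_false] at he
    rcases he with rfl | rfl | rfl <;> norm_num at hk ⊢ <;> omega
  refine ⟨goodC_iff.mpr ⟨ha7, h.pc_coprime hB, hmod, by rw [hm]; simp, ?_⟩, ?_⟩
  · rw [hm, Nat.mul_div_cancel_left m (by omega), ← hkq]
    obtain ⟨j, hj⟩ := h.cls_mod hB
    rw [← ha] at hj
    have hpos : 0 < (cls B).card := Finset.card_pos.mpr ⟨B, self_mem_cls⟩
    rw [show (cls B).card = 1 + a * j by omega, Nat.add_mul_mod_self_left, Nat.mod_eq_of_lt (by omega)]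
  · rw [hkq, hm]; ring

/-- The order of the group. -/
theorem Hyp.order (h : Hyp t φ) : Nat.card G = 175560 ∧ ∃ d : G, orderOf d = 15 := by
  classical
  obtain ⟨k, hk, heq⟩ := h.equation
  set I := (invols G).card with hI
  let 𝔅 : Finset (Subgroup G) := (pureSet G).image fun x => Subgroup.centralizer ({x} : Set G)
  have h𝔅 : ∀ {C : Subgroup G}, C ∈ 𝔅 ↔ IsPC C := fun {C} => by
    simp only [𝔅, Finset.mem_image, mem_pureSet]; rfl
  let 𝒞 : Finset (Finset (Subgroup G)) := 𝔅.image cls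
  have hC𝒞 : ∀ c ∈ 𝒞, ∃ B, IsPC B ∧ cls B = c := fun c hc => by
    obtain ⟨B, hB, rfl⟩ := Finset.mem_image.mp hc
    exact ⟨B, h𝔅.mp hB, rfl⟩
  have hdata : ∀ c ∈ 𝒞, ∃ a e : ℕ, (∀ C ∈ c, Nat.card C = a) ∧
      e ∈ [2, 6, 10] ∧ goodC I a e = true ∧ c.card * a = 120 / e * I := fun c hc => by
    obtain ⟨B, hB, rfl⟩ := hC𝒞 c hc
    exact h.class_data hB
  choose! a e hca he hg hsize using hdata
  have hsum : ∑ x ∈ pureSet G, Nat.card (Subgroup.centralizer ({x} : Set G)) =
      ∑ c ∈ 𝒞, I * (120 / e c * (a c - 1)) := by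
    have h1 : ∀ C ∈ 𝔅, ∑ x ∈ (pureSet G).filter (fun x => Subgroup.centralizer ({x} : Set G) = C),
        Nat.card (Subgroup.centralizer ({x} : Set G)) = Nat.card C * (Nat.card C - 1) := by
      intro C hC
      rw [Finset.sum_congr rfl (fun x hx => by rw [(Finset.mem_filter.mp hx).2]), Finset.sum_const, smul_eq_mul,
        mul_comm]
      congr 1
      have he' : (pureSet G).filter (fun x => Subgroup.centralizer ({x} : Set G) = C) =
          (Finset.univ.filter (fun x : G => x ∈ C)).erase 1 := by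
        ext x
        simp only [Finset.mem_filter, mem_pureSet, Finset.mem_erase, Finset.mem_univ, true_and]
        exact ⟨fun ⟨hx, hxC⟩ => ⟨hx.ne, hxC ▸ mem_centralizer_singleton_iff.mpr rfl⟩,
          fun ⟨hx1, hxC⟩ => h.pc_mem (h𝔅.mp hC) hxC hx1⟩
      rw [he', Finset.card_erase_of_mem (by simp [one_mem]), ← Fintype.card_subtype, Nat.card_eq_fintype_card]
    rw [← Finset.sum_fiberwise_of_maps_to (t := 𝔅) (g := fun x => Subgroup.centralizer ({x} : Set G))
      (fun x hx => Finset.mem_image_of_mem _ hx), Finset.sum_congr rfl h1,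
      ← Finset.sum_fiberwise_of_maps_to (t := 𝒞) (g := cls) (fun C hC => Finset.mem_image_of_mem _ hC)]
    refine Finset.sum_congr rfl fun c hc => ?_
    obtain ⟨B, hB, hBc⟩ := hC𝒞 c hc
    have hfib : 𝔅.filter (fun C => cls C = c) = c := by
      ext C
      rw [Finset.mem_filter]
      refine ⟨fun ⟨_, e'⟩ => e' ▸ self_mem_cls, fun hC => ?_⟩
      rw [← hBc] at hC ⊢
      refine ⟨h𝔅.mpr ?_, cls_eq hC⟩
      obtain ⟨g, rfl⟩ := mem_cls.mp hC
      exact hB.conj g
    rw [hfib, Finset.sum_congr rfl (fun C hC => by rw [hca c hc C hC]), Finset.sum_const, smul_eq_mul,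
      ← mul_assoc, hsize c hc]
    ring
  rw [hsum, ← Finset.mul_sum] at heq
  have h7 : 7 ∣ I := by
    have := h.seven_dvd
    rw [h.card_eq] at this
    exact (show Nat.Coprime 7 120 by norm_num).dvd_of_dvd_mul_left this
  have hIpos : 0 < I := Finset.card_pos.mpr ⟨t, Finset.mem_filter.mpr ⟨Finset.mem_univ _, h.t_sq, h.t_ne⟩⟩
  have heq' : I = k + ∑ c ∈ 𝒞, 120 / e c * (a c - 1) := by
    refine Nat.eq_of_mul_eq_mul_left hIpos ?_
    rw [mul_add, heq]; ring
  have hcop : ∀ c ∈ 𝒞, ∀ d ∈ 𝒞, c ≠ d → Nat.Coprime (a c) (a d) := by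
    intro c hc d hd hne
    obtain ⟨B, hB, rfl⟩ := hC𝒞 c hc
    obtain ⟨B', hB', rfl⟩ := hC𝒞 d hd
    rw [← hca _ hc B self_mem_cls, ← hca _ hd B' self_mem_cls]
    refine Nat.coprime_of_dvd fun q hq h1 h2 => hne ?_
    exact (cls_eq (h.cls_of_common_prime hB hB' hq h1 h2)).symm
  obtain ⟨hI', hk'⟩ := search 𝒞 a e (by rcases hk with e' | ⟨e', -⟩; exacts [Or.inl e', Or.inr e'])
    h7 h.invols_coprime he hg hcop heq'
  refine ⟨by rw [h.card_eq, ← hI, hI'], ?_⟩
  rcases hk with e' | ⟨-, hd⟩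
  · omega
  · exact hd

end CfsgLib.JankoOne
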